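import Cfsg.Agent.Lib.Helper87.Alperin

set_option autoImplicit false

namespace Cfsg.Agent.Lib.Helper87

open Cfsg Cfsg.FusionSystem

variable {Ω : Type*} [Group Ω] {S : Subgroup Ω}

/-- A power of `ψ` of `p`-power order with exponent `≡ 1` modulo `p ^ b`. -/
theorem exists_pow_pElement {A : Type*} [Group A] [Finite A] (p : ℕ) [hp : Fact p.Prime] (ψ : A)
    (b : ℕ) : ∃ k a : ℕ, (ψ ^ k) ^ (p ^ a) = 1 ∧ k ≡ 1 [MOD p ^ b] := by
  obtain ⟨a, m, hm, hn⟩ := Nat.exists_eq_pow_mul_and_not_dvd (orderOf_pos ψ).ne' p hp.out.ne_one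
  have hco : Nat.Coprime m (p ^ b) :=
    Nat.Coprime.pow_right b ((Nat.Prime.coprime_iff_not_dvd hp.out).2 hm).symm
  obtain ⟨k, hk0, hk1⟩ := Nat.chineseRemainder hco 0 1
  refine ⟨k, a, ?_, hk1⟩
  rw [← pow_mul, ← orderOf_dvd_iff_pow_eq_one, hn, mul_comm k]
  exact Nat.mul_dvd_mul_left _ ((Nat.modEq_zero_iff_dvd).1 hk0)

theorem fullyNormalized_top [Finite S] (F : FusionSystem S) : F.IsFullyNormalized S := by
  refine ⟨le_rfl, fun Q _ => ?_⟩
  have h1 : normalizerIn S S = S := inf_eq_left.2 Subgroup.le_normalizer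
  rw [h1]
  exact Subgroup.card_le_of_le (normalizerIn_le S Q)

/-- If `S` is fully automized and every fully normalized subgroup is receptive, then every fully
normalized subgroup is fully automized. -/
theorem fullyAutomized_of_receptive [Finite S] {p : ℕ} [Fact p.Prime] (hS : IsPGroup p S)
    {F : FusionSystem S} (hSa : F.IsFullyAutomized p S)
    (hrec : ∀ P : Subgroup Ω, F.IsFullyNormalized P → F.IsReceptive P) :
    ∀ (n : ℕ) (P : Subgroup Ω), Nat.card S - Nat.card P = n → F.IsFullyNormalized P →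
      F.IsFullyAutomized p P := by
  intro n
  induction n using Nat.strong_induction_on with
  | _ n ih =>
  intro P hn hP
  by_cases hPS : P = S
  · rw [hPS]
    exact hSa
  have hPlt : P < S := lt_of_le_of_ne hP.1 hPS
  have : Finite P := finite_of_le hP.1
  rw [fullyAutomized_iff F p hP.1]
  obtain ⟨T, hT, hle⟩ := exists_isSylIn_ge (autInducedBy_le_autGroup F hP.1)
    (isPGroup_autInducedBy hS P)
  by_contra hcon
  have hne : autInducedBy S P ≠ T := fun h => hcon (h ▸ hT)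
  have hlt : autInducedBy S P < T := lt_of_le_of_ne hle hne
  obtain ⟨τ, hτ, hτS⟩ := exists_mem_normalizerIn_not_mem (S := T) hT.2.1 le_rfl hlt
  have hτF : τ ∈ F.autGroup P := hT.1 hτ.1
  have hτm := (mem_autGroup_iff F hP.1 τ).1 hτF
  have hτi := iso_autFun hτm
  set R := normalizerIn S P with hR
  have hPR : P ≤ R := le_normalizerIn hP.1
  have hRS : R ≤ S := normalizerIn_le S P
  -- extend `τ` to `R`
  obtain ⟨ψ, hψ, hag⟩ := receptive_extend (hrec P hP) hτi R hRS inf_le_right (fun g hg => by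
    have h1 : τ * (conjToAut S P ⟨g, hg⟩ : autInducedBy S P) * τ⁻¹ ∈ autInducedBy S P :=
      (Subgroup.mem_normalizer_iff.1 hτ.2 _).1 (Subtype.prop _)
    obtain ⟨k, hk, hk'⟩ := (mem_autInducedBy_iff S P _).1 h1
    refine ⟨k, hk, fun x hx => ?_⟩
    have h2 := hk' (τ ⟨x, hx⟩)
    have hgx : g * x * g⁻¹ ∈ P := (Subgroup.mem_normalizer_iff.1 hg.2 x).1 hx
    rw [autFun_apply τ hx, ← h2, autFun_apply τ hgx]
    congr 1
    show τ ⟨g * x * g⁻¹, hgx⟩ = τ ((conjToAut S P ⟨g, hg⟩ : autInducedBy S P).1 (τ⁻¹ (τ ⟨x, hx⟩)))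
    rw [MulAut.inv_apply_self]
    rfl)
  rw [sup_eq_right.2 hPR] at hψ
  have : Finite R := finite_of_le hRS
  have hψP : ∀ y, y ∈ P ↔ ∃ x ∈ P, ψ x = y := by
    intro y
    rw [hτi.2]
    constructor
    · rintro ⟨x, hx, rfl⟩
      exact ⟨x, hx, hag x hx⟩
    · rintro ⟨x, hx, rfl⟩
      exact ⟨x, hx, (hag x hx).symm⟩
  have hψi : Iso F R R ψ :=
    hψ.iso_self (fun x hx => hψ.map_mem_normalizerIn hPR inf_le_right hψP hx)
  obtain ⟨ψ', hψ', eψ⟩ := hψi.exists_aut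
  -- powers of `ψ'` restrict to powers of `τ`
  have hpow : ∀ (k : ℕ) (x : P), (((ψ' ^ k) ⟨x, hPR x.2⟩ : R) : Ω) = ((τ ^ k) x : P) := by
    intro k
    induction k with
    | zero => intro x; rfl
    | succ k ih =>
      intro x
      rw [pow_succ, pow_succ, MulAut.mul_apply, MulAut.mul_apply, ← ih (τ x)]
      congr 2
      apply Subtype.ext
      rw [eψ]
      show ψ x = _
      rw [hag x x.2, autFun_coe]
  obtain ⟨b, hb⟩ := hT.2.1 ⟨τ, hτ.1⟩
  have hb' : τ ^ (p ^ b) = 1 := congrArg Subtype.val hb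
  obtain ⟨k, a, hka, hk1⟩ := exists_pow_pElement p ψ' b
  have hτk : τ ^ k = τ := by
    have h1 : τ ^ k = τ ^ 1 :=
      pow_eq_pow_iff_modEq.2 (hk1.of_dvd (orderOf_dvd_iff_pow_eq_one.2 hb'))
    rw [h1, pow_one]
  set ψ₁ := ψ' ^ k with hψ₁
  have hψ₁F : ψ₁ ∈ F.autGroup R := Subgroup.pow_mem _ hψ' k
  have hψ₁P : ∀ x : P, ((ψ₁ ⟨x, hPR x.2⟩ : R) : Ω) = (τ x : P) := by
    intro x
    rw [hψ₁, hpow, hτk]
  have hψ₁p : IsPGroup p (Subgroup.zpowers ψ₁) := by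
    rintro ⟨β, hβ⟩
    obtain ⟨i, rfl⟩ := Subgroup.mem_zpowers_iff.1 hβ
    refine ⟨a, Subtype.ext ?_⟩
    show (ψ₁ ^ i) ^ (p ^ a) = 1
    rw [← zpow_natCast, ← zpow_mul, mul_comm, zpow_mul, zpow_natCast, hka, one_zpow]
  -- a fully normalized conjugate of `R`
  obtain ⟨R', hRR', hR'⟩ := exists_fullyNormalized_conj F hRS
  have hcardPR : Nat.card P < Nat.card R := by
    obtain ⟨g, hg, hgP⟩ := exists_mem_normalizerIn_not_mem hS le_rfl hPlt
    refine Set.ncard_lt_ncard (s := (P : Set Ω)) (t := (R : Set Ω)) ?_ (Set.toFinite _)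
    exact ⟨hPR, fun h => hgP (h hg)⟩
  have hcardRR' : Nat.card R = Nat.card R' := isConj_card hRR'
  have hcardR'S : Nat.card R' ≤ Nat.card S := Subgroup.card_le_of_le hR'.1
  have hR'a : F.IsFullyAutomized p R' :=
    ih (Nat.card S - Nat.card R') (by omega) R' rfl hR'
  obtain ⟨χ₀, hχ₀⟩ := (isConj_iff F R R').1 hRR'
  obtain ⟨χ, hχ, hconj⟩ := exists_iso_conj_into hR'a hχ₀ (Subgroup.zpowers ψ₁)
    (by rw [Subgroup.zpowers_le]; exact hψ₁F) hψ₁p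
  obtain ⟨c, hc, hc'⟩ := hconj ψ₁ (Subgroup.mem_zpowers ψ₁)
  have hχP := (hχ.1.mono hPR).iso_img
  set P' := img P χ with hP'
  have hcN : c ∈ normalizerIn S P' := by
    rw [mem_normalizerIn_iff]
    refine ⟨hc, fun y => ⟨fun hy => ?_, fun hy => ?_⟩⟩
    · obtain ⟨x, hx, rfl⟩ := hχP.surj hy
      rw [← hc' ⟨x, hPR hx⟩, hψ₁P ⟨x, hx⟩]
      exact hχP.map_mem (τ ⟨x, hx⟩).2
    · obtain ⟨x, hx, e⟩ := hχP.surj hy
      have h1 := hc' ⟨(τ⁻¹ ⟨x, hx⟩ : P), hPR (τ⁻¹ ⟨x, hx⟩).2⟩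
      rw [hψ₁P (τ⁻¹ ⟨x, hx⟩), MulAut.apply_inv_self] at h1
      have h2 : c * y * c⁻¹ = c * χ (τ⁻¹ ⟨x, hx⟩ : P) * c⁻¹ := e.symm.trans h1
      have h3 : y = χ (τ⁻¹ ⟨x, hx⟩ : P) := mul_left_cancel (mul_right_cancel h2)
      rw [h3]
      exact hχP.map_mem (τ⁻¹ ⟨x, hx⟩).2
  have hR'N : R' ≤ normalizerIn S P' := by
    intro y hy
    obtain ⟨r, hr, rfl⟩ := hχ.surj hy
    exact hχ.1.map_mem_normalizerIn hPR inf_le_right hχP.2 hr
  have hNeq : R' = normalizerIn S P' := by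
    refine eq_of_le_of_card_le'' (normalizerIn_le S P') hR'N ?_
    rw [← hcardRR']
    exact hP.2 P' hχP.isConj
  rw [← hNeq] at hcN
  obtain ⟨r, hr, rfl⟩ := hχ.surj hcN
  apply hτS
  rw [mem_autInducedBy_iff]
  refine ⟨r, hRS hr, fun x => ?_⟩
  have h1 := hc' ⟨x, hPR x.2⟩
  rw [← hχ.1.map_conj hr (hPR x.2)] at h1
  have h2 := hχ.1.inj (ψ₁ ⟨x, hPR x.2⟩).2
    (R.mul_mem (R.mul_mem hr (hPR x.2)) (R.inv_mem hr)) h1
  rw [← hψ₁P x, h2]

end Cfsg.Agent.Lib.Helper87
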