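import Cfsg.Agent.Lib.Helper87.PPowerNormal
import Cfsg.Agent.Lib.Helper87.SatCrit

set_option autoImplicit false

namespace Cfsg.Agent.Lib.Helper87

open Cfsg Cfsg.FusionSystem

variable {Ω : Type*} [Group Ω] {S : Subgroup Ω}

theorem autFun_mul {P : Subgroup Ω} (α β : MulAut P) {x : Ω} (hx : x ∈ P) :
    autFun (α * β) x = autFun α (autFun β x) := by
  rw [autFun_apply _ hx, autFun_apply β hx, autFun_coe]
  rfl

theorem autFun_map_mul {P : Subgroup Ω} (α : MulAut P) {x y : Ω} (hx : x ∈ P) (hy : y ∈ P) :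
    autFun α (x * y) = autFun α x * autFun α y := by
  rw [autFun_apply _ hx, autFun_apply _ hy, autFun_apply _ (P.mul_mem hx hy)]
  have : (⟨x * y, P.mul_mem hx hy⟩ : P) = ⟨x, hx⟩ * ⟨y, hy⟩ := rfl
  rw [this, map_mul]
  rfl

theorem autFun_inv_autFun {P : Subgroup Ω} (α : MulAut P) {x : Ω} (hx : x ∈ P) :
    autFun α⁻¹ (autFun α x) = x := by
  rw [autFun_apply α hx, autFun_coe, MulAut.inv_apply_self]

theorem autFun_autFun_inv {P : Subgroup Ω} (α : MulAut P) {x : Ω} (hx : x ∈ P) :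
    autFun α (autFun α⁻¹ x) = x := by
  rw [autFun_apply α⁻¹ hx, autFun_coe, MulAut.apply_inv_self]

theorem autFun_one {P : Subgroup Ω} {x : Ω} (hx : x ∈ P) : autFun (1 : MulAut P) x = x := by
  rw [autFun_apply _ hx]
  rfl

theorem aut_center_mem {T : Subgroup Ω} (α : MulAut T) {z : Ω}
    (hz : z ∈ T ⊓ Subgroup.centralizer (T : Set Ω)) :
    autFun α z ∈ T ⊓ Subgroup.centralizer (T : Set Ω) := by
  refine ⟨autFun_mem α hz.1, Subgroup.mem_centralizer_iff.2 ?_⟩
  intro x hx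
  have h1 : x = autFun α (autFun α⁻¹ x) := (autFun_autFun_inv α hx).symm
  have h2 := (Subgroup.mem_centralizer_iff.1 hz.2) _ (autFun_mem α⁻¹ hx)
  rw [h1, ← autFun_map_mul α (autFun_mem _ hx) hz.1, ← autFun_map_mul α hz.1 (autFun_mem _ hx), h2]

/-- The automorphisms of `T` satisfying the extension condition of a normal subsystem. -/
def ExtGood (F : FusionSystem S) (T : Subgroup Ω) : Subgroup (MulAut T) where
  carrier := {α | ∃ β ∈ F.autGroup (T ⊔ centralizerIn S T), (∀ x ∈ T, autFun β x = autFun α x) ∧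
    ∀ c ∈ centralizerIn S T, c⁻¹ * autFun β c ∈ T ⊓ Subgroup.centralizer (T : Set Ω)}
  mul_mem' := by
    rintro α₁ α₂ ⟨β₁, hβ₁, e₁, c₁⟩ ⟨β₂, hβ₂, e₂, c₂⟩
    have hT : T ≤ T ⊔ centralizerIn S T := le_sup_left
    have hC : centralizerIn S T ≤ T ⊔ centralizerIn S T := le_sup_right
    refine ⟨β₁ * β₂, Subgroup.mul_mem _ hβ₁ hβ₂, fun x hx => ?_, fun c hc => ?_⟩
    · rw [autFun_mul _ _ (hT hx), autFun_mul _ _ hx, e₂ x hx, e₁ _ (autFun_mem α₂ hx)]
    · have h1 : autFun β₂ c = c * (c⁻¹ * autFun β₂ c) := by group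
      rw [autFun_mul _ _ (hC hc), h1, autFun_map_mul β₁ (hC hc) (hT (c₂ c hc).1), ← mul_assoc,
        e₁ _ (c₂ c hc).1]
      exact Subgroup.mul_mem _ (c₁ c hc) (aut_center_mem α₁ (c₂ c hc))
  one_mem' := by
    refine ⟨1, Subgroup.one_mem _, fun x hx => ?_, fun c hc => ?_⟩
    · rw [autFun_one hx, autFun_one ((le_sup_left : T ≤ T ⊔ centralizerIn S T) hx)]
    · rw [autFun_one ((le_sup_right : _ ≤ T ⊔ centralizerIn S T) hc)]
      simp
  inv_mem' := by
    rintro α ⟨β, hβ, e, c'⟩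
    have hT : T ≤ T ⊔ centralizerIn S T := le_sup_left
    have hC : centralizerIn S T ≤ T ⊔ centralizerIn S T := le_sup_right
    have e' : ∀ x ∈ T, autFun β⁻¹ x = autFun α⁻¹ x := by
      intro x hx
      have h1 := e _ (autFun_mem α⁻¹ hx)
      rw [autFun_autFun_inv α hx] at h1
      conv_lhs => rw [← h1]
      rw [autFun_inv_autFun β (hT (autFun_mem α⁻¹ hx))]
    refine ⟨β⁻¹, Subgroup.inv_mem _ hβ, e', fun c hc => ?_⟩
    have h1 : autFun β c = c * (c⁻¹ * autFun β c) := by group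
    have h2 := autFun_inv_autFun β (hC hc)
    rw [h1, autFun_map_mul β⁻¹ (hC hc) (hT (c' c hc).1), e' _ (c' c hc).1] at h2
    have h3 : c⁻¹ * autFun β⁻¹ c = (autFun α⁻¹ (c⁻¹ * autFun β c))⁻¹ := by
      rw [eq_inv_iff_mul_eq_one, mul_assoc, h2]
      group
    rw [h3]
    exact Subgroup.inv_mem _ (aut_center_mem α⁻¹ (c' c hc))

theorem fullyNormalized_of_normal [Finite S] (F : FusionSystem S) {T : Subgroup Ω} (hTS : T ≤ S)
    (hTn : S ≤ Subgroup.normalizer (T : Set Ω)) : F.IsFullyNormalized T := by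
  refine ⟨hTS, fun Q _ => ?_⟩
  have h1 : normalizerIn S T = S := inf_eq_left.2 hTn
  rw [h1]
  exact Subgroup.card_le_of_le (normalizerIn_le S Q)

theorem inn_le_extGood (F : FusionSystem S) {T : Subgroup Ω} (hTS : T ≤ S) :
    autInducedBy T T ≤ ExtGood F T := by
  intro α hα
  obtain ⟨t, ht, e⟩ := (mem_autInducedBy_iff _ _ α).1 hα
  have hQ : T ⊔ centralizerIn S T ≤ S := sup_le hTS (centralizerIn_le S T)
  have htQ : t ∈ T ⊔ centralizerIn S T := (le_sup_left : T ≤ _) ht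
  refine ⟨(conjToAut (T ⊔ centralizerIn S T) (T ⊔ centralizerIn S T)
    ⟨t, htQ, Subgroup.le_normalizer htQ⟩ : autInducedBy _ _), ?_, fun x hx => ?_, fun c hc => ?_⟩
  · refine autInducedBy_le_autGroup F hQ ?_
    obtain ⟨g, hg, e'⟩ := (mem_autInducedBy_iff _ _ _).1 (Subtype.prop (conjToAut
      (T ⊔ centralizerIn S T) (T ⊔ centralizerIn S T) ⟨t, htQ, Subgroup.le_normalizer htQ⟩))
    exact (mem_autInducedBy_iff _ _ _).2 ⟨g, hQ hg, e'⟩
  · rw [autFun_apply _ ((le_sup_left : T ≤ T ⊔ centralizerIn S T) hx), autFun_apply α hx, e]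
    rfl
  · rw [autFun_apply _ ((le_sup_right : _ ≤ T ⊔ centralizerIn S T) hc)]
    show c⁻¹ * (t * c * t⁻¹) ∈ _
    have := ((mem_centralizerIn_iff S T c).1 hc).2 t ht
    rw [this]
    simp

theorem coprime_mem_extGood [Finite S] {p : ℕ} [Fact p.Prime] (hS : IsPGroup p S)
    {F : FusionSystem S} (hF : F.IsSaturated p) {T : Subgroup Ω} (hTsc : F.StronglyClosed T)
    (hT : F.hyperfocalSubgroup p ≤ T) {α : MulAut T} (hα : α ∈ F.autGroup T)
    (hc : Nat.Coprime (orderOf α) p) : α ∈ ExtGood F T := by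
  have hTS := hTsc.1
  have hTfin : Finite T := finite_of_le hTS
  have hfn := fullyNormalized_of_normal F hTS (StronglyClosed.le_normalizer hTsc)
  have hrec := fullyNormalized_receptive hS hF hfn
  have hiso : Iso F T T (autFun α) :=
    ((mem_autGroup_iff F hTS α).1 hα).iso_self (fun x hx => autFun_mem α hx)
  obtain ⟨f', hf', ef, hfc⟩ := receptive_extend_centralizer hrec hiso
  have hTQ : T ≤ T ⊔ centralizerIn S T := le_sup_left
  have hCQ : centralizerIn S T ≤ T ⊔ centralizerIn S T := le_sup_right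
  have hQ : T ⊔ centralizerIn S T ≤ S := sup_le hTS (centralizerIn_le S T)
  have hQfin : Finite (T ⊔ centralizerIn S T : Subgroup Ω) := finite_of_le hQ
  have hmap : ∀ x ∈ T ⊔ centralizerIn S T, f' x ∈ T ⊔ centralizerIn S T :=
    hf'.map_sup_mem (fun x hx => hTQ (by rw [ef x hx]; exact autFun_mem α hx))
      (fun c hc => hCQ (hfc c hc))
  obtain ⟨β₀, hβ₀, eβ₀⟩ := (hf'.iso_self hmap).exists_aut
  obtain ⟨j, hj, hαj⟩ := exists_pow_coprime hc (orderOf_pos β₀)
  have hag := pow_agree_mod (T := ⊥) hTQ bot_le (α := α) (β := β₀) (fun t ht => by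
    rw [Subgroup.mem_bot] at ht ⊢
    rw [ht, autFun_apply _ (Subgroup.one_mem _)]
    have : (⟨1, Subgroup.one_mem _⟩ : (T ⊔ centralizerIn S T : Subgroup Ω)) = 1 := rfl
    rw [this, map_one]
    rfl) (fun y => by
    rw [Subgroup.mem_bot, autFun_apply _ (hTQ y.2), eβ₀, ef _ y.2, autFun_coe]
    group) j
  have hβ : β₀ ^ j ∈ F.autGroup (T ⊔ centralizerIn S T) := Subgroup.pow_mem _ hβ₀ j
  have eT : ∀ x ∈ T, autFun (β₀ ^ j) x = autFun α x := by
    intro x hx
    have h1 := hag ⟨x, hx⟩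
    rw [Subgroup.mem_bot, hαj, inv_mul_eq_one] at h1
    rw [autFun_apply α hx, h1]
  refine ⟨β₀ ^ j, hβ, eT, fun c hc => ⟨?_, ?_⟩⟩
  · have hres : (⟨β₀ ^ j, hβ⟩ : F.autGroup (T ⊔ centralizerIn S T)) ∈
        pResidual p (F.autGroup (T ⊔ centralizerIn S T)) := by
      refine Cfsg.Agent.Lib.Helper2.mem_pResidual_of_coprime ?_
      rwa [Subgroup.orderOf_mk]
    have h1 := hT (mem_hyperfocal_of hQ hres ⟨c, hCQ hc⟩)
    rw [autFun_apply _ (hCQ hc)]
    exact h1
  · have hcc : c ∈ Subgroup.centralizer (T : Set Ω) := (Subgroup.mem_inf.1 hc).2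
    refine Subgroup.mul_mem _ (Subgroup.inv_mem _ hcc) (Subgroup.mem_centralizer_iff.2 ?_)
    intro x hx
    have h1 : x = autFun (β₀ ^ j) (autFun α⁻¹ x) := by
      rw [eT _ (autFun_mem _ hx), autFun_autFun_inv α hx]
    have h2 := (Subgroup.mem_centralizer_iff.1 hcc) _ (autFun_mem α⁻¹ hx)
    rw [h1, ← autFun_map_mul _ (hTQ (autFun_mem _ hx)) (hCQ hc),
      ← autFun_map_mul _ (hCQ hc) (hTQ (autFun_mem _ hx)), h2]

/-- A saturated subsystem of `p`-power index over a subgroup `T` normal in `S` is normal. -/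
theorem normal_of_pPowerIndex [Finite S] {p : ℕ} [Fact p.Prime] (hS : IsPGroup p S)
    {F : FusionSystem S} (hF : F.IsSaturated p) {T : Subgroup Ω} (hTS : T ≤ S)
    (hTn : ∀ s ∈ S, ∀ t ∈ T, s * t * s⁻¹ ∈ T) (hT : F.hyperfocalSubgroup p ≤ T)
    {E : FusionSystem T} (hEs : E.IsSaturated p) (hEi : E.HasPPowerIndexIn F p) :
    E.IsNormalIn F p := by
  have hTfin : Finite T := finite_of_le hTS
  have hTp : IsPGroup p T := hS.to_le hTS
  have hTsc := stronglyClosed_of_hyperfocal_le hS hF hTS hTn hT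
  have hinv := invF_of_pPowerIndex hTp hEs hEi
  have hfrat := fratF_of_pPowerIndex hS hF hEi hTsc hinv
  refine ⟨⟨hEs, hF, (isInvariantIn_iff _ _).2 ⟨hEi.1, hTsc, hinv, hfrat⟩⟩, fun α hα => ?_⟩
  have hgood : α ∈ ExtGood F T := by
    obtain ⟨w, hw, t, ht, e⟩ := aut_eq_residual_mul_conj
      (fullyNormalized_fullyAutomized hTp hEs (fullyNormalized_top E)) hα
    have htT : t ∈ T := (normalizerIn_le T T) ht
    have h1 : (w : MulAut T) ∈ ExtGood F T := by
      have h2 := residual_map_mono p (autGroup_mono hEi.1 T) ⟨w, hw, rfl⟩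
      rw [Cfsg.Agent.Lib.Helper2.map_pResidual_subtype] at h2
      refine (Subgroup.closure_le _).2 ?_ h2
      rintro a ⟨ha, hc⟩
      exact coprime_mem_extGood hS hF hTsc hT ha hc
    have h3 : α = (w : MulAut T) *
        ((conjToAut T T ⟨t, htT, Subgroup.le_normalizer htT⟩ : autInducedBy T T) : MulAut T) := by
      ext x
      rw [e x, MulAut.mul_apply, ← autFun_coe]
      rfl
    rw [h3]
    exact Subgroup.mul_mem _ h1 (inn_le_extGood F hTS (Subtype.prop _))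
  obtain ⟨β, hβ, e1, e2⟩ := hgood
  refine ⟨β, hβ, fun x => ?_, fun c hc => ?_⟩
  · rw [← autFun_coe β, ← autFun_coe α]
    exact e1 x x.2
  · rw [← autFun_coe β]
    exact e2 c hc

end Cfsg.Agent.Lib.Helper87
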