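import Cfsg.Agent.Lib.Helper87.SubReceptive

set_option autoImplicit false

namespace Cfsg.Agent.Lib.Helper87

open Cfsg Cfsg.FusionSystem

variable {Ω : Type*} [Group Ω] {S : Subgroup Ω}

theorem exists_conj_stab {D P : Subgroup Ω}
    (H1 : normalizerIn S P ≤ Subgroup.normalizer (D : Set Ω)) :
    ∀ k ∈ normalizerIn S P, ∃ σ ∈ ASt S D (stabAut D P) id,
      ∀ x : D, ((σ x : D) : Ω) = k * x * k⁻¹ := by
  intro k hk
  refine ⟨(conjToAut S D ⟨k, hk.1, H1 hk⟩ : autInducedBy S D), ⟨fun x => ?_, k, hk.1, fun x => rfl⟩,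
    fun x => rfl⟩
  exact Subgroup.mem_normalizer_iff.1 hk.2 x

/-- Fully automized part of `fa_rec_of_sub`. -/
theorem fa_of_sub [Finite S] {p : ℕ} [Fact p.Prime] {F : FusionSystem S}
    {D P : Subgroup Ω} (hDS : D ≤ S) (hPD : P ≤ D)
    (hsyl : IsSylIn p (ASt S D (stabAut D P) id) (stabAut D P ⊓ F.autGroup D))
    (H1 : normalizerIn S P ≤ Subgroup.normalizer (D : Set Ω))
    (H3 : ∀ f : Ω → Ω, Iso F P P f → ∃ f', Iso F D D f' ∧ ∀ x ∈ P, f' x = f x) :
    F.IsFullyAutomized p P := by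
  have hPS : P ≤ S := hPD.trans hDS
  have hfinD : Finite D := finite_of_le hDS
  have hfinP : Finite P := finite_of_le hPS
  have hconjD := exists_conj_stab (S := S) H1
  have r : ∀ l : ↥(stabAut D P ⊓ F.autGroup D), ∃ b ∈ F.autGroup P,
      ∀ t : P, ((b t : P) : Ω) = autFun l.1 t := by
    intro l
    obtain ⟨b, hb, e, -⟩ := restrict_aut (F := F) hDS hPD l.2.2 (fun t ht => by
      rw [autFun_apply _ (hPD ht)]
      exact (l.2.1 ⟨t, hPD ht⟩).1 ht)
    exact ⟨b, hb, e⟩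
  let res : ↥(stabAut D P ⊓ F.autGroup D) →* ↥(F.autGroup P) :=
    MonoidHom.mk' (fun l => ⟨(r l).choose, (r l).choose_spec.1⟩) (by
      intro a b
      apply Subtype.ext
      apply MulEquiv.ext
      intro t
      apply Subtype.ext
      show (((r (a * b)).choose t : P) : Ω) = (((r a).choose ((r b).choose t) : P) : Ω)
      rw [(r (a * b)).choose_spec.2 t, (r a).choose_spec.2, (r b).choose_spec.2 t]
      exact autFun_mul _ _ (hPD t.2))
  have hres : ∀ (l : ↥(stabAut D P ⊓ F.autGroup D)) (t : P),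
      ((((res l : F.autGroup P) : MulAut P) t : P) : Ω) = autFun l.1 t :=
    fun l t => (r l).choose_spec.2 t
  have hsurj : Function.Surjective res := by
    rintro ⟨β, hβ⟩
    obtain ⟨f', hf', e⟩ := H3 _ (iso_autFun ((mem_autGroup_iff F hPS β).1 hβ))
    obtain ⟨l, hl, el⟩ := hf'.exists_aut
    have hst : l ∈ stabAut D P := by
      intro x
      rw [el x]
      constructor
      · intro hx
        rw [e x hx]
        exact autFun_mem β hx
      · intro hx
        have h1 : f' (autFun β⁻¹ (f' x)) = f' x := by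
          rw [e _ (autFun_mem _ hx), autFun_autFun_inv β hx]
        have h2 := hf'.1.inj (hPD (autFun_mem β⁻¹ hx)) x.2 h1
        rw [← h2]
        exact autFun_mem _ hx
    refine ⟨⟨l, hst, hl⟩, ?_⟩
    apply Subtype.ext
    apply MulEquiv.ext
    intro t
    apply Subtype.ext
    rw [hres, autFun_apply _ (hPD t.2), el, e t t.2, autFun_coe]
  refine ⟨hPS, hsyl.toSylow.mapSurjective hsurj, ?_⟩
  ext β
  rw [Subgroup.mem_subgroupOf]
  constructor
  · rintro ⟨l, hl, rfl⟩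
    obtain ⟨-, n, hn, e⟩ := (Subgroup.mem_subgroupOf.1 hl : (l : MulAut D) ∈ ASt S D _ id)
    refine (mem_autInducedBy_iff S P _).2 ⟨n, hn, fun t => ?_⟩
    rw [hres, autFun_apply _ (hPD t.2)]
    exact (e ⟨t, hPD t.2⟩).symm
  · intro hβ
    obtain ⟨n, hn, e⟩ := (mem_autInducedBy_iff S P _).1 hβ
    obtain ⟨σ, hσ, eσ⟩ := hconjD n ⟨hn, mem_normalizer_of_induces e⟩
    have hσK := hsyl.1 hσ
    refine ⟨⟨σ, hσK⟩, Subgroup.mem_subgroupOf.2 hσ, ?_⟩
    apply Subtype.ext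
    apply MulEquiv.ext
    intro t
    apply Subtype.ext
    rw [hres, autFun_apply _ (hPD t.2), eσ, e]

/-- Extension part of `fa_rec_of_sub`, for one isomorphism. -/
theorem extend_of_sub [Finite S] {p : ℕ} [Fact p.Prime] (hS : IsPGroup p S) {F : FusionSystem S}
    {D P : Subgroup Ω} (hD : F.IsReceptive D) (hPD : P ≤ D)
    (hsyl : IsSylIn p (ASt S D (stabAut D P) id) (stabAut D P ⊓ F.autGroup D))
    (H1 : normalizerIn S P ≤ Subgroup.normalizer (D : Set Ω))
    {R₀ R : Subgroup Ω} {f f' : Ω → Ω} (hf : Iso F R₀ P f) (hf' : Iso F R D f') (hR₀R : R₀ ≤ R)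
    (ef : ∀ x ∈ R₀, f' x = f x) (N : Subgroup Ω) (hNS : N ≤ S)
    (hNn : N ≤ Subgroup.normalizer (R₀ : Set Ω)) (hnorm : N ≤ Subgroup.normalizer (R : Set Ω))
    (hN : ∀ g ∈ N, ∃ k ∈ S, ∀ x ∈ R₀, f (g * x * g⁻¹) = k * f x * k⁻¹) :
    ∃ ρ, Mor F (R₀ ⊔ N) ρ ∧ ∀ x ∈ R₀, ρ x = f x := by
  have hDS : D ≤ S := hD.1
  have hPS : P ≤ S := hPD.trans hDS
  have hfinD : Finite D := finite_of_le hDS
  have hfinP : Finite P := finite_of_le hPS
  have hconjD := exists_conj_stab (S := S) H1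
  obtain ⟨ψ, hψ, hψf, hfψ⟩ := hf'.symm
  have himg : img D (id : Ω → Ω) = D := (Iso.refl F hDS).img_eq
  have hL : fixAut D P ⊓ F.autGroup D ≤ stabAut D P ⊓ F.autGroup D :=
    inf_le_inf_right _ (fixAut_le_stabAut D P)
  obtain ⟨χ, hχ, ρ, hρ, eρ⟩ := extend_marked (F := F) (X := D) (K := stabAut D P) (φ := id) hS
    (mor_id F hDS) (himg.symm ▸ hD) hsyl (fixAut D P ⊓ F.autGroup D) hL (by
      intro σ hσ l hl
      have hσK := hsyl.1 hσ
      refine ⟨fun x hx => ?_, Subgroup.mul_mem _ (Subgroup.mul_mem _ hσK.2 hl.2)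
        (Subgroup.inv_mem _ hσK.2)⟩
      have h1 : ((σ⁻¹ x : D) : Ω) ∈ P := ((Subgroup.inv_mem _ hσK.1) x).1 hx
      show σ (l (σ⁻¹ x)) = x
      rw [hl.1 _ h1, MulAut.apply_inv_self]) hψ.1 N hNS (by
      intro n hn
      obtain ⟨k, hk, ek⟩ := hN n hn
      have hnS := hNS hn
      have hnn := hNn hn
      have hnR : n ∈ Subgroup.normalizer (R : Set Ω) := hnorm hn
      have hc : Iso F R R (fun x => n * x * n⁻¹) := by
        have : Finite R := finite_of_le hf'.le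
        exact (mor_conj F hf'.le hnS).iso_self
          (fun x hx => (Subgroup.mem_normalizer_iff.1 hnR x).1 hx)
      obtain ⟨κ, hκ, eκ⟩ := ((hψ.trans hc).trans hf').exists_aut
      have eκ' : ∀ x : D, ((κ x : D) : Ω) = f' (n * ψ x * n⁻¹) := eκ
      have hkP : k ∈ normalizerIn S P := by
        refine ⟨hk, ?_⟩
        have hle : ∀ y ∈ P, k * y * k⁻¹ ∈ P := by
          intro y hy
          obtain ⟨x, hx, rfl⟩ := hf.surj hy
          rw [← ek x hx]
          exact hf.map_mem ((Subgroup.mem_normalizer_iff.1 hnn x).1 hx)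
        have hiso := (mor_conj F hPS hk).iso_self hle
        obtain ⟨β, -, eβ⟩ := hiso.exists_aut
        exact mem_normalizer_of_induces eβ
      obtain ⟨σ, hσ, eσ⟩ := hconjD k hkP
      have hσK := hsyl.1 hσ
      refine ⟨κ, ?_, fun x => ?_⟩
      · have h1 : κ = σ * (σ⁻¹ * κ) := by group
        rw [h1]
        refine Subgroup.mul_mem_sup hσ ⟨fun x hx => ?_, Subgroup.mul_mem _
          (Subgroup.inv_mem _ hσK.2) hκ⟩
        show σ⁻¹ (κ x) = x
        have h2 : κ x = σ x := by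
          apply Subtype.ext
          obtain ⟨r, hr, er⟩ := hf.surj hx
          rw [eκ', eσ, ← er, ← ef r hr, hψf r (hR₀R hr),
            ef _ ((Subgroup.mem_normalizer_iff.1 hnn r).1 hr), ek r hr, ef r hr]
        rw [h2, MulAut.inv_apply_self]
      · rw [eκ', hψf _ ((Subgroup.mem_normalizer_iff.1 hnR _).1 (hψ.map_mem x.2))])
  have hle : R₀ ≤ img D ψ := by
    intro x hx
    rw [hψ.img_eq]
    exact hR₀R hx
  refine ⟨ρ, hρ.mono (sup_le_sup_right hle N), fun x hx => ?_⟩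
  have hfx : f x ∈ P := hf.map_mem hx
  have h1 := eρ ⟨f x, hPD hfx⟩
  have h2 : ψ (f x) = x := by rw [← ef x hx, hψf x (hR₀R hx)]
  rw [show ψ ((⟨f x, hPD hfx⟩ : D) : Ω) = x from h2, hχ.1 _ hfx] at h1
  exact h1

end Cfsg.Agent.Lib.Helper87
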