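import Cfsg.Agent.Lib.Helper87.LocalSat
import Cfsg.Agent.Lib.Helper87.SubReceptive2

set_option autoImplicit false

namespace Cfsg.Agent.Lib.Helper87

open Cfsg Cfsg.FusionSystem

variable {Ω : Type*} [Group Ω] {S : Subgroup Ω}

/-- The saturation axioms hold for all subgroups of order larger than `n`. -/
def SatAbove (F : FusionSystem S) (p n : ℕ) : Prop :=
  ∀ X : Subgroup Ω, X ≤ S → n < Nat.card X → SatAt F p X

/-- Induction principle: the isomorphisms between members of the class of `X` are generated by restrictions of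
maps defined on strictly larger subgroups. -/
def ClassInd (F : FusionSystem S) (X : Subgroup Ω) : Prop :=
  ∀ R : Subgroup Ω → Subgroup Ω → (Ω → Ω) → Prop,
    (∀ {A B : Subgroup Ω} {f g : Ω → Ω}, R A B f → (∀ x ∈ A, f x = g x) → R A B g) →
    (∀ {A B C : Subgroup Ω} {f g : Ω → Ω}, F.IsConj X A → Iso F A B f → Iso F B C g → R A B f →
      R B C g → R A C (g ∘ f)) →
    (∀ {A B : Subgroup Ω} {f g : Ω → Ω}, F.IsConj X A → Iso F A B f → Iso F B A g →
      (∀ x ∈ A, g (f x) = x) → R A B f → R B A g) →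
    (∀ {A B P : Subgroup Ω} {f : Ω → Ω}, F.IsConj X A → A ≤ P → A ≠ P → P ≤ normalizerIn S A →
      Mor F P f → Iso F A B f → R A B f) →
    ∀ {A B : Subgroup Ω} {f : Ω → Ω}, F.IsConj X A → Iso F A B f → R A B f

/-- An element normalizing the image of a marking induces an automorphism of the source. -/
theorem exists_induced_aut [Finite S] {F : FusionSystem S} {X : Subgroup Ω} {φ : Ω → Ω}
    (hφ : Mor F X φ) {n : Ω} (hn : n ∈ S)
    (hnn : n ∈ Subgroup.normalizer ((img X φ : Subgroup Ω) : Set Ω)) :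
    ∃ κ ∈ F.autGroup X, ∀ x : X, n * φ x * n⁻¹ = φ (κ x : X) := by
  have : Finite (img X φ : Subgroup Ω) := finite_of_le hφ.img_le
  have hc : Iso F (img X φ) (img X φ) (fun y => n * y * n⁻¹) :=
    (mor_conj F hφ.img_le hn).iso_self (fun y hy => (Subgroup.mem_normalizer_iff.1 hnn y).1 hy)
  obtain ⟨g, hg, -, hfg⟩ := hφ.iso_img.symm
  obtain ⟨κ, hκ, e⟩ := ((hφ.iso_img.trans hc).trans hg).exists_aut
  refine ⟨κ, hκ, fun x => ?_⟩
  rw [e x]
  exact (hfg _ (hc.map_mem (hφ.iso_img.map_mem x.2))).symm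

/-- `A` and `B` are linked: their normalizers map to the normalizer of a common conjugate. -/
def Lk (F : FusionSystem S) (A B : Subgroup Ω) : Prop :=
  ∃ (C : Subgroup Ω) (u v : Ω → Ω), Mor F (normalizerIn S A) u ∧ Mor F (normalizerIn S B) v ∧
    Iso F A C u ∧ Iso F B C v

theorem Lk.refl (F : FusionSystem S) {A : Subgroup Ω} (hA : A ≤ S) : Lk F A A :=
  ⟨A, id, id, mor_id F (normalizerIn_le S A), mor_id F (normalizerIn_le S A), Iso.refl F hA,
    Iso.refl F hA⟩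

theorem Lk.symm {F : FusionSystem S} {A B : Subgroup Ω} (h : Lk F A B) : Lk F B A := by
  obtain ⟨C, u, v, h1, h2, h3, h4⟩ := h
  exact ⟨C, v, u, h2, h1, h4, h3⟩

theorem Lk.trans_of {F : FusionSystem S} {A B D : Subgroup Ω}
    (H : ∀ (C₁ C₂ Y : Subgroup Ω) (g : Ω → Ω), Nat.card C₁ = Nat.card D → C₁ ≤ Y →
      Y ≤ normalizerIn S C₁ → Nat.card Y = Nat.card (normalizerIn S D) → Mor F Y g →
      Iso F C₁ C₂ g → Lk F C₁ C₂)
    (h₁ : Lk F A D) (h₂ : Lk F D B) : Lk F A B := by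
  obtain ⟨C₁, u₁, v₁, hu₁, hv₁, iu₁, iv₁⟩ := h₁
  obtain ⟨C₂, u₂, v₂, hu₂, hv₂, iu₂, iv₂⟩ := h₂
  have hDN : D ≤ normalizerIn S D := le_normalizerIn iv₁.le
  obtain ⟨w, hw, hwv, hvw⟩ := hv₁.iso_img.symm
  have hC₁Y : C₁ ≤ img (normalizerIn S D) v₁ := by
    intro y hy
    obtain ⟨x, hx, rfl⟩ := iv₁.surj hy
    exact hv₁.iso_img.map_mem (hDN hx)
  have hwC : Iso F C₁ D w := by
    refine ⟨hw.mor.mono hC₁Y, fun y => ⟨fun hy => ⟨v₁ y, iv₁.map_mem hy, hwv y (hDN hy)⟩, ?_⟩⟩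
    rintro ⟨c, hc, rfl⟩
    obtain ⟨x, hx, rfl⟩ := iv₁.surj hc
    rw [hwv x (hDN hx)]
    exact hx
  obtain ⟨C, w₁, w₂, hw₁, hw₂, iw₁, iw₂⟩ := H C₁ C₂ (img (normalizerIn S D) v₁) (u₂ ∘ w)
    iv₁.card_eq.symm hC₁Y (by
      intro y hy
      obtain ⟨x, hx, rfl⟩ := hv₁.iso_img.surj hy
      exact hv₁.map_mem_normalizerIn hDN inf_le_right iv₁.2 hx)
    hv₁.iso_img.card_eq.symm (hw.mor.comp hu₂ (fun y hy => hw.map_mem hy)) (hwC.trans iu₂)
  refine ⟨C, w₁ ∘ u₁, w₂ ∘ v₂, hu₁.comp hw₁ (fun x hx => ?_), hv₂.comp hw₂ (fun x hx => ?_),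
    iu₁.trans iw₁, iv₂.trans iw₂⟩
  · exact hu₁.map_mem_normalizerIn (le_normalizerIn iu₁.le) inf_le_right iu₁.2 hx
  · exact hv₂.map_mem_normalizerIn (le_normalizerIn iv₂.le) inf_le_right iv₂.2 hx

theorem card_lt_of_le_ne [Finite S] {A P : Subgroup Ω} (hP : P ≤ S) (hAP : A ≤ P) (hne : A ≠ P) :
    Nat.card A < Nat.card P := by
  by_contra h
  exact hne (eq_of_le_of_card_le'' hP hAP (not_lt.1 h))

/-- Pushing a marked pair `(P, A)` to a fully normalized marking. -/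
theorem push_step [Finite S] {p : ℕ} [Fact p.Prime] (hS : IsPGroup p S) {F : FusionSystem S}
    {P A : Subgroup Ω} (hAP : A ≤ P) {ψ : Ω → Ω} (hψ : FNKt F P (stabAut P A) ψ)
    (hsat : SatAt F p P) {φ : Ω → Ω} (hφ : Mor F P φ) {B : Subgroup Ω} (hB : Iso F A B φ)
    {N : Subgroup Ω} (hN : N ≤ normalizerIn S B)
    (hNP : N ≤ Subgroup.normalizer ((img P φ : Subgroup Ω) : Set Ω)) :
    ∃ ρ, Mor F (img P φ ⊔ N) ρ ∧ Iso F B (img A ψ) ρ := by
  have hPS := hφ.le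
  have : Finite P := finite_of_le hPS
  obtain ⟨hr, hsyl⟩ := hψ.props hS hsat
  obtain ⟨χ, hχ, ρ, hρ, eρ⟩ := extend_marked hS hψ.1 hr hsyl (stabAut P A ⊓ F.autGroup P) le_rfl
    (fun σ hσ l hl => Subgroup.mul_mem _ (Subgroup.mul_mem _ (hsyl.1 hσ) hl)
      (Subgroup.inv_mem _ (hsyl.1 hσ))) hφ N (hN.trans (normalizerIn_le S B)) (by
      intro n hn
      obtain ⟨κ, hκ, e⟩ := exists_induced_aut hφ (hN hn).1 (hNP hn)
      refine ⟨κ, Subgroup.mem_sup_right ⟨mem_iff_of_forall_mem κ A (fun x hx => ?_), hκ⟩, e⟩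
      have h1 : n * φ x * n⁻¹ ∈ B :=
        (Subgroup.mem_normalizer_iff.1 (hN hn).2 _).1 (hB.map_mem hx)
      obtain ⟨a, ha, ea⟩ := hB.surj h1
      rw [e x] at ea
      rw [← hφ.inj (hAP ha) (Subtype.prop _) ea]
      exact ha)
  have hBP : B ≤ img P φ := by
    intro y hy
    obtain ⟨x, hx, rfl⟩ := hB.surj hy
    exact hφ.iso_img.map_mem (hAP hx)
  refine ⟨ρ, hρ, hρ.mono (hBP.trans le_sup_left), fun y => ?_⟩
  rw [(hψ.1.mono hAP).mem_img]
  constructor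
  · rintro ⟨a, ha, rfl⟩
    have ha' : ((χ⁻¹ ⟨a, hAP ha⟩ : P) : Ω) ∈ A := ((Subgroup.inv_mem _ hχ.1) ⟨a, hAP ha⟩).1 ha
    refine ⟨φ (χ⁻¹ ⟨a, hAP ha⟩ : P), hB.map_mem ha', ?_⟩
    rw [eρ, MulAut.apply_inv_self]
  · rintro ⟨b, hb, rfl⟩
    obtain ⟨a, ha, rfl⟩ := hB.surj hb
    exact ⟨(χ ⟨a, hAP ha⟩ : P), (hχ.1 ⟨a, hAP ha⟩).1 ha, (eρ ⟨a, hAP ha⟩).symm⟩

/-- A restriction of a map defined on a strictly larger subgroup links source and target. -/
theorem Lk.of_step [Finite S] {p : ℕ} [Fact p.Prime] (hS : IsPGroup p S) {F : FusionSystem S}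
    {n : ℕ} (hsat : SatAbove F p n) : ∀ (m : ℕ) (A B P : Subgroup Ω) (f : Ω → Ω), Nat.card A = n →
      A ≤ P → A ≠ P → P ≤ normalizerIn S A → Mor F P f → Iso F A B f →
      Nat.card S - Nat.card P = m → Lk F A B := by
  intro m
  induction m using Nat.strong_induction_on with
  | _ m ih =>
  intro A B P f hA hAP hne hPN hf hAB hm
  have hPS := hf.le
  have hPP' := hf.iso_img
  have hP'N : img P f ≤ normalizerIn S B := by
    intro y hy
    obtain ⟨x, hx, rfl⟩ := hPP'.surj hy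
    exact hf.map_mem_normalizerIn hAP (hPN.trans inf_le_right) hAB.2 hx
  have hBP' : B ≤ img P f := by
    intro y hy
    obtain ⟨x, hx, rfl⟩ := hAB.surj hy
    exact hPP'.map_mem (hAP hx)
  by_cases h1 : P = normalizerIn S A
  · exact ⟨B, f, id, h1 ▸ hf, mor_id F (normalizerIn_le S B), hAB, Iso.refl F hAB.le'⟩
  by_cases h2 : img P f = normalizerIn S B
  · obtain ⟨g, hg, hgf, hfg⟩ := hPP'.symm
    refine ⟨A, id, g, mor_id F (normalizerIn_le S A), h2 ▸ hg.mor, Iso.refl F hAB.le,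
      hg.mor.mono hBP', fun y => ⟨fun hy => ⟨f y, hAB.map_mem hy, hgf y (hAP hy)⟩, ?_⟩⟩
    rintro ⟨b, hb, rfl⟩
    obtain ⟨x, hx, rfl⟩ := hAB.surj hb
    rw [hgf x (hAP hx)]
    exact hx
  have hcardP : n < Nat.card P := hA ▸ card_lt_of_le_ne hPS hAP hne
  have hsatP := hsat P hPS hcardP
  obtain ⟨ψ, hψ⟩ := exists_FNKt F hPS (stabAut P A)
  have hid : img P (id : Ω → Ω) = P := (Iso.refl F hPS).img_eq
  -- first push
  obtain ⟨ρ, hρ, iρ⟩ := push_step hS hAP hψ hsatP (mor_id F hPS) (Iso.refl F hAB.le)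
    (N := normalizerIn (normalizerIn S A) P) inf_le_left (by rw [hid]; exact inf_le_right)
  rw [hid, sup_eq_right.2 (le_normalizerIn hPN)] at hρ
  obtain ⟨x₁, hx₁, hx₁P⟩ := exists_mem_normalizerIn_not_mem hS (normalizerIn_le S A)
    (lt_of_le_of_ne hPN h1)
  have hN₁S : normalizerIn (normalizerIn S A) P ≤ S := inf_le_left.trans (normalizerIn_le S A)
  have hlt₁ : Nat.card P < Nat.card (normalizerIn (normalizerIn S A) P) :=
    card_lt_of_le_ne hN₁S (le_normalizerIn hPN) (fun h => hx₁P (h ▸ hx₁))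
  have hle₁ : Nat.card (normalizerIn (normalizerIn S A) P) ≤ Nat.card S :=
    Subgroup.card_le_of_le hN₁S
  have hAD : Lk F A (img A ψ) := ih (Nat.card S - Nat.card (normalizerIn (normalizerIn S A) P))
    (by omega) A _ _ ρ hA (hAP.trans (le_normalizerIn hPN))
    (fun h => absurd hlt₁ (by rw [← h, hA]; omega)) inf_le_left hρ iρ rfl
  -- second push
  obtain ⟨ρ', hρ', iρ'⟩ := push_step hS hAP hψ hsatP hf hAB
    (N := normalizerIn (normalizerIn S B) (img P f)) inf_le_left inf_le_right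
  rw [sup_eq_right.2 (le_normalizerIn hP'N)] at hρ'
  obtain ⟨x₂, hx₂, hx₂P⟩ := exists_mem_normalizerIn_not_mem hS (normalizerIn_le S B)
    (lt_of_le_of_ne hP'N h2)
  have hN₂S : normalizerIn (normalizerIn S B) (img P f) ≤ S :=
    inf_le_left.trans (normalizerIn_le S B)
  have hlt₂ : Nat.card P < Nat.card (normalizerIn (normalizerIn S B) (img P f)) := by
    rw [hPP'.card_eq]
    exact card_lt_of_le_ne hN₂S (le_normalizerIn hP'N) (fun h => hx₂P (h ▸ hx₂))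
  have hle₂ : Nat.card (normalizerIn (normalizerIn S B) (img P f)) ≤ Nat.card S :=
    Subgroup.card_le_of_le hN₂S
  have hB : Nat.card B = n := by rw [← hAB.card_eq, hA]
  have hBD : Lk F B (img A ψ) :=
    ih (Nat.card S - Nat.card (normalizerIn (normalizerIn S B) (img P f)))
    (by omega) B _ _ ρ' hB (hBP'.trans (le_normalizerIn hP'N))
    (fun h => absurd hlt₂ (by rw [← h, hB]; omega)) inf_le_left hρ' iρ' rfl
  -- the normalizer of the common target is large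
  have hbig : Nat.card P < Nat.card (normalizerIn S (img A ψ)) :=
    lt_of_lt_of_le hlt₁ (hρ.card_le le_rfl (normalizerIn_le S _) (fun x hx =>
      hρ.map_mem_normalizerIn (hAP.trans (le_normalizerIn hPN)) (inf_le_left.trans inf_le_right)
        iρ.2 hx))
  refine Lk.trans_of (fun C₁ C₂ Y g hC₁ hC₁Y hY hYc hg hgC => ?_) hAD hBD.symm
  have hYS : Nat.card Y ≤ Nat.card S := Subgroup.card_le_of_le hg.le
  have hC₁n : Nat.card C₁ = n := by rw [hC₁, ← iρ.card_eq, hA]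
  exact ih (Nat.card S - Nat.card Y) (by omega) C₁ C₂ Y g hC₁n hC₁Y
    (fun h => by rw [← h, hC₁n] at hYc; omega) hY hg hgC rfl

theorem Lk.trans [Finite S] {p : ℕ} [Fact p.Prime] (hS : IsPGroup p S) {F : FusionSystem S}
    {n : ℕ} (hsat : SatAbove F p n) (hn : n < Nat.card S) {A B D : Subgroup Ω}
    (hD : Nat.card D = n) (h₁ : Lk F A D) (h₂ : Lk F D B) : Lk F A B := by
  have hDS : D ≤ S := by
    obtain ⟨_, _, _, _, _, _, h⟩ := h₁
    exact h.le
  have hDlt : D < S := lt_of_le_of_ne hDS (fun h => by rw [h] at hD; omega)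
  obtain ⟨x, hx, hxD⟩ := exists_mem_normalizerIn_not_mem hS le_rfl hDlt
  have hlt : n < Nat.card (normalizerIn S D) :=
    hD ▸ card_lt_of_le_ne (normalizerIn_le S D) (le_normalizerIn hDS) (fun h => hxD (h ▸ hx))
  refine Lk.trans_of (fun C₁ C₂ Y g hC₁ hC₁Y hY hYc hg hgC => ?_) h₁ h₂
  exact Lk.of_step hS hsat _ C₁ C₂ Y g (hC₁.trans hD) hC₁Y
    (fun h => by rw [← h, hC₁, hD] at hYc; omega) hY hg hgC rfl

/-- Every member of the class maps, together with its normalizer, onto a fully normalized member. -/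
theorem exists_mor_to_fn [Finite S] {p : ℕ} [Fact p.Prime] (hS : IsPGroup p S) {F : FusionSystem S}
    {n : ℕ} (hsat : SatAbove F p n) (hn : n < Nat.card S) {X : Subgroup Ω} (hX : Nat.card X = n)
    (hci : ClassInd F X) {Q : Subgroup Ω} (hQ : F.IsConj X Q) (hQfn : F.IsFullyNormalized Q)
    {A : Subgroup Ω} (hA : F.IsConj X A) :
    ∃ u, Mor F (normalizerIn S A) u ∧ Iso F A Q u := by
  obtain ⟨f, hf⟩ := (isConj_iff F A Q).1 (isConj_trans (isConj_symm hA) hQ)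
  have hlk : Lk F A Q := hci (fun A B _ => Lk F A B) (fun h _ => h)
    (fun hA hf _ h₁ h₂ => Lk.trans hS hsat hn
      (by rw [← hf.card_eq, ← isConj_card hA, hX]) h₁ h₂)
    (fun _ _ _ _ h => h.symm)
    (fun hA hAP hne hPN hf hAB => Lk.of_step hS hsat _ _ _ _ _ (by rw [← isConj_card hA, hX])
      hAP hne hPN hf hAB rfl) hA hf
  obtain ⟨C, u, v, hu, hv, iu, iv⟩ := hlk
  have hvN : ∀ x ∈ normalizerIn S Q, v x ∈ normalizerIn S C := fun x hx =>
    hv.map_mem_normalizerIn (le_normalizerIn iv.le) inf_le_right iv.2 hx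
  have hsurj := hv.surj_of_card_le le_rfl (normalizerIn_le S C) hvN (hQfn.2 C iv.isConj)
  obtain ⟨w, hw, hwv, hvw⟩ := hv.iso_img.symm
  have huN : ∀ x ∈ normalizerIn S A, u x ∈ img (normalizerIn S Q) v := by
    intro x hx
    obtain ⟨y, hy, e⟩ := hsurj _ (hu.map_mem_normalizerIn (le_normalizerIn iu.le) inf_le_right iu.2 hx)
    rw [← e]
    exact hv.iso_img.map_mem hy
  have hQN := le_normalizerIn iv.le
  refine ⟨w ∘ u, hu.comp hw.mor huN, (hu.comp hw.mor huN).mono (le_normalizerIn iu.le), fun y => ?_⟩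
  constructor
  · intro hy
    obtain ⟨x, hx, e⟩ := iu.surj (iv.map_mem hy)
    refine ⟨x, hx, ?_⟩
    show w (u x) = y
    rw [e, hwv y (hQN hy)]
  · rintro ⟨x, hx, rfl⟩
    obtain ⟨q, hq, e⟩ := iv.surj (iu.map_mem hx)
    show w (u x) ∈ Q
    rw [← e, hwv q (hQN hq)]
    exact hq

end Cfsg.Agent.Lib.Helper87
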