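import Cfsg.Agent.Lib.Helper87.BCGLO1

set_option autoImplicit false

namespace Cfsg.Agent.Lib.Helper87

open Cfsg Cfsg.FusionSystem

theorem le_sup_of_sylow_pquot {G : Type*} [Group G] [Finite G] {p : ℕ} [Fact p.Prime]
    {A G₁ L : Subgroup G} (hA : IsSylIn p A G₁)
    (hLn : ∀ g ∈ G₁, ∀ l ∈ L, g * l * g⁻¹ ∈ L) (hq : ∀ g ∈ G₁, ∃ k : ℕ, g ^ (p ^ k) ∈ L) :
    G₁ ≤ A ⊔ L := by
  have hnorm : (L.subgroupOf G₁).Normal := by
    constructor
    intro l hl g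
    exact Subgroup.mem_subgroupOf.2 (hLn g g.2 l (Subgroup.mem_subgroupOf.1 hl))
  have hpq : IsPGroup p (G₁ ⧸ L.subgroupOf G₁) := by
    intro x
    obtain ⟨g, rfl⟩ := QuotientGroup.mk_surjective x
    obtain ⟨k, hk⟩ := hq g g.2
    refine ⟨k, ?_⟩
    rw [← QuotientGroup.mk_pow, QuotientGroup.eq_one_iff]
    exact Subgroup.mem_subgroupOf.2 hk
  have hsurj : Function.Surjective (QuotientGroup.mk' (L.subgroupOf G₁)) :=
    QuotientGroup.mk'_surjective _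
  have htop : (⊤ : Subgroup (G₁ ⧸ L.subgroupOf G₁)) =
      (hA.toSylow.mapSurjective hsurj : Sylow p (G₁ ⧸ L.subgroupOf G₁)) :=
    (hA.toSylow.mapSurjective hsurj).is_maximal' (hpq.to_subgroup ⊤) le_top
  intro g hg
  have h1 : QuotientGroup.mk' (L.subgroupOf G₁) ⟨g, hg⟩ ∈
      ((hA.toSylow.mapSurjective hsurj : Sylow p (G₁ ⧸ L.subgroupOf G₁)) :
        Subgroup (G₁ ⧸ L.subgroupOf G₁)) := htop ▸ Subgroup.mem_top _
  obtain ⟨a, ha, e⟩ := h1
  have ha' : (a : G) ∈ A := Subgroup.mem_subgroupOf.1 ha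
  have h2 : a⁻¹ * ⟨g, hg⟩ ∈ L.subgroupOf G₁ := QuotientGroup.eq.1 e
  have h3 : (a : G)⁻¹ * g ∈ L := Subgroup.mem_subgroupOf.1 h2
  have h4 : g = a * ((a : G)⁻¹ * g) := by group
  rw [h4]
  exact Subgroup.mul_mem_sup ha' h3

variable {Ω : Type*} [Group Ω] {S : Subgroup Ω}

/-- Automorphisms of `P` restricting on `Q ≤ P` to an element of `O`. -/
def resK {Q P : Subgroup Ω} (hQP : Q ≤ P) (O : Subgroup (MulAut Q)) : Subgroup (MulAut P) where
  carrier := {κ | ∃ o ∈ O, ∀ x : Q, κ (Subgroup.inclusion hQP x) = Subgroup.inclusion hQP (o x)}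
  mul_mem' := by
    rintro a b ⟨o, ho, e⟩ ⟨o', ho', e'⟩
    refine ⟨o * o', O.mul_mem ho ho', fun x => ?_⟩
    rw [MulAut.mul_apply, e', e]
    rfl
  one_mem' := ⟨1, O.one_mem, fun _ => rfl⟩
  inv_mem' := by
    rintro a ⟨o, ho, e⟩
    refine ⟨o⁻¹, O.inv_mem ho, fun x => ?_⟩
    have h1 := e (o⁻¹ x)
    rw [MulAut.apply_inv_self] at h1
    rw [← h1, MulAut.inv_apply_self]

/-- The context of the inductive step of the saturation criterion. -/
structure HatCtx (F : FusionSystem S) (p n : ℕ) (X Q : Subgroup Ω) (O : Subgroup (MulAut Q)) :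
    Prop where
  pS : IsPGroup p S
  sat : SatAbove F p n
  lt : n < Nat.card S
  cardX : Nat.card X = n
  ci : ClassInd F X
  conj : F.IsConj X Q
  fn : F.IsFullyNormalized Q
  Op : IsPGroup p O
  On : ∀ γ ∈ F.autGroup Q, ∀ o ∈ O, γ * o * γ⁻¹ ∈ O
  inn : Inn Q ≤ O
  ne : ∃ x ∈ NK S Q O, x ∉ Q

namespace HatCtx

variable {F : FusionSystem S} {p n : ℕ} {X Q : Subgroup Ω} {O : Subgroup (MulAut Q)}

theorem QS (h : HatCtx F p n X Q O) : Q ≤ S := h.fn.1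

theorem cardQ (h : HatCtx F p n X Q O) : Nat.card Q = n := by
  rw [← isConj_card h.conj, h.cardX]

theorem le_hat (h : HatCtx F p n X Q O) : Q ≤ NK S Q O := le_NK_inn h.QS O h.inn

theorem hat_le (_h : HatCtx F p n X Q O) : NK S Q O ≤ normalizerIn S Q := NK_le_normalizerIn S Q O

theorem hat_le_S (_h : HatCtx F p n X Q O) : NK S Q O ≤ S := fun _ hx => hx.1

/-- A map of the system stabilizing `Q` carries `Q̂` into `Q̂`. -/
theorem map_mem_hat (h : HatCtx F p n X Q O) {P : Subgroup Ω} {g : Ω → Ω} (hg : Mor F P g)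
    (hQP : Q ≤ P) (hgQ : Iso F Q Q g) {x : Ω} (hx : x ∈ NK S Q O) (hxP : x ∈ P) :
    g x ∈ NK S Q O := by
  obtain ⟨a, ha, ea⟩ := hgQ.exists_aut
  obtain ⟨-, κ, hκ, eκ⟩ := hx
  refine ⟨hg.mem hxP, a * κ * a⁻¹, h.On a ha κ hκ, fun y => ?_⟩
  show ((a (κ (a⁻¹ y)) : Q) : Ω) = _
  rw [ea, eκ, hg.map_conj hxP (hQP (Subtype.prop _)), ← ea, MulAut.apply_inv_self]

theorem conj_mem_hat (h : HatCtx F p n X Q O) {t x : Ω} (ht : t ∈ normalizerIn S Q)
    (hx : x ∈ NK S Q O) : t * x * t⁻¹ ∈ NK S Q O := by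
  have : Finite Q := by
    have := h.lt
    have hfin : Finite S := Nat.finite_of_card_ne_zero (by omega)
    exact finite_of_le h.QS
  exact h.map_mem_hat (mor_conj F (normalizerIn_le S Q) ht.1) (le_normalizerIn h.QS)
    ((mor_conj F h.QS ht.1).iso_self (fun y hy => (Subgroup.mem_normalizer_iff.1 ht.2 y).1 hy)) hx
    (h.hat_le hx)

theorem normalizerIn_le_normalizer_hat (h : HatCtx F p n X Q O) :
    normalizerIn S Q ≤ Subgroup.normalizer ((NK S Q O : Subgroup Ω) : Set Ω) :=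
  le_normalizer_of_conj_mem (fun _ ht _ hx => h.conj_mem_hat ht hx)

/-- If `Q̂` is not contained in `P ≤ N_S(Q)` then some element of `Q̂` outside `P` normalizes `P`. -/
theorem exists_hat_not_mem [Finite S] [Fact p.Prime] (h : HatCtx F p n X Q O) {P : Subgroup Ω}
    (hP : P ≤ normalizerIn S Q) (hle : ¬ NK S Q O ≤ P) :
    ∃ x ∈ normalizerIn (NK S Q O) P, x ∉ P := by
  have hlt : P < P ⊔ NK S Q O := by
    refine lt_of_le_of_ne le_sup_left (fun e => hle ?_)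
    rw [e]
    exact le_sup_right
  obtain ⟨g, hg, hgP⟩ := exists_mem_normalizerIn_not_mem h.pS
    (sup_le (hP.trans (normalizerIn_le S Q)) h.hat_le_S) hlt
  obtain ⟨a, ha, b, hb, rfl⟩ := mem_sup_of_normalizes
    (fun a ha b hb => h.conj_mem_hat (hP ha) hb) hg.1
  refine ⟨b, ⟨hb, ?_⟩, fun hbP => hgP (P.mul_mem ha hbP)⟩
  have h1 : b = a⁻¹ * (a * b) := by group
  rw [h1]
  exact Subgroup.mul_mem _ (Subgroup.inv_mem _ (Subgroup.le_normalizer ha)) hg.2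

theorem resK_bot_apply {P : Subgroup Ω} (hQP : Q ≤ P) {l : MulAut P}
    (hl : l ∈ resK hQP (⊥ : Subgroup (MulAut Q))) (x : Q) :
    l (Subgroup.inclusion hQP x) = Subgroup.inclusion hQP x := by
  obtain ⟨o, ho, e⟩ := hl
  rw [e, Subgroup.mem_bot.1 ho]
  rfl

theorem resK_mono {P : Subgroup Ω} (hQP : Q ≤ P) {O₁ O₂ : Subgroup (MulAut Q)} (h : O₁ ≤ O₂) :
    resK hQP O₁ ≤ resK hQP O₂ := by
  rintro κ ⟨o, ho, e⟩
  exact ⟨o, h ho, e⟩

/-- Pushing a map stabilizing `Q` to a fully normalized marking, keeping the restriction to `Q`. -/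
theorem push_hat [Finite S] [Fact p.Prime] (h : HatCtx F p n X Q O) {P : Subgroup Ω} (hQP : Q ≤ P)
    {ψ : Ω → Ω} (hψ : FNKt F P (resK hQP O) ψ) (hsat : SatAt F p P) {φ : Ω → Ω} (hφ : Mor F P φ)
    (iφ : Iso F Q Q φ) :
    ∃ ρ, Mor F (img P φ ⊔ normalizerIn (NK S Q O) (img P φ)) ρ ∧ ∀ x ∈ Q, ρ (φ x) = ψ x := by
  have hPS := hφ.le
  have : Finite P := finite_of_le hPS
  obtain ⟨hr, hsyl⟩ := hψ.props h.pS hsat
  have hL : resK hQP ⊥ ⊓ F.autGroup P ≤ resK hQP O ⊓ F.autGroup P :=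
    inf_le_inf_right _ (resK_mono hQP bot_le)
  have hLn : ∀ g ∈ resK hQP O ⊓ F.autGroup P, ∀ l ∈ resK hQP ⊥ ⊓ F.autGroup P,
      g * l * g⁻¹ ∈ resK hQP ⊥ ⊓ F.autGroup P := by
    intro g hg l hl
    refine ⟨⟨1, Subgroup.one_mem _, fun x => ?_⟩,
      Subgroup.mul_mem _ (Subgroup.mul_mem _ hg.2 hl.2) (Subgroup.inv_mem _ hg.2)⟩
    obtain ⟨o, -, e⟩ := Subgroup.inv_mem _ hg.1
    show g (l (g⁻¹ (Subgroup.inclusion hQP x))) = _
    rw [e, resK_bot_apply hQP hl.1, ← e, MulAut.apply_inv_self]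
    rfl
  have hq : ∀ g ∈ resK hQP O ⊓ F.autGroup P, ∃ k : ℕ, g ^ (p ^ k) ∈ resK hQP ⊥ ⊓ F.autGroup P := by
    intro g hg
    obtain ⟨o, ho, e⟩ := hg.1
    obtain ⟨k, hk⟩ := h.Op ⟨o, ho⟩
    have hk' : o ^ (p ^ k) = 1 := congrArg Subtype.val hk
    have hpow : ∀ m : ℕ, ∀ x : Q, (g ^ m) (Subgroup.inclusion hQP x) =
        Subgroup.inclusion hQP ((o ^ m) x) := by
      intro m
      induction m with
      | zero => intro x; rfl
      | succ m ih =>
        intro x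
        rw [pow_succ', pow_succ', MulAut.mul_apply, ih, e]
        rfl
    refine ⟨k, ⟨1, Subgroup.one_mem _, fun x => ?_⟩, Subgroup.pow_mem _ hg.2 _⟩
    rw [hpow, hk']
  have hG := le_sup_of_sylow_pquot hsyl hLn hq
  obtain ⟨χ, hχ, ρ, hρ, eρ⟩ := extend_marked h.pS hψ.1 hr hsyl _ hL
    (fun σ hσ l hl => hLn σ (hsyl.1 hσ) l hl) hφ (normalizerIn (NK S Q O) (img P φ))
    (inf_le_left.trans h.hat_le_S) (by
      intro t ht
      obtain ⟨κ, hκ, e⟩ := exists_induced_aut hφ ht.1.1 ht.2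
      obtain ⟨-, κt, hκt, et⟩ := ht.1
      obtain ⟨a, ha, ea⟩ := iφ.exists_aut
      refine ⟨κ, hG ⟨⟨a⁻¹ * κt * a, ?_, fun x => ?_⟩, hκ⟩, e⟩
      · have := h.On a⁻¹ (Subgroup.inv_mem _ ha) κt hκt
        rwa [inv_inv] at this
      · apply Subtype.ext
        apply hφ.inj (Subtype.prop _) (hQP (Subtype.prop _))
        show φ ((κ (Subgroup.inclusion hQP x) : P) : Ω) = φ ((a⁻¹ (κt (a x)) : Q) : Ω)
        rw [← e, ← ea, MulAut.apply_inv_self, et, ea]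
        rfl)
  refine ⟨ρ, hρ, fun x hx => ?_⟩
  have h1 := eρ ⟨x, hQP hx⟩
  have h2 : χ ⟨x, hQP hx⟩ = ⟨x, hQP hx⟩ := resK_bot_apply hQP hχ.1 ⟨x, hx⟩
  rw [h2] at h1
  exact h1

/-- An automorphism of `Q` that extends to a strictly larger subgroup of `N_S(Q)` extends to `Q̂`. -/
theorem extend_hat_step [Finite S] [Fact p.Prime] (h : HatCtx F p n X Q O) :
    ∀ (m : ℕ) (P : Subgroup Ω) (a : Ω → Ω), Q ≤ P → Q ≠ P → P ≤ normalizerIn S Q → Mor F P a →
      Iso F Q Q a → Nat.card S - Nat.card P = m →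
      ∃ r, Iso F (NK S Q O) (NK S Q O) r ∧ ∀ x ∈ Q, r x = a x := by
  intro m
  induction m using Nat.strong_induction_on with
  | _ m ih =>
  intro P a hQP hne hPN ha ia hm
  have hfinH : Finite (NK S Q O) := finite_of_le h.hat_le_S
  by_cases hle : NK S Q O ≤ P
  · exact ⟨a, (ha.mono hle).iso_self (fun x hx => h.map_mem_hat ha hQP ia hx (hle hx)),
      fun _ _ => rfl⟩
  have hPS := ha.le
  have hcardP : n < Nat.card P := h.cardQ ▸ card_lt_of_le_ne hPS hQP hne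
  have hsatP := h.sat P hPS hcardP
  obtain ⟨ψ₀, hψ₀⟩ := exists_FNKt F hPS (resK hQP O)
  have iψ₀ : Iso F Q (img Q ψ₀) ψ₀ := (hψ₀.1.mono hQP).iso_img
  have hD : F.IsConj X (img Q ψ₀) := isConj_trans h.conj iψ₀.isConj
  obtain ⟨u, hu, iu⟩ := exists_mor_to_fn h.pS h.sat h.lt h.cardX h.ci h.conj h.fn hD
  have hψ : FNKt F P (resK hQP O) (u ∘ ψ₀) := by
    refine hψ₀.comp hu ?_ ?_
    · intro y hy
      obtain ⟨x, hx, rfl⟩ := hψ₀.1.iso_img.surj hy
      exact hψ₀.1.map_mem_normalizerIn hQP (hPN.trans inf_le_right) iψ₀.2 hx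
    · intro t ht
      refine ⟨ht.1, le_normalizer_of_conj_mem (N := NKt S P (resK hQP O) ψ₀) (R := img Q ψ₀)
        (fun g hg y hy => ?_) ht⟩
      obtain ⟨-, κ, ⟨o, -, eo⟩, e⟩ := hg
      obtain ⟨q, hq, rfl⟩ := iψ₀.surj hy
      have h1 := e ⟨q, hQP hq⟩
      have h2 : κ ⟨q, hQP hq⟩ = Subgroup.inclusion hQP (o ⟨q, hq⟩) := eo ⟨q, hq⟩
      rw [h2] at h1
      rw [show g * ψ₀ q * g⁻¹ = ψ₀ ((o ⟨q, hq⟩ : Q) : Ω) from h1]
      exact iψ₀.map_mem (Subtype.prop _)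
  have iψ : Iso F Q Q (u ∘ ψ₀) := iψ₀.trans iu
  have hid : img P (id : Ω → Ω) = P := (Iso.refl F hPS).img_eq
  -- push the identity
  obtain ⟨ρ, hρ, eρ⟩ := h.push_hat hQP hψ hsatP (mor_id F hPS) (Iso.refl F h.QS)
  rw [hid] at hρ
  obtain ⟨x₁, hx₁, hx₁P⟩ := h.exists_hat_not_mem hPN hle
  have hP₁N : P ⊔ normalizerIn (NK S Q O) P ≤ normalizerIn S Q :=
    sup_le hPN (inf_le_left.trans h.hat_le)
  have hP₁S := hP₁N.trans (normalizerIn_le S Q)
  have hlt₁ : Nat.card P < Nat.card ↥(P ⊔ normalizerIn (NK S Q O) P) :=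
    card_lt_of_le_ne hP₁S le_sup_left (fun e => hx₁P (by rw [e]; exact Subgroup.mem_sup_right hx₁))
  have hle₁ : Nat.card ↥(P ⊔ normalizerIn (NK S Q O) P) ≤ Nat.card S := Subgroup.card_le_of_le hP₁S
  have iρ : Iso F Q Q ρ := iψ.congr (fun x hx => (eρ x hx).symm)
  obtain ⟨r, hr, er⟩ := ih (Nat.card S - Nat.card ↥(P ⊔ normalizerIn (NK S Q O) P)) (by omega) _ ρ
    (hQP.trans le_sup_left) (fun e => by rw [← e, h.cardQ] at hlt₁; omega) hP₁N hρ iρ rfl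
  -- push `a`
  obtain ⟨ρ', hρ', eρ'⟩ := h.push_hat hQP hψ hsatP ha ia
  have hQP' : Q ≤ img P a := by
    intro y hy
    obtain ⟨x, hx, rfl⟩ := ia.surj hy
    exact ha.iso_img.map_mem (hQP hx)
  have hP'N : img P a ≤ normalizerIn S Q := by
    intro y hy
    obtain ⟨x, hx, rfl⟩ := ha.iso_img.surj hy
    exact ha.map_mem_normalizerIn hQP (hPN.trans inf_le_right) ia.2 hx
  have hle' : ¬ NK S Q O ≤ img P a := by
    intro hc
    obtain ⟨g, hg, hga, hag⟩ := ha.iso_img.symm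
    have igQ : Iso F Q Q g := by
      refine ⟨hg.mor.mono hQP', fun y => ⟨fun hy => ⟨a y, ia.map_mem hy, hga y (hQP hy)⟩, ?_⟩⟩
      rintro ⟨z, hz, rfl⟩
      obtain ⟨x, hx, rfl⟩ := ia.surj hz
      rw [hga x (hQP hx)]
      exact hx
    have hself := (hg.mor.mono hc).iso_self
      (fun x hx => h.map_mem_hat hg.mor hQP' igQ hx (hc hx))
    apply hle
    intro x hx
    obtain ⟨y, hy, rfl⟩ := hself.surj hx
    exact hg.map_mem (hc hy)
  obtain ⟨x₂, hx₂, hx₂P⟩ := h.exists_hat_not_mem hP'N hle'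
  have hP₂N : img P a ⊔ normalizerIn (NK S Q O) (img P a) ≤ normalizerIn S Q :=
    sup_le hP'N (inf_le_left.trans h.hat_le)
  have hP₂S := hP₂N.trans (normalizerIn_le S Q)
  have hlt₂ : Nat.card P < Nat.card ↥(img P a ⊔ normalizerIn (NK S Q O) (img P a)) := by
    rw [ha.iso_img.card_eq]
    exact card_lt_of_le_ne hP₂S le_sup_left
      (fun e => hx₂P (by rw [e]; exact Subgroup.mem_sup_right hx₂))
  have hle₂ : Nat.card ↥(img P a ⊔ normalizerIn (NK S Q O) (img P a)) ≤ Nat.card S :=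
    Subgroup.card_le_of_le hP₂S
  have iρ' : Iso F Q Q ρ' := by
    refine ⟨hρ'.mono (hQP'.trans le_sup_left), fun y => ?_⟩
    constructor
    · intro hy
      obtain ⟨x, hx, rfl⟩ := iψ.surj hy
      exact ⟨a x, ia.map_mem hx, eρ' x hx⟩
    · rintro ⟨z, hz, rfl⟩
      obtain ⟨x, hx, rfl⟩ := ia.surj hz
      rw [eρ' x hx]
      exact iψ.map_mem hx
  obtain ⟨r', hr', er'⟩ := ih
    (Nat.card S - Nat.card ↥(img P a ⊔ normalizerIn (NK S Q O) (img P a))) (by omega) _ ρ'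
    (hQP'.trans le_sup_left) (fun e => by rw [← e, h.cardQ] at hlt₂; omega) hP₂N hρ' iρ' rfl
  obtain ⟨s, hs, hsr, -⟩ := hr'.symm
  refine ⟨s ∘ r, hr.trans hs, fun x hx => ?_⟩
  show s (r x) = a x
  have h1 : r x = r' (a x) := by
    rw [er x hx, er' _ (ia.map_mem hx), eρ' x hx]
    exact eρ x hx
  rw [h1, hsr _ (h.le_hat (ia.map_mem hx))]

/-- Every automorphism of `Q` in the system extends to `Q̂`. -/
theorem extend_hat [Finite S] [Fact p.Prime] (h : HatCtx F p n X Q O) {a : Ω → Ω}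
    (ia : Iso F Q Q a) : ∃ r, Iso F (NK S Q O) (NK S Q O) r ∧ ∀ x ∈ Q, r x = a x := by
  have key := h.ci (fun A B f => ∀ u v : Ω → Ω, Mor F (normalizerIn S A) u → Iso F A Q u →
      Mor F (normalizerIn S B) v → Iso F B Q v →
      ∃ r, Iso F (NK S Q O) (NK S Q O) r ∧ ∀ x ∈ A, r (u x) = v (f x))
    (by
      intro A B f g hR e u v hu iu hv iv
      obtain ⟨r, hr, er⟩ := hR u v hu iu hv iv
      exact ⟨r, hr, fun x hx => by rw [er x hx, e x hx]⟩)
    (by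
      intro A B C f g hA hf hg hR₁ hR₂ u w hu iu hw iw
      obtain ⟨v, hv, iv⟩ := exists_mor_to_fn h.pS h.sat h.lt h.cardX h.ci h.conj h.fn
        (isConj_trans hA hf.isConj)
      obtain ⟨r₁, hr₁, er₁⟩ := hR₁ u v hu iu hv iv
      obtain ⟨r₂, hr₂, er₂⟩ := hR₂ v w hv iv hw iw
      refine ⟨r₂ ∘ r₁, hr₁.trans hr₂, fun x hx => ?_⟩
      show r₂ (r₁ (u x)) = w (g (f x))
      rw [er₁ x hx, er₂ _ (hf.map_mem hx)])
    (by
      intro A B f g hA hf hg hgf hR u v hu iu hv iv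
      obtain ⟨r, hr, er⟩ := hR v u hv iv hu iu
      obtain ⟨s, hs, hsr, -⟩ := hr.symm
      refine ⟨s, hs, fun y hy => ?_⟩
      obtain ⟨x, hx, rfl⟩ := hf.surj hy
      rw [← er x hx, hsr _ (h.le_hat (iv.map_mem hx)), hgf x hx])
    (by
      intro A B P f hA hAP hne hPN hf hAB u v hu iu hv iv
      have huP : Mor F P u := hu.mono hPN
      obtain ⟨w, hw, hwu, huw⟩ := huP.iso_img.symm
      have hQP : Q ≤ img P u := by
        intro y hy
        obtain ⟨x, hx, rfl⟩ := iu.surj hy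
        exact huP.iso_img.map_mem (hAP hx)
      have iw : Iso F Q A w := by
        refine ⟨hw.mor.mono hQP, fun y => ⟨fun hy => ⟨u y, iu.map_mem hy, hwu y (hAP hy)⟩, ?_⟩⟩
        rintro ⟨z, hz, rfl⟩
        obtain ⟨x, hx, rfl⟩ := iu.surj hz
        rw [hwu x (hAP hx)]
        exact hx
      have hfN : ∀ x ∈ P, f x ∈ normalizerIn S B := fun x hx =>
        hf.map_mem_normalizerIn hAP (hPN.trans inf_le_right) hAB.2 hx
      have hm : Mor F (img P u) (v ∘ (f ∘ w)) :=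
        (hw.mor.comp hf (fun y hy => hw.map_mem hy)).comp hv (fun y hy => hfN _ (hw.map_mem hy))
      have hcard : Nat.card A < Nat.card P := card_lt_of_le_ne hf.le hAP hne
      obtain ⟨r, hr, er⟩ := h.extend_hat_step _ (img P u) (v ∘ (f ∘ w)) hQP
        (fun e => by
          rw [iu.card_eq, huP.iso_img.card_eq, ← e] at hcard
          exact lt_irrefl _ hcard)
        (by
          intro y hy
          obtain ⟨x, hx, rfl⟩ := huP.iso_img.surj hy
          exact huP.map_mem_normalizerIn hAP (hPN.trans inf_le_right) iu.2 hx)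
        hm ((iw.trans hAB).trans iv) rfl
      refine ⟨r, hr, fun x hx => ?_⟩
      rw [er _ (iu.map_mem hx)]
      show v (f (w (u x))) = v (f x)
      rw [hwu x (hAP hx)])
    h.conj ia id id (mor_id F (normalizerIn_le S Q)) (Iso.refl F h.QS)
    (mor_id F (normalizerIn_le S Q)) (Iso.refl F h.QS)
  exact key

/-- The inductive step of the saturation criterion. -/
theorem satAt [Finite S] [Fact p.Prime] (h : HatCtx F p n X Q O) : SatAt F p X := by
  have hHS := h.hat_le_S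
  have hfinH : Finite (NK S Q O) := finite_of_le hHS
  obtain ⟨x₀, hx₀, hx₀Q⟩ := h.ne
  have hcard : n < Nat.card (NK S Q O) :=
    h.cardQ ▸ card_lt_of_le_ne hHS h.le_hat (fun e => hx₀Q (e ▸ hx₀))
  have hsatH := h.sat _ hHS hcard
  have hH1 := h.normalizerIn_le_normalizer_hat
  have hfn : FNKt F (NK S Q O) (stabAut (NK S Q O) Q) id := by
    refine ⟨mor_id F hHS, fun ψ hψ => ?_⟩
    have iψ : Iso F Q (img Q ψ) ψ := (hψ.mono h.le_hat).iso_img
    have h1 : NKt S (NK S Q O) (stabAut (NK S Q O) Q) ψ ≤ normalizerIn S (img Q ψ) := by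
      intro t ht
      refine ⟨ht.1, le_normalizer_of_conj_mem (N := NKt S (NK S Q O) (stabAut (NK S Q O) Q) ψ)
        (R := img Q ψ) (fun g hg y hy => ?_) ht⟩
      obtain ⟨-, κ, hκ, e⟩ := hg
      obtain ⟨q, hq, rfl⟩ := iψ.surj hy
      rw [show g * ψ q * g⁻¹ = ψ ((κ ⟨q, h.le_hat hq⟩ : NK S Q O) : Ω) from e ⟨q, h.le_hat hq⟩]
      exact iψ.map_mem ((hκ ⟨q, h.le_hat hq⟩).1 hq)
    have h2 : normalizerIn S Q ≤ NKt S (NK S Q O) (stabAut (NK S Q O) Q) id := by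
      intro t ht
      obtain ⟨σ, hσ, e⟩ := exists_conj_stab (S := S) hH1 t ht
      exact ⟨ht.1, σ, hσ.1, fun x => (e x).symm⟩
    calc Nat.card (NKt S (NK S Q O) (stabAut (NK S Q O) Q) ψ)
        ≤ Nat.card (normalizerIn S (img Q ψ)) := by
          have := finite_of_le (normalizerIn_le S (img Q ψ))
          exact Subgroup.card_le_of_le h1
      _ ≤ Nat.card (normalizerIn S Q) := h.fn.2 _ iψ.isConj
      _ ≤ _ := by
          have := finite_of_le (NKt_le S (NK S Q O) (stabAut (NK S Q O) Q) id)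
          exact Subgroup.card_le_of_le h2
  obtain ⟨hr, hsyl⟩ := hfn.props h.pS hsatH
  rw [(Iso.refl F hHS).img_eq] at hr
  refine ⟨Q, h.conj, fa_of_sub hHS h.le_hat hsyl hH1 (fun f hf => h.extend_hat hf), ?_⟩
  refine receptive_of h.QS (fun R₀ f hf N hN => ?_)
  have hR₀ : F.IsConj X R₀ := isConj_trans h.conj (isConj_symm hf.isConj)
  obtain ⟨u, hu, iu⟩ := exists_mor_to_fn h.pS h.sat h.lt h.cardX h.ci h.conj h.fn hR₀
  have hR₀N := le_normalizerIn hf.le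
  have hNN : N ≤ normalizerIn S R₀ := fun g hg => ⟨((hN g).1 hg).1, ((hN g).1 hg).2.1⟩
  obtain ⟨w, hw, hwu, huw⟩ := hu.iso_img.symm
  have hQI : Q ≤ img (normalizerIn S R₀) u := by
    intro y hy
    obtain ⟨x, hx, rfl⟩ := iu.surj hy
    exact hu.iso_img.map_mem (hR₀N hx)
  have iw : Iso F Q R₀ w := by
    refine ⟨hw.mor.mono hQI, fun y => ⟨fun hy => ⟨u y, iu.map_mem hy, hwu y (hR₀N hy)⟩, ?_⟩⟩
    rintro ⟨z, hz, rfl⟩
    obtain ⟨x, hx, rfl⟩ := iu.surj hz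
    rw [hwu x (hR₀N hx)]
    exact hx
  have ia : Iso F Q Q (f ∘ w) := iw.trans hf
  obtain ⟨r, hr', er⟩ := h.extend_hat ia
  have huN : Mor F N u := hu.mono hNN
  have hN'N : img N u ≤ normalizerIn S Q := by
    intro y hy
    obtain ⟨g, hg, rfl⟩ := huN.iso_img.surj hy
    exact hu.map_mem_normalizerIn hR₀N inf_le_right iu.2 (hNN hg)
  obtain ⟨ρ, hρ, eρ⟩ := extend_of_sub h.pS hr h.le_hat hsyl hH1 ia hr' h.le_hat er (img N u)
    (hN'N.trans (normalizerIn_le S Q)) (hN'N.trans inf_le_right) (hN'N.trans hH1) (by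
      intro y hy
      obtain ⟨g, hg, rfl⟩ := huN.iso_img.surj hy
      obtain ⟨-, hgn, k, hk, ek⟩ := (hN g).1 hg
      refine ⟨k, hk, fun z hz => ?_⟩
      obtain ⟨x, hx, rfl⟩ := iu.surj hz
      show f (w (u g * u x * (u g)⁻¹)) = k * f (w (u x)) * k⁻¹
      rw [← hu.map_conj (hNN hg) (hR₀N hx),
        hwu _ (hR₀N ((Subgroup.mem_normalizer_iff.1 hgn x).1 hx)), hwu x (hR₀N hx), ek x hx])
  refine ⟨ρ ∘ u, huN.comp hρ (fun g hg => Subgroup.mem_sup_right (huN.iso_img.map_mem hg)),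
    fun x hx => ?_⟩
  show ρ (u x) = f x
  rw [eρ _ (iu.map_mem hx)]
  show f (w (u x)) = f x
  rw [hwu x (hR₀N hx)]

end HatCtx

end Cfsg.Agent.Lib.Helper87
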