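import Cfsg.Agent.Lib.Helper87.BCGLO2
import Cfsg.Agent.Lib.Helper87.ModelAut

set_option autoImplicit false

namespace Cfsg.Agent.Lib.Helper87

open Cfsg Cfsg.FusionSystem

variable {Ω : Type*} [Group Ω] {S : Subgroup Ω}

/-- `O_p(Aut_F(P))` as a subgroup of `Aut(P)`. -/
def OpAut (F : FusionSystem S) (p : ℕ) (P : Subgroup Ω) : Subgroup (MulAut P) :=
  (pCore p (F.autGroup P)).map (F.autGroup P).subtype

theorem OpAut_le (F : FusionSystem S) (p : ℕ) (P : Subgroup Ω) : OpAut F p P ≤ F.autGroup P := by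
  rintro _ ⟨x, -, rfl⟩
  exact x.2

theorem OpAut_isPGroup (F : FusionSystem S) (p : ℕ) (P : Subgroup Ω) : IsPGroup p (OpAut F p P) :=
  (pCore_isPGroup' p _).map _

theorem OpAut_normal (F : FusionSystem S) (p : ℕ) (P : Subgroup Ω) :
    ∀ γ ∈ F.autGroup P, ∀ o ∈ OpAut F p P, γ * o * γ⁻¹ ∈ OpAut F p P := by
  rintro γ hγ _ ⟨x, hx, rfl⟩
  exact ⟨⟨γ, hγ⟩ * x * ⟨γ, hγ⟩⁻¹, (pCore_normal' p _).conj_mem x hx ⟨γ, hγ⟩, rfl⟩

theorem le_OpAut {F : FusionSystem S} {p : ℕ} {P : Subgroup Ω} {N : Subgroup (MulAut P)}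
    (hN : N ≤ F.autGroup P) (hp : IsPGroup p N)
    (hn : ∀ γ ∈ F.autGroup P, ∀ ν ∈ N, γ * ν * γ⁻¹ ∈ N) : N ≤ OpAut F p P := by
  intro ν hν
  have h1 : N.subgroupOf (F.autGroup P) ≤ pCore p (F.autGroup P) := by
    refine le_pCore' ⟨fun x hx g => ?_⟩ (isPGroup_subgroupOf hp _)
    exact Subgroup.mem_subgroupOf.2 (hn g g.2 x (Subgroup.mem_subgroupOf.1 hx))
  exact ⟨⟨ν, hN hν⟩, h1 (Subgroup.mem_subgroupOf.2 hν), rfl⟩

theorem inn_le_OpAut {p : ℕ} (hS : IsPGroup p S) (F : FusionSystem S) {P : Subgroup Ω}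
    (hP : P ≤ S) : Inn P ≤ OpAut F p P := by
  rw [inn_eq_autInducedBy]
  refine le_OpAut ?_ (isPGroup_autInducedBy (hS.to_le hP) P) ?_
  · intro α hα
    obtain ⟨g, hg, e⟩ := (mem_autInducedBy_iff P P α).1 hα
    exact autInducedBy_le_autGroup F hP ((mem_autInducedBy_iff S P α).2 ⟨g, hP hg, e⟩)
  · intro γ _ ν hν
    obtain ⟨g, hg, e⟩ := (mem_autInducedBy_iff P P ν).1 hν
    refine (mem_autInducedBy_iff P P _).2 ⟨(γ ⟨g, hg⟩ : P), Subtype.prop _, fun x => ?_⟩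
    show ((γ (ν (γ⁻¹ x)) : P) : Ω) = _
    have h1 : ν (γ⁻¹ x) = ⟨g, hg⟩ * γ⁻¹ x * ⟨g, hg⟩⁻¹ := Subtype.ext (e _)
    rw [h1, map_mul, map_mul, MulAut.apply_inv_self, map_inv]
    rfl

/-- Transport of `O_p(Aut_F(P))` along an isomorphism of the system. -/
theorem Iso.congr_mem_OpAut {F : FusionSystem S} {p : ℕ} {P Q : Subgroup Ω} {f : Ω → Ω}
    (h : Iso F P Q f) {β : MulAut P} (hβ : β ∈ OpAut F p P) :
    MulAut.congr h.toMulEquiv β ∈ OpAut F p Q := by
  have hle : (OpAut F p P).map (MulAut.congr h.toMulEquiv).toMonoidHom ≤ OpAut F p Q := by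
    refine le_OpAut ?_ ((OpAut_isPGroup F p P).map _) ?_
    · rintro _ ⟨b, hb, rfl⟩
      exact h.congr_mem_autGroup (OpAut_le F p P hb)
    · rintro γ hγ _ ⟨b, hb, rfl⟩
      obtain ⟨g, hg, hgf, hfg⟩ := h.symm
      obtain ⟨γ₁, hγ₁, e⟩ := ((h.trans (iso_autFun ((mem_autGroup_iff F h.le' γ).1 hγ))).trans
        hg).exists_aut
      have e' : ∀ x : P, ((γ₁ x : P) : Ω) = g (autFun γ (f x)) := e
      have hγγ : MulAut.congr h.toMulEquiv γ₁ = γ := by
        apply MulEquiv.ext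
        intro y
        apply Subtype.ext
        show ((h.toMulEquiv (γ₁ (h.toMulEquiv.symm y)) : Q) : Ω) = _
        rw [h.toMulEquiv_apply, e', h.apply_toMulEquiv_symm, hfg _ (autFun_mem γ y.2), autFun_coe]
      refine ⟨γ₁ * b * γ₁⁻¹, OpAut_normal F p P γ₁ hγ₁ b hb, ?_⟩
      show MulAut.congr h.toMulEquiv (γ₁ * b * γ₁⁻¹) = γ * MulAut.congr h.toMulEquiv b * γ⁻¹
      rw [map_mul, map_mul, map_inv, hγγ]
  exact hle ⟨β, hβ, rfl⟩

/-- The induction principle for a class outside a generating family. -/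
theorem classInd_of_gen [Finite S] {p : ℕ} [Fact p.Prime] (hS : IsPGroup p S) (F : FusionSystem S)
    (ℋ : Set (Subgroup Ω)) (hconj : ∀ P ∈ ℋ, ∀ Q, F.IsConj P Q → Q ∈ ℋ)
    (hgen : ∀ E : FusionSystem S, (∀ P ∈ ℋ, F.Hom P ⊆ E.Hom P) → F ≤ E) {X : Subgroup Ω}
    (hX : X ∉ ℋ) (hXc : Nat.card X < Nat.card S) : ClassInd F X := by
  intro R hRcongr hRcomp hRinv hRstep A B f hA hf
  have hgrow : ∀ {A T : Subgroup Ω}, T ≤ S → A ≤ T → A ≠ T → A ≠ normalizerIn T A := by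
    intro A T hT hAT hne e
    obtain ⟨g, hg, hgA⟩ := exists_mem_normalizerIn_not_mem hS hT (lt_of_le_of_ne hAT hne)
    exact hgA (e ▸ hg)
  have hneS : ∀ {A : Subgroup Ω}, F.IsConj X A → A ≠ S := by
    intro A hA e
    rw [isConj_card hA, e] at hXc
    exact lt_irrefl _ hXc
  let M : Subgroup Ω → (Ω → Ω) → Prop := fun P f => Mor F P f ∧
    ∀ A B : Subgroup Ω, A ≤ P → F.IsConj X A → Iso F A B f → R A B f
  let E : FusionSystem S := mkSystem S M
    (by
      intro P f g h e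
      exact ⟨h.1.congr e, fun A B hAP hA hg => hRcongr
        (h.2 A B hAP hA (hg.congr (fun x hx => (e x (hAP hx)).symm))) (fun x hx => e x (hAP hx))⟩)
    (fun h => h.1.le) (fun h x hx => h.1.mem hx) (fun h x hx y hy e => h.1.inj hx hy e)
    (by
      intro P g hP hg
      refine ⟨mor_conj F hP hg, fun A B hAP hA hAB => ?_⟩
      exact hRstep hA (le_normalizerIn (isConj_le' hA))
        (hgrow le_rfl (isConj_le' hA) (hneS hA)) le_rfl (mor_conj F (normalizerIn_le S A) hg) hAB)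
    (by
      intro P Q f g hf hg hPQ
      refine ⟨hf.1.comp hg.1 hPQ, fun A C hAP hA hAC => ?_⟩
      have i₁ : Iso F A (img A f) f := (hf.1.mono hAP).iso_img
      have hBQ : img A f ≤ Q := by
        intro y hy
        obtain ⟨x, hx, rfl⟩ := i₁.surj hy
        exact hPQ x (hAP hx)
      have i₂ : Iso F (img A f) C g := by
        refine ⟨hg.1.mono hBQ, fun y => ?_⟩
        rw [hAC.2]
        constructor
        · rintro ⟨x, hx, rfl⟩
          exact ⟨f x, i₁.map_mem hx, rfl⟩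
        · rintro ⟨z, hz, rfl⟩
          obtain ⟨x, hx, rfl⟩ := i₁.surj hz
          exact ⟨x, hx, rfl⟩
      exact hRcomp hA i₁ i₂ (hf.2 _ _ hAP hA i₁)
        (hg.2 _ _ hBQ (isConj_trans hA i₁.isConj) i₂))
    (by
      intro P Q f hf _ hQ
      have i : Iso F P Q f := ⟨hf.1, hQ⟩
      obtain ⟨g, hg, hgf, hfg⟩ := i.symm
      refine ⟨g, ⟨hg.mor, fun B' A' hB'Q hB' hBA => ?_⟩, hgf⟩
      have hA'P : A' ≤ P := by
        intro y hy
        obtain ⟨x, hx, rfl⟩ := hBA.surj hy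
        exact hg.map_mem (hB'Q hx)
      have iAB : Iso F A' B' f := by
        refine ⟨hf.1.mono hA'P, fun y => ?_⟩
        constructor
        · intro hy
          exact ⟨g y, hBA.map_mem hy, hfg y (hB'Q hy)⟩
        · rintro ⟨z, hz, rfl⟩
          obtain ⟨x, hx, rfl⟩ := hBA.surj hz
          rw [hfg x (hB'Q hx)]
          exact hx
      have hA' : F.IsConj X A' := isConj_trans hB' hBA.isConj
      exact hRinv hA' iAB hBA (fun x hx => hgf x (hA'P hx)) (hf.2 _ _ hA'P hA' iAB))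
  have hFE : F ≤ E := by
    refine hgen E (fun P hP φ hφ => ?_)
    show M P (ext φ)
    have hm : Mor F P (ext φ) := Mor.of_hom hφ
    refine ⟨hm, fun A B hAP hA hAB => ?_⟩
    have hne : A ≠ P := fun e => hX (hconj P hP X (e ▸ isConj_symm hA))
    exact hRstep hA (le_normalizerIn hAP) (hgrow hm.le hAP hne)
      (inf_le_inf_right _ hm.le) (hm.mono inf_le_left) hAB
  obtain ⟨φ, hφ, e⟩ := hf.mor
  have hM : M A (ext φ) := hFE A hφ
  have hM' := hM.2 A B le_rfl hA (hf.congr (fun x hx => by rw [ext_apply φ hx, e]))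
  exact hRcongr hM' (fun x hx => by rw [ext_apply φ hx, e])

/-- The saturation criterion of Broto, Castellana, Grodal, Levi and Oliver. -/
theorem saturated_of_gen [Finite S] {p : ℕ} [Fact p.Prime] (hS : IsPGroup p S) (F : FusionSystem S)
    (ℋ : Set (Subgroup Ω)) (hconj : ∀ P ∈ ℋ, ∀ Q, F.IsConj P Q → Q ∈ ℋ)
    (hsat : ∀ P ∈ ℋ, SatAt F p P)
    (hgen : ∀ E : FusionSystem S, (∀ P ∈ ℋ, F.Hom P ⊆ E.Hom P) → F ≤ E)
    (hstar : ∀ P : Subgroup Ω, F.IsCentric P → P ∉ ℋ → ∃ Q, F.IsConj P Q ∧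
      ¬ (autInducedBy S Q ⊓ OpAut F p Q ≤ Inn Q)) : F.IsSaturated p := by
  have hconjS : ∀ Q, F.IsConj S Q → Q = S := fun Q hQ =>
    eq_of_le_of_card_le'' le_rfl (isConj_le' hQ) (isConj_card hQ).le
  have hSℋ : S ∈ ℋ := by
    by_contra hc
    obtain ⟨Q, hQ, hn⟩ := hstar S ⟨le_rfl, fun Q hQ => by
      rw [hconjS Q hQ]; exact centralizerIn_le S S⟩ hc
    rw [hconjS Q hQ] at hn
    apply hn
    rw [inn_eq_autInducedBy]
    exact inf_le_left
  have main : ∀ (m : ℕ) (X : Subgroup Ω), X ≤ S → Nat.card S - Nat.card X = m → SatAt F p X := by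
    intro m
    induction m using Nat.strong_induction_on with
    | _ m ih =>
    intro X hXS hm
    by_cases hX : X ∈ ℋ
    · exact hsat X hX
    have hXc : Nat.card X < Nat.card S := card_lt_of_le_ne le_rfl hXS (fun e => hX (e ▸ hSℋ))
    have habove : SatAbove F p (Nat.card X) := by
      intro Y hY hlt
      have := Subgroup.card_le_of_le hY
      exact ih (Nat.card S - Nat.card Y) (by omega) Y hY rfl
    have hci := classInd_of_gen hS F ℋ hconj hgen hX hXc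
    obtain ⟨Q, hQ, hQfn⟩ := exists_fullyNormalized_conj F hXS
    have hto : ∀ {A : Subgroup Ω}, F.IsConj X A → ∃ u, Mor F (normalizerIn S A) u ∧ Iso F A Q u :=
      fun hA => exists_mor_to_fn hS habove hXc rfl hci hQ hQfn hA
    have hne : ∃ x ∈ NK S Q (OpAut F p Q), x ∉ Q := by
      by_cases hc : F.IsCentric X
      · obtain ⟨Q', hQ', hn⟩ := hstar X hc hX
        obtain ⟨α, ⟨hα₁, hα₂⟩, hα₃⟩ := SetLike.not_le_iff_exists.1 hn
        obtain ⟨s, hs, es⟩ := (mem_autInducedBy_iff S Q' α).1 hα₁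
        have hsN : s ∈ normalizerIn S Q' := ⟨hs, mem_normalizer_of_induces es⟩
        obtain ⟨u, hu, iu⟩ := hto hQ'
        have hQ'N := le_normalizerIn iu.le
        refine ⟨u s, ⟨hu.mem hsN, _, iu.congr_mem_OpAut hα₂, fun y => ?_⟩, fun hus => ?_⟩
        · show ((iu.toMulEquiv (α (iu.toMulEquiv.symm y)) : Q) : Ω) = _
          rw [iu.toMulEquiv_apply, es, hu.map_conj hsN (hQ'N (Subtype.prop _)),
            iu.apply_toMulEquiv_symm]
        · obtain ⟨q, hq, e⟩ := iu.surj hus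
          have h1 : q = s := hu.inj (hQ'N hq) hsN e
          apply hα₃
          rw [inn_eq_autInducedBy]
          exact (mem_autInducedBy_iff Q' Q' α).2 ⟨s, h1 ▸ hq, es⟩
      · have h1 : ∃ Q', F.IsConj X Q' ∧ ¬ centralizerIn S Q' ≤ Q' := by
          by_contra hcon
          exact hc ⟨hXS, fun Q' hQ' => by_contra (fun hn => hcon ⟨Q', hQ', hn⟩)⟩
        obtain ⟨Q', hQ', hn⟩ := h1
        obtain ⟨c, hc₁, hc₂⟩ := SetLike.not_le_iff_exists.1 hn
        obtain ⟨u, hu, iu⟩ := hto hQ'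
        have hQ'N := le_normalizerIn iu.le
        have hcN := centralizerIn_le_normalizerIn S Q' hc₁
        have huc := hu.map_mem_centralizerIn hQ'N iu.2 hcN ((mem_centralizerIn_iff S Q' c).1 hc₁).2
        refine ⟨u c, ⟨hu.mem hcN, 1, Subgroup.one_mem _, fun y => ?_⟩, fun huc' => ?_⟩
        · have h2 := ((mem_centralizerIn_iff S Q _).1 huc).2 y y.2
          show (y : Ω) = _
          rw [← h2]
          group
        · obtain ⟨q, hq, e⟩ := iu.surj huc'
          exact hc₂ (hu.inj (hQ'N hq) hcN e ▸ hq)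
    exact HatCtx.satAt (n := Nat.card X) (Q := Q) (O := OpAut F p Q)
      ⟨hS, habove, hXc, rfl, hci, hQ, hQfn, OpAut_isPGroup F p Q, OpAut_normal F p Q,
        inn_le_OpAut hS F hQfn.1, hne⟩
  exact fun P hP => main _ P hP rfl

end Cfsg.Agent.Lib.Helper87
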