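import Cfsg.Agent.Lib.Helper15.FusCE4

set_option autoImplicit false

/-! The largest subgroup of `C_S(T)` centralized by a normal subsystem over `T`. -/

namespace Cfsg.Agent.Lib.Helper87

open Cfsg Cfsg.FusionSystem Cfsg.Agent.Lib.Helper15.FusCE

variable {Ω : Type*} [Group Ω] {S T : Subgroup Ω} {F : FusionSystem S} {E : FusionSystem T}

/-- `Y ≤ C_S(T)` and `E ≤ C_F(Y)`. -/
def InY (E : FusionSystem T) (F : FusionSystem S) (Y : Subgroup Ω) : Prop :=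
  Y ≤ centralizerIn S T ∧ ∀ (P : Subgroup Ω) (f : Ω → Ω), Mor E P f → ExtC F Y P f

theorem InY.mono {Y Y' : Subgroup Ω} (h : InY E F Y) (hle : Y' ≤ Y) : InY E F Y' :=
  ⟨hle.trans h.1, fun P f hf => by
    obtain ⟨f', h1, h2, h3⟩ := h.2 P f hf
    exact ⟨f', h1.mono (sup_le_sup_left hle P), h2, fun x hx => h3 x (hle hx)⟩⟩

theorem fixHyp_of_inY [Finite S] {p : ℕ} [Fact p.Prime] (hS : IsPGroup p S) (hF : F.IsSaturated p)
    {Y : Subgroup Ω} (h : InY E F Y) : FixHyp p E F Y := by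
  intro R P χ α γ hRT hPrec hχ hχR hα hγ ho hcm v hv
  have hanti := centralizerIn_anti S hRT
  have hvC : v ∈ centralizerIn S R := hanti (h.1 hv)
  have hRD : R ≤ R ⊔ centralizerIn S R := le_sup_left
  have hCD : centralizerIn S R ≤ R ⊔ centralizerIn S R := le_sup_right
  have hvD : v ∈ R ⊔ centralizerIn S R := hCD hvC
  have hV : R ⊔ Subgroup.zpowers v ≤ R ⊔ centralizerIn S R := sz_le hRD hvD
  obtain ⟨a', ha', ha'R, ha'Y⟩ := h.2 R (autFun α) ((mem_autGroup_iff E hRT α).1 hα)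
  have ha'V : Mor F (R ⊔ Subgroup.zpowers v) a' :=
    ha'.mono (sup_le_sup_left ((Subgroup.zpowers_le).2 hv) R)
  have hχV : Mor F (R ⊔ Subgroup.zpowers v) χ := hχ.mono hV
  have hisoV := Mor.iso_sz hχV hχR
  obtain ⟨χi, hχi, hχiχ, -⟩ := hisoV.symm
  have ha'D : ∀ r ∈ R ⊔ Subgroup.zpowers v, a' r ∈ R ⊔ centralizerIn S R :=
    Mor.map_sz_mem ha'V (fun r hr => by rw [ha'R r hr]; exact hRD (autFun_mem α hr))
      (by rw [ha'Y v hv]; exact hvD)
  have hk : Mor F (P ⊔ Subgroup.zpowers (χ v)) (χ ∘ (a' ∘ χi)) :=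
    (hχi.mor.comp ha'V (fun r hr => hχi.map_mem hr)).comp hχ (fun r hr => ha'D _ (hχi.map_mem hr))
  have hχv : χ v ∈ centralizerIn S P :=
    hχ.map_mem_centralizerIn hRD hχR hvD ((mem_centralizerIn_iff _ _ _).1 hvC).2
  refine hγ.fix_of_ext hS hF hPrec ho hχv hk (fun x hx => ?_) ?_
  · obtain ⟨r, hr, rfl⟩ := (hχR x).1 hx
    show χ (a' (χi (χ r))) = _
    rw [hχiχ r (le_sup_left (a := R) hr), ha'R r hr, hcm r hr]
  · show χ (a' (χi (χ v))) = χ v
    rw [hχiχ v (mem_sup_zp R v), ha'Y v hv]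

theorem fixHyp_sSup [Finite S] {p : ℕ} {𝒴 : Set (Subgroup Ω)}
    (hle : ∀ Y ∈ 𝒴, Y ≤ centralizerIn S T)
    (h : ∀ Y ∈ 𝒴, FixHyp p E F Y) : FixHyp p E F (sSup 𝒴) := by
  intro R P χ α γ hRT hPrec hχ hχR hα hγ ho hcm
  have hanti := centralizerIn_anti S hRT
  have hRD : R ≤ R ⊔ centralizerIn S R := le_sup_left
  have hCD : centralizerIn S R ≤ R ⊔ centralizerIn S R := le_sup_right
  have hχC : ∀ c ∈ centralizerIn S R, χ c ∈ P ⊔ centralizerIn S P := fun c hc =>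
    le_sup_right (a := P) (hχ.map_mem_centralizerIn hRD hχR (hCD hc)
      ((mem_centralizerIn_iff _ _ _).1 hc).2)
  let K : Subgroup Ω :=
    { carrier := {v | v ∈ centralizerIn S R ∧ autFun γ (χ v) = χ v}
      mul_mem' := by
        rintro a b ⟨ha, ea⟩ ⟨hb, eb⟩
        refine ⟨Subgroup.mul_mem _ ha hb, ?_⟩
        rw [hχ.map_mul (hCD ha) (hCD hb), hγ.iso.mor.map_mul (hχC a ha) (hχC b hb), ea, eb]
      one_mem' := ⟨Subgroup.one_mem _, by rw [hχ.map_one, hγ.iso.mor.map_one]⟩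
      inv_mem' := by
        rintro a ⟨ha, ea⟩
        refine ⟨Subgroup.inv_mem _ ha, ?_⟩
        rw [hχ.map_inv (hCD ha), hγ.iso.mor.map_inv (hχC a ha), ea] }
  have hK : sSup 𝒴 ≤ K := sSup_le (fun Y hY v hv =>
    ⟨hanti (hle Y hY hv), h Y hY R P χ α γ hRT hPrec hχ hχR hα hγ ho hcm v hv⟩)
  exact fun v hv => (hK hv).2

/-- The subgroup `C_S(E)`. -/
def CSE (E : FusionSystem T) (F : FusionSystem S) : Subgroup Ω := sSup {Y | InY E F Y}

theorem CSE_le (E : FusionSystem T) (F : FusionSystem S) : CSE E F ≤ centralizerIn S T :=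
  sSup_le (fun _ hY => hY.1)

theorem inY_CSE [Finite S] {p : ℕ} [Fact p.Prime] (hS : IsPGroup p S) (hE : E.IsNormalIn F p) :
    InY E F (CSE E F) :=
  ⟨CSE_le E F, main_ext hS hE (CSE_le E F) (fixHyp_sSup (fun _ hY => hY.1)
    (fun _ hY => fixHyp_of_inY hS hE.1.2.1 hY))⟩

theorem le_CSE {Y : Subgroup Ω} (h : InY E F Y) : Y ≤ CSE E F := le_sSup h

/-- Transport of a centralized subgroup along a map of `F` defined on `T X`. -/
theorem InY.transport [Finite S] (hT : F.StronglyClosed T) (hinv : InvF E F) {X : Subgroup Ω}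
    (h : InY E F X) {θ : Ω → Ω} (hθ : Mor F (T ⊔ X) θ) : InY E F (img X θ) := by
  have : Finite T := finite_of_le hT.1
  have hTD : T ≤ T ⊔ X := le_sup_left
  have hXD : X ≤ T ⊔ X := le_sup_right
  have ha : Iso F T T θ :=
    (hθ.mono hTD).iso_self (fun x hx => StronglyClosed.map_mem hT hθ (hTD hx) hx)
  have hiso := hθ.iso_img
  have hisoX := (hθ.mono hXD).iso_img
  obtain ⟨θi, hθi, hθiθ, hθθi⟩ := hiso.symm
  have hTI : T ≤ img (T ⊔ X) θ := by
    intro t ht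
    obtain ⟨t', ht', rfl⟩ := ha.surj ht
    exact hiso.map_mem (hTD ht')
  have hXI : img X θ ≤ img (T ⊔ X) θ := by
    intro y hy
    obtain ⟨x, hx, rfl⟩ := hisoX.surj hy
    exact hiso.map_mem (hXD hx)
  have hθiT : ∀ t ∈ T, θi t ∈ T := by
    intro t ht
    obtain ⟨t', ht', rfl⟩ := ha.surj ht
    rw [hθiθ t' (hTD ht')]
    exact ht'
  have hai : Iso F T T θi := (hθi.mor.mono hTI).iso_self hθiT
  refine ⟨fun y hy => ?_, fun P f hf => ?_⟩
  · obtain ⟨x, hx, rfl⟩ := hisoX.surj hy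
    exact hθ.map_mem_centralizerIn hTD ha.2 (hXD hx) ((mem_centralizerIn_iff _ _ _).1 (h.1 hx)).2
  · have hPT : P ≤ T := hf.le
    have hisoP := (hai.mor.mono hPT).iso_img
    obtain ⟨χ, hχ, hχc⟩ := hinv P f hf θi hai (img P θi) hisoP.2
    obtain ⟨χ', hχ', hχ'P, hχ'X⟩ := h.2 _ χ hχ
    have hle : P ⊔ img X θ ≤ img (T ⊔ X) θ := sup_le (hPT.trans hTI) hXI
    have hm1 : Mor F (P ⊔ img X θ) θi := hθi.mor.mono hle
    have hm1' : ∀ x ∈ P ⊔ img X θ, θi x ∈ img P θi ⊔ X :=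
      hm1.map_sup_mem (fun x hx => le_sup_left (a := img P θi) (hisoP.map_mem hx))
        (fun y hy => by
          obtain ⟨x, hx, rfl⟩ := hisoX.surj hy
          rw [hθiθ x (hXD hx)]
          exact le_sup_right (a := img P θi) hx)
    have hm2' : ∀ x ∈ img P θi ⊔ X, χ' x ∈ T ⊔ X :=
      hχ'.map_sup_mem (fun x hx => by rw [hχ'P x hx]; exact hTD (hχ.mem hx))
        (fun x hx => by rw [hχ'X x hx]; exact hXD hx)
    refine ⟨θ ∘ (χ' ∘ θi), (hm1.comp hχ' hm1').comp hθ (fun x hx => hm2' _ (hm1' x hx)),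
      fun x hx => ?_, fun y hy => ?_⟩
    · show θ (χ' (θi x)) = f x
      rw [hχ'P _ (hisoP.map_mem hx), hχc x hx, hθθi _ (hTI (hf.mem hx))]
    · obtain ⟨x, hx, rfl⟩ := hisoX.surj hy
      show θ (χ' (θi (θ x))) = θ x
      rw [hθiθ x (hXD hx), hχ'X x hx]

end Cfsg.Agent.Lib.Helper87
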