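import Cfsg.Agent.Lib.Helper87.Craven1

set_option autoImplicit false

namespace Cfsg.Agent.Lib.Helper87

open Cfsg Cfsg.FusionSystem

variable {Ω : Type*} [Group Ω] {S T : Subgroup Ω}

/-- `Aut_E(U)` is normal in `Aut_F(U)` for an invariant subsystem. -/
theorem autGroup_normal_of_strong {F : FusionSystem S} {E : FusionSystem T} (hTS : T ≤ S)
    (hst : StrongInvF E F) {U : Subgroup Ω} (hU : U ≤ T) {γ κ : MulAut U}
    (hγ : γ ∈ F.autGroup U) (hκ : κ ∈ E.autGroup U) : γ * κ * γ⁻¹ ∈ E.autGroup U := by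
  have hg : Iso F U U (autFun γ) := iso_autFun ((mem_autGroup_iff F (hU.trans hTS) γ).1 hγ)
  obtain ⟨χ, hχ, hc⟩ := hst U U _ _ le_rfl hU ((mem_autGroup_iff E hU κ).1 hκ)
    (fun x hx => autFun_mem κ hx) hg.mor U hg.2
  rw [mem_autGroup_iff E hU]
  refine hχ.congr (fun y hy => ?_)
  have h1 := hc _ (autFun_mem γ⁻¹ hy)
  rw [autFun_autFun_inv γ hy] at h1
  rw [h1, autFun_mul _ _ hy, autFun_mul _ _ (autFun_mem γ⁻¹ hy)]

/-- A subgroup of `T` fully normalized in `F` is fully normalized in a subsystem over `T`. -/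
theorem fullyNormalized_sub [Finite S] {p : ℕ} [Fact p.Prime] (hS : IsPGroup p S)
    {F : FusionSystem S} (hF : F.IsSaturated p) {E : FusionSystem T} (hsub : E.IsSubsystemOf F)
    (hT : F.StronglyClosed T) {U : Subgroup Ω} (hUT : U ≤ T) (hU : F.IsFullyNormalized U) :
    E.IsFullyNormalized U := by
  refine ⟨hUT, fun Q hQ => ?_⟩
  obtain ⟨f, hf⟩ := (isConj_iff E U Q).1 hQ
  have hQU : F.IsConj Q U := isConj_symm ((isConj_iff F U Q).2 ⟨f, hf.mor.of_subsystem hsub, hf.2⟩)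
  obtain ⟨g, hg, -, hgN⟩ := exists_mor_normalizer_of_fullyNormalized hS hF hU hQU
  have hle : normalizerIn T Q ≤ normalizerIn S Q := fun x hx => ⟨hT.1 hx.1, hx.2⟩
  exact hg.card_le hle ((normalizerIn_le T U).trans hT.1)
    (fun x hx => ⟨StronglyClosed.map_mem hT hg (hle hx) hx.1, (hgN x (hle hx)).2⟩)

/-- For `U ≤ T` fully normalized in `F`: `Aut_S(U) ∩ Aut_E(U) = Aut_T(U)`. -/
theorem autS_inf_autE [Finite S] {p : ℕ} [Fact p.Prime] (hS : IsPGroup p S)
    {F : FusionSystem S} (hF : F.IsSaturated p) {E : FusionSystem T} (hE : E.IsSaturated p)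
    (hsub : E.IsSubsystemOf F) (hT : F.StronglyClosed T) {U : Subgroup Ω} (hUT : U ≤ T)
    (hU : F.IsFullyNormalized U) : autInducedBy S U ⊓ E.autGroup U = autInducedBy T U := by
  have : Finite T := finite_of_le hT.1
  have hsyl := (fullyAutomized_iff E p hUT).1 (fullyNormalized_fullyAutomized (hS.to_le hT.1) hE
    (fullyNormalized_sub hS hF hsub hT hUT hU))
  refine hsyl.2.2 _ inf_le_right ((isPGroup_autInducedBy hS U).to_le inf_le_left)
    (le_inf (fun σ hσ => ?_) hsyl.1)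
  obtain ⟨g, hg, e⟩ := (mem_autInducedBy_iff T U σ).1 hσ
  exact (mem_autInducedBy_iff S U σ).2 ⟨g, hT.1 hg, e⟩

/-- **Step A.** Automorphisms of `p`-power order in `E` of centric subgroups are good. -/
theorem good_of_pElement [Finite S] {p : ℕ} [Fact p.Prime] (hS : IsPGroup p S)
    {F : FusionSystem S} (hF : F.IsSaturated p) {E : FusionSystem T} (hE : E.IsSaturated p)
    (hsub : E.IsSubsystemOf F) (hT : F.StronglyClosed T) (hinv : InvF E F) (hfrat : FratF E F)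
    {R : Subgroup Ω} (hR : E.IsCentric R) {β : MulAut R} (hβ : β ∈ E.autGroup R) {k : ℕ}
    (hk : orderOf β = p ^ k) : GoodX F T R (autFun β) := by
  have hst := strongInvF_of_invariant hinv hfrat
  have hRS : R ≤ S := hR.1.trans hT.1
  obtain ⟨U, hRU, hU⟩ := exists_fullyNormalized_conj F hRS
  obtain ⟨ρ, hρ⟩ := (isConj_iff F R U).1 hRU
  have hUc : E.IsCentric U := centric_of_iso_F hinv hfrat hR hρ
  have hUT := hUc.1
  have : Finite U := finite_of_le hU.1
  -- transport of `β`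
  obtain ⟨χ, hχ, hc⟩ := hst R R _ _ le_rfl hR.1 ((mem_autGroup_iff E hR.1 β).1 hβ)
    (fun x hx => autFun_mem β hx) hρ.mor U hρ.2
  have hχU : Iso E U U χ := by
    refine hχ.iso_self (fun y hy => ?_)
    obtain ⟨x, hx, rfl⟩ := hρ.surj hy
    rw [hc x hx]
    exact hρ.map_mem (autFun_mem β hx)
  obtain ⟨β', hβ', eβ'⟩ := hχU.exists_aut
  have hpow : ∀ (n : ℕ) (x : R), (((β' ^ n) ⟨ρ x, hρ.map_mem x.2⟩ : U) : Ω) = ρ ((β ^ n) x : R) := by
    intro n
    induction n with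
    | zero => intro x; rfl
    | succ n ih =>
      intro x
      rw [pow_succ, pow_succ, MulAut.mul_apply, MulAut.mul_apply]
      have h1 : β' ⟨ρ x, hρ.map_mem x.2⟩ = ⟨ρ (β x : R), hρ.map_mem (Subtype.prop _)⟩ := by
        apply Subtype.ext
        rw [eβ']
        show χ (ρ x) = _
        rw [hc x x.2, autFun_coe]
      rw [h1, ih]
  have hβ'p : β' ^ (p ^ k) = 1 := by
    ext y
    obtain ⟨x, hx, e⟩ := hρ.surj y.2
    have h1 : y = ⟨ρ x, hρ.map_mem hx⟩ := Subtype.ext e.symm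
    rw [h1, hpow _ ⟨x, hx⟩, ← hk, pow_orderOf_eq_one]
    rfl
  have hLp : IsPGroup p (Subgroup.zpowers β') := by
    rintro ⟨γ, hγ⟩
    obtain ⟨i, rfl⟩ := Subgroup.mem_zpowers_iff.1 hγ
    refine ⟨k, Subtype.ext ?_⟩
    show (β' ^ i) ^ (p ^ k) = 1
    rw [← zpow_natCast, ← zpow_mul, mul_comm, zpow_mul, zpow_natCast, hβ'p, one_zpow]
  have hEF : E.autGroup U ≤ F.autGroup U := by
    intro σ hσ
    rw [mem_autGroup_iff F hU.1]
    exact ((mem_autGroup_iff E hUT σ).1 hσ).of_subsystem hsub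
  have hsyl : IsSylIn p (autInducedBy S U ⊓ E.autGroup U) (E.autGroup U) :=
    ((fullyAutomized_iff F p hU.1).1 (fullyNormalized_fullyAutomized hS hF hU)).inf_normal hEF
      (fun g hg x hx => autGroup_normal_of_strong hT.1 hst hUT hg hx)
  rw [autS_inf_autE hS hF hE hsub hT hUT hU] at hsyl
  obtain ⟨γ, hγ, hconj⟩ := hsyl.exists_conj ((Subgroup.zpowers_le).2 hβ') hLp
  obtain ⟨t, ht, et⟩ := (mem_autInducedBy_iff T U _).1 (hconj β' (Subgroup.mem_zpowers β'))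
  have htN : t ∈ Subgroup.normalizer (U : Set Ω) := mem_normalizer_of_induces et
  -- the isomorphism `μ`
  have hγi : Iso F U U (autFun γ) := iso_autFun ((mem_autGroup_iff F hU.1 γ).1 (hEF hγ))
  have hμ : Iso F R U (autFun γ ∘ ρ) := hρ.trans hγi
  set μ := autFun γ ∘ ρ with hμdef
  have hμβ : ∀ x ∈ R, μ (autFun β x) = t * μ x * t⁻¹ := by
    intro x hx
    have h1 := et (γ ⟨ρ x, hρ.map_mem hx⟩)
    have h2 : (γ * β' * γ⁻¹) (γ ⟨ρ x, hρ.map_mem hx⟩) = γ (β' ⟨ρ x, hρ.map_mem hx⟩) := by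
      simp [MulAut.mul_apply]
    rw [h2] at h1
    have h3 : β' ⟨ρ x, hρ.map_mem hx⟩ = ⟨ρ (autFun β x), hρ.map_mem (autFun_mem β hx)⟩ := by
      apply Subtype.ext
      rw [eβ']
      exact hc x hx
    rw [h3] at h1
    show autFun γ (ρ (autFun β x)) = t * autFun γ (ρ x) * t⁻¹
    rw [autFun_apply γ (hρ.map_mem (autFun_mem β hx)), autFun_apply γ (hρ.map_mem hx)]
    exact h1
  obtain ⟨m', hm', hag, hcen⟩ :=
    receptive_extend_centralizer (fullyNormalized_receptive hS hF hU) hμ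
  have hKle : centralizerIn S T ≤ centralizerIn S R := centralizerIn_anti S hR.1
  have hm : Mor F (R ⊔ centralizerIn S T) m' := hm'.mono (sup_le_sup_left hKle _)
  have hW := hm.iso_img
  set W := img (R ⊔ centralizerIn S T) m' with hWdef
  have hRW : ∀ x ∈ R, m' x ∈ W := fun x hx => hW.map_mem ((le_sup_left : R ≤ _) hx)
  have hUW : U ≤ W := by
    intro y hy
    obtain ⟨x, hx, rfl⟩ := hμ.surj hy
    rw [← hag x hx]
    exact hRW x hx
  -- the commutator of `t` with the image of `C_S(T)`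
  have hz : ∀ c ∈ centralizerIn S T, ∃ w ∈ R, t * m' c * t⁻¹ = m' c * m' w := by
    intro c hc
    have hmc := hcen c (hKle hc)
    obtain ⟨hmcS, hmcc⟩ := (mem_centralizerIn_iff S U _).1 hmc
    have h1 : (m' c)⁻¹ * (t * m' c * t⁻¹) ∈ centralizerIn T U := by
      refine (mem_centralizerIn_iff T U _).2 ⟨?_, fun u hu => ?_⟩
      · have h2 : (m' c)⁻¹ * (t * m' c * t⁻¹) = ((m' c)⁻¹ * t * ((m' c)⁻¹)⁻¹) * t⁻¹ := by group
        rw [h2]
        exact T.mul_mem (StronglyClosed.conj_mem hT (S.inv_mem hmcS) ht) (T.inv_mem ht)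
      · have hu' : t⁻¹ * u * t ∈ U := by
          have := (Subgroup.mem_normalizer_iff.1 (Subgroup.inv_mem _ htN) u).1 hu
          simpa using this
        have h3 := hmcc _ hu'
        have h4 := hmcc u hu
        have h5 : u * (m' c)⁻¹ = (m' c)⁻¹ * u := by
          calc u * (m' c)⁻¹ = (m' c)⁻¹ * (m' c * u) * (m' c)⁻¹ := by group
            _ = (m' c)⁻¹ * (u * m' c) * (m' c)⁻¹ := by rw [h4]
            _ = (m' c)⁻¹ * u := by group
        calc u * ((m' c)⁻¹ * (t * m' c * t⁻¹)) = (u * (m' c)⁻¹) * t * m' c * t⁻¹ := by group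
          _ = (m' c)⁻¹ * u * t * m' c * t⁻¹ := by rw [h5]
          _ = (m' c)⁻¹ * t * ((t⁻¹ * u * t) * m' c) * t⁻¹ := by group
          _ = (m' c)⁻¹ * t * (m' c * (t⁻¹ * u * t)) * t⁻¹ := by rw [h3]
          _ = (m' c)⁻¹ * (t * m' c * t⁻¹) * u := by group
    obtain ⟨w, hw, e⟩ := hμ.surj (centric_self hUc h1)
    refine ⟨w, hw, ?_⟩
    rw [hag w hw, e]
    group
  have hct : Mor F W (fun y => t * y * t⁻¹) := mor_conj F hW.le' (hT.1 ht)
  have hcomp : Mor F (R ⊔ centralizerIn S T) ((fun y => t * y * t⁻¹) ∘ m') :=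
    hm.comp hct (fun x hx => hW.map_mem hx)
  have hmapW : ∀ x ∈ R ⊔ centralizerIn S T, ((fun y => t * y * t⁻¹) ∘ m') x ∈ W := by
    refine hcomp.map_sup_mem (fun x hx => ?_) (fun c hc => ?_)
    · show t * m' x * t⁻¹ ∈ W
      rw [hag x hx, ← hμβ x hx, ← hag _ (autFun_mem β hx)]
      exact hRW _ (autFun_mem β hx)
    · show t * m' c * t⁻¹ ∈ W
      obtain ⟨w, hw, e⟩ := hz c hc
      rw [e]
      exact W.mul_mem (hW.map_mem ((le_sup_right : _ ≤ R ⊔ centralizerIn S T) hc)) (hRW w hw)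
  obtain ⟨ν, hν, hνm, -⟩ := hW.symm
  refine ⟨ν ∘ ((fun y => t * y * t⁻¹) ∘ m'), hcomp.comp hν.mor hmapW, fun x hx => ?_,
    fun c hc => ?_⟩
  · show ν (t * m' x * t⁻¹) = _
    rw [hag x hx, ← hμβ x hx, ← hag _ (autFun_mem β hx),
      hνm _ ((le_sup_left : R ≤ _) (autFun_mem β hx))]
  · show c⁻¹ * ν (t * m' c * t⁻¹) ∈ T
    obtain ⟨w, hw, e⟩ := hz c hc
    have hcK : c ∈ R ⊔ centralizerIn S T := (le_sup_right : _ ≤ R ⊔ centralizerIn S T) hc
    have hwK : w ∈ R ⊔ centralizerIn S T := (le_sup_left : R ≤ _) hw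
    rw [e, ← hm.map_mul hcK hwK, hνm _ (Subgroup.mul_mem _ hcK hwK), inv_mul_cancel_left]
    exact hR.1 hw

end Cfsg.Agent.Lib.Helper87
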