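import Cfsg.Agent.Lib.Helper87.CE1
import Cfsg.Agent.Lib.Helper87.Craven2

set_option autoImplicit false

/-! Tools for the strong closure of `C_S(E)`. -/

namespace Cfsg.Agent.Lib.Helper87

open Cfsg Cfsg.FusionSystem Cfsg.Agent.Lib.Helper15.FusCE

variable {Ω : Type*} [Group Ω] {S T : Subgroup Ω} {F : FusionSystem S} {E : FusionSystem T}

/-- The automorphisms of `U` stabilizing `U ∩ Y`. -/
def stabY (Y U : Subgroup Ω) : Subgroup (MulAut U) where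
  carrier := {β | ∀ v : U, (v : Ω) ∈ Y ↔ ((β v : U) : Ω) ∈ Y}
  mul_mem' := by
    intro a b ha hb v
    rw [MulAut.mul_apply, hb v, ha (b v)]
  one_mem' := fun v => Iff.rfl
  inv_mem' := by
    intro a ha v
    rw [ha (a⁻¹ v), MulAut.apply_inv_self]

theorem mem_stabY_of_forall {Y U : Subgroup Ω} [Finite U] {β : MulAut U}
    (h : ∀ v : U, (v : Ω) ∈ Y → ((β v : U) : Ω) ∈ Y) : β ∈ stabY Y U := by
  have key : ∀ (n : ℕ) (v : U), (v : Ω) ∈ Y → (((β ^ n) v : U) : Ω) ∈ Y := by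
    intro n
    induction n with
    | zero => intro v hv; simpa using hv
    | succ n ih =>
      intro v hv
      rw [pow_succ', MulAut.mul_apply]
      exact h _ (ih v hv)
  intro v
  refine ⟨h v, fun hv => ?_⟩
  have h1 := key (orderOf β - 1) (β v) hv
  have h2 : (β ^ (orderOf β - 1)) (β v) = v := by
    rw [← MulAut.mul_apply, ← pow_succ, Nat.sub_add_cancel (orderOf_pos β), pow_orderOf_eq_one]
    rfl
  rwa [h2] at h1

/-- The Frattini argument. -/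
theorem frattini_stab [Finite S] {p : ℕ} [Fact p.Prime] {Y U : Subgroup Ω}
    (hfa : F.IsFullyAutomized p U) (hrec : F.IsReceptive U)
    (IH : ∀ (P' : Subgroup Ω) (f' : Ω → Ω), Nat.card U < Nat.card P' → Mor F P' f' →
      ∀ v ∈ P', (v ∈ Y ↔ f' v ∈ Y))
    (M : Subgroup (MulAut U)) (hM : M ≤ F.autGroup U)
    (hMn : ∀ δ ∈ F.autGroup U, ∀ η ∈ M, δ * η * δ⁻¹ ∈ M) (hMB : M ≤ stabY Y U)
    (hs : ∃ s ∈ S, s ∉ U ∧ ∃ κ ∈ M, ∀ x : U, ((κ x : U) : Ω) = s * x * s⁻¹) :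
    F.autGroup U ≤ stabY Y U := by
  have hUS : U ≤ S := hfa.1
  have : Finite U := finite_of_le hUS
  have hsyl : IsSylIn p (autInducedBy S U) (F.autGroup U) := (fullyAutomized_iff F p hUS).1 hfa
  have hK : IsSylIn p (autInducedBy S U ⊓ M) M := hsyl.inf_normal hM hMn
  intro β hβ
  have hLM : (autInducedBy S U ⊓ M).map (MulAut.conj β).toMonoidHom ≤ M := by
    rintro _ ⟨κ, hκ, rfl⟩
    exact hMn β hβ κ hκ.2
  obtain ⟨μ, hμ, hμL⟩ := hK.exists_conj hLM (hK.2.1.map _)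
  have hν : ∀ κ ∈ autInducedBy S U ⊓ M, (μ * β) * κ * (μ * β)⁻¹ ∈ autInducedBy S U ⊓ M := by
    intro κ hκ
    have h1 := hμL _ ⟨κ, hκ, rfl⟩
    have h2 : (μ * β) * κ * (μ * β)⁻¹ = μ * (MulAut.conj β).toMonoidHom κ * μ⁻¹ := by
      show _ = μ * (β * κ * β⁻¹) * μ⁻¹
      group
    rw [h2]
    exact h1
  have hνF : μ * β ∈ F.autGroup U := Subgroup.mul_mem _ (hM hμ) hβ
  have hνiso : Iso F U U (autFun (μ * β)) := iso_autFun ((mem_autGroup_iff F hUS _).1 hνF)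
  obtain ⟨ν', hν', hν'U⟩ := receptive_extend hrec hνiso (NK S U (autInducedBy S U ⊓ M))
    (fun g hg => hg.1) (fun g hg => by
      obtain ⟨-, κ, -, e⟩ := hg
      exact mem_normalizer_of_induces e) (fun g hg => by
      obtain ⟨-, κ, hκ, e⟩ := hg
      obtain ⟨k, hk, ek⟩ := (mem_autInducedBy_iff S U _).1 (hν κ hκ).1
      refine ⟨k, hk, fun x hx => ?_⟩
      have h1 := ek ((μ * β) ⟨x, hx⟩)
      rw [MulAut.mul_apply, MulAut.inv_apply_self, MulAut.mul_apply] at h1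
      rw [autFun_apply _ hx, ← h1, ← autFun_coe, e])
  obtain ⟨s, hsS, hsU, κ, hκ, e⟩ := hs
  have hsN : s ∈ NK S U (autInducedBy S U ⊓ M) :=
    ⟨hsS, κ, ⟨(mem_autInducedBy_iff S U κ).2 ⟨s, hsS, e⟩, hκ⟩, e⟩
  have hlt : U < U ⊔ NK S U (autInducedBy S U ⊓ M) :=
    lt_of_le_of_ne le_sup_left (fun h => hsU (h ▸ (le_sup_right : _ ≤ U ⊔ _) hsN))
  have : Finite ↥(U ⊔ NK S U (autInducedBy S U ⊓ M)) := finite_of_le hν'.le
  have h3 := IH _ ν' (Helper89.card_lt_of_lt hlt) hν'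
  have h4 : μ * β ∈ stabY Y U := by
    intro v
    rw [h3 v (le_sup_left (a := U) v.2), hν'U v v.2, autFun_coe]
  have h5 : β = μ⁻¹ * (μ * β) := by group
  rw [h5]
  exact Subgroup.mul_mem _ (Subgroup.inv_mem _ (hMB hμ)) h4

/-- the group `mGrp` is normalized by `Aut_F(R)`. -/
theorem mGrp_normalF [Finite S] {R P : Subgroup Ω} (hRS : R ≤ S)
    (hP : F.IsReceptive P) {χ : Ω → Ω} (hχ : Iso F R P χ) {l a : MulAut R}
    (hl : l ∈ F.autGroup R) (hlE : ∀ a ∈ E.autGroup R, l * a * l⁻¹ ∈ E.autGroup R)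
    (ha : a ∈ mGrp E F R P χ hP.1 (fun _ hx => hχ.map_mem hx)) :
    l * a * l⁻¹ ∈ mGrp E F R P χ hP.1 (fun _ hx => hχ.map_mem hx) := by
  obtain ⟨haE, g, hg, e⟩ := ha
  have hPD : P ≤ P ⊔ centralizerIn S P := le_sup_left
  have hCD : centralizerIn S P ≤ P ⊔ centralizerIn S P := le_sup_right
  have hDS : P ⊔ centralizerIn S P ≤ S := sup_le hP.1 (centralizerIn_le S P)
  have : Finite ↥(P ⊔ centralizerIn S P) := finite_of_le hDS
  have hlF : Iso F R R (autFun l) := iso_autFun ((mem_autGroup_iff F hRS l).1 hl)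
  obtain ⟨χi, hχi, hχiχ, -⟩ := hχ.symm
  have hls : Iso F P P (χ ∘ (autFun l ∘ χi)) := (hχi.trans hlF).trans hχ
  obtain ⟨m, hm, hmP, hmC⟩ := receptive_extend_centralizer hP hls
  have hmiso : Iso F (P ⊔ centralizerIn S P) (P ⊔ centralizerIn S P) m :=
    hm.iso_self (hm.map_sup_mem (fun x hx => by rw [hmP x hx]; exact hPD (hls.map_mem hx))
      (fun c hc => hCD (hmC c hc)))
  obtain ⟨mi, hmi, hmim, hmmi⟩ := hmiso.symm
  have hmχ : ∀ x ∈ R, m (χ x) = χ (autFun l x) := fun x hx => by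
    rw [hmP _ (hχ.map_mem hx)]
    show χ (autFun l (χi (χ x))) = _
    rw [hχiχ x hx]
  have hmiχ : ∀ x ∈ R, mi (χ x) = χ (autFun l⁻¹ x) := fun x hx => by
    have h1 := hmχ _ (autFun_mem l⁻¹ hx)
    rw [autFun_autFun_inv l hx] at h1
    rw [← h1, hmim _ (hPD (hχ.map_mem (autFun_mem l⁻¹ hx)))]
  have hmPP : ∀ x ∈ P, m x ∈ P := fun x hx => by rw [hmP x hx]; exact hls.map_mem hx
  have hmiPP : ∀ x ∈ P, mi x ∈ P := fun x hx => by
    obtain ⟨r, hr, rfl⟩ := hχ.surj hx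
    rw [hmiχ r hr]
    exact hχ.map_mem (autFun_mem _ hr)
  refine ⟨hlE a haE, _, hg.conj hmiso hmi hmPP hmiPP hmmi, fun x hx => ?_⟩
  show m (g (mi (χ x))) = _
  rw [hmiχ x hx, e _ (autFun_mem _ hx), hmχ _ (autFun_mem _ (autFun_mem _ hx)),
    autFun_mul _ _ hx, autFun_mul _ _ (autFun_mem _ hx)]

end Cfsg.Agent.Lib.Helper87
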