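import Cfsg.Agent.Lib.Helper87.CE2

set_option autoImplicit false

/-! Strong closure of `C_S(E)`. -/

namespace Cfsg.Agent.Lib.Helper87

open Cfsg Cfsg.FusionSystem Cfsg.Agent.Lib.Helper15.FusCE

variable {Ω : Type*} [Group Ω] {S T : Subgroup Ω} {F : FusionSystem S} {E : FusionSystem T}

/-- The automorphisms of `U` in `F`, trivial on `U / R`, inducing on `R` an element of `mGrp`. -/
def mU [Finite S] (E : FusionSystem T) (F : FusionSystem S) (U R P : Subgroup Ω) (χ : Ω → Ω)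
    (hP : P ≤ S) (hχ : ∀ x ∈ R, χ x ∈ P) (hRU : R ≤ U) : Subgroup (MulAut U) where
  carrier := {η | η ∈ F.autGroup U ∧ (∀ x ∈ U, x⁻¹ * autFun η x ∈ R) ∧
    ∃ α ∈ mGrp E F R P χ hP hχ, ∀ x ∈ R, autFun η x = autFun α x}
  mul_mem' := by
    rintro a b ⟨ha, ha1, α, hα, ea⟩ ⟨hb, hb1, β, hβ, eb⟩
    refine ⟨Subgroup.mul_mem _ ha hb, fun x hx => ?_, α * β, Subgroup.mul_mem _ hα hβ,
      fun x hx => ?_⟩
    · rw [autFun_mul a b hx]
      have h1 : x⁻¹ * autFun a (autFun b x) =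
          (x⁻¹ * autFun b x) * ((autFun b x)⁻¹ * autFun a (autFun b x)) := by group
      rw [h1]
      exact R.mul_mem (hb1 x hx) (ha1 _ (autFun_mem b hx))
    · rw [autFun_mul a b (hRU hx), eb x hx, ea _ (autFun_mem β hx), autFun_mul α β hx]
  one_mem' := ⟨Subgroup.one_mem _, fun x hx => by
      rw [autFun_one hx, inv_mul_cancel]; exact R.one_mem, 1, Subgroup.one_mem _,
      fun x hx => by rw [autFun_one (hRU hx), autFun_one hx]⟩
  inv_mem' := by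
    rintro a ⟨ha, ha1, α, hα, ea⟩
    refine ⟨Subgroup.inv_mem _ ha, fun x hx => ?_, α⁻¹, Subgroup.inv_mem _ hα, fun x hx => ?_⟩
    · have h1 := ha1 _ (autFun_mem a⁻¹ hx)
      rw [autFun_autFun_inv a hx] at h1
      have h2 : x⁻¹ * autFun a⁻¹ x = ((autFun a⁻¹ x)⁻¹ * x)⁻¹ := by group
      rw [h2]
      exact R.inv_mem h1
    · have h1 := ea _ (autFun_mem α⁻¹ hx)
      rw [autFun_autFun_inv α hx] at h1
      calc autFun a⁻¹ x = autFun a⁻¹ (autFun a (autFun α⁻¹ x)) := by rw [h1]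
        _ = autFun α⁻¹ x := autFun_inv_autFun a (hRU (autFun_mem α⁻¹ hx))

theorem mU_normal [Finite S] (hT : F.StronglyClosed T) (hst : StrongInvF E F) {U P : Subgroup Ω}
    (hU : U ≤ S) (hP : F.IsReceptive P) {χ : Ω → Ω} (hχ : Iso F (U ⊓ T) P χ) :
    ∀ δ ∈ F.autGroup U,
      ∀ η ∈ mU E F U (U ⊓ T) P χ hP.1 (fun _ hx => hχ.map_mem hx) inf_le_left,
      δ * η * δ⁻¹ ∈ mU E F U (U ⊓ T) P χ hP.1 (fun _ hx => hχ.map_mem hx) inf_le_left := by
  rintro δ hδ η ⟨hη, h1, α, hα, e⟩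
  have : Finite ↥(U ⊓ T) := finite_of_le (inf_le_left.trans hU)
  have hδm := (mem_autGroup_iff F hU δ).1 hδ
  have hδR : ∀ t ∈ U ⊓ T, autFun δ t ∈ U ⊓ T := fun t ht =>
    ⟨autFun_mem δ ht.1, StronglyClosed.map_mem hT hδm ht.1 ht.2⟩
  obtain ⟨l, hl, el, -⟩ := restrict_aut hU inf_le_left hδ hδR
  have el' : ∀ t ∈ U ⊓ T, autFun l t = autFun δ t := fun t ht => by rw [autFun_apply l ht, el]
  have eli : ∀ t ∈ U ⊓ T, autFun l⁻¹ t = autFun δ⁻¹ t := fun t ht => by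
    have h2 := el' _ (autFun_mem l⁻¹ ht)
    rw [autFun_autFun_inv l ht] at h2
    calc autFun l⁻¹ t = autFun δ⁻¹ (autFun δ (autFun l⁻¹ t)) :=
          (autFun_inv_autFun δ (autFun_mem l⁻¹ ht).1).symm
      _ = autFun δ⁻¹ t := by rw [← h2]
  refine ⟨Subgroup.mul_mem _ (Subgroup.mul_mem _ hδ hη) (Subgroup.inv_mem _ hδ), fun x hx => ?_,
    l * α * l⁻¹, mGrp_normalF (inf_le_left.trans hU) hP hχ hl
      (fun a ha => autGroup_normal_of_strong hT.1 hst inf_le_right hl ha) hα, fun x hx => ?_⟩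
  · rw [autFun_mul _ _ hx, autFun_mul _ _ (autFun_mem δ⁻¹ hx)]
    have hyU : autFun δ⁻¹ x ∈ U := autFun_mem δ⁻¹ hx
    have h3 : x⁻¹ * autFun δ (autFun η (autFun δ⁻¹ x)) =
        autFun δ ((autFun δ⁻¹ x)⁻¹ * autFun η (autFun δ⁻¹ x)) := by
      rw [hδm.map_mul (U.inv_mem hyU) (autFun_mem η hyU), hδm.map_inv hyU, autFun_autFun_inv δ hx]
    rw [h3]
    exact hδR _ (h1 _ hyU)
  · rw [autFun_mul _ _ hx.1, autFun_mul _ _ (autFun_mem δ⁻¹ hx.1), autFun_mul _ _ hx,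
      autFun_mul _ _ (autFun_mem l⁻¹ hx), ← eli x hx, e _ (autFun_mem l⁻¹ hx),
      el' _ (autFun_mem α (autFun_mem l⁻¹ hx))]

/-- Elements of order prime to `p` of `mU` fix the elements of a centralized subgroup. -/
theorem mU_coprime_fix [Finite S] {p : ℕ} [Fact p.Prime] (hS : IsPGroup p S)
    (hFs : F.IsSaturated p) (hT : F.StronglyClosed T) {Y U P : Subgroup Ω} (hY : InY E F Y)
    (hU : U ≤ S) (hP : F.IsReceptive P) {χ : Ω → Ω}
    (hχN : Mor F (normalizerIn S (U ⊓ T)) χ) (hχ : Iso F (U ⊓ T) P χ) {η : MulAut U}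
    (hη : η ∈ mU E F U (U ⊓ T) P χ hP.1 (fun _ hx => hχ.map_mem hx) inf_le_left)
    (ho : (orderOf η).Coprime p) {v : Ω} (hvU : v ∈ U) (hvY : v ∈ Y) : autFun η v = v := by
  obtain ⟨hηF, h1, α, ⟨hαE, g, hg, e⟩, eα⟩ := hη
  have hRS : U ⊓ T ≤ S := inf_le_left.trans hU
  have : Finite ↥(U ⊓ T) := finite_of_le hRS
  have hDS : P ⊔ centralizerIn S P ≤ S := sup_le hP.1 (centralizerIn_le S P)
  have : Finite ↥(P ⊔ centralizerIn S P) := finite_of_le hDS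
  have hηm := (mem_autGroup_iff F hU η).1 hηF
  have hηR : ∀ t ∈ U ⊓ T, autFun η t ∈ U ⊓ T := fun t ht =>
    ⟨autFun_mem η ht.1, StronglyClosed.map_mem hT hηm ht.1 ht.2⟩
  obtain ⟨b, -, eb, hbo⟩ := restrict_aut hU inf_le_left hηF hηR
  have hbα : b = α := by
    ext t
    rw [eb, eα t t.2, autFun_coe]
  have hαo : (orderOf α).Coprime p := hbα ▸ Nat.Coprime.coprime_dvd_left hbo ho
  obtain ⟨γ, hγ, eγ⟩ := hg.iso.exists_aut
  have hγg : ∀ x ∈ P ⊔ centralizerIn S P, g x = autFun γ x := fun x hx => by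
    rw [autFun_apply γ hx, eγ]
  have hχP : ∀ x ∈ U ⊓ T, χ x ∈ P ⊔ centralizerIn S P :=
    fun x hx => le_sup_left (a := P) (hχ.map_mem hx)
  obtain ⟨j, hj1, hj2⟩ := Cfsg.Agent.Lib.Helper15.FusCE.exists_pow_coprime α γ hαo
  have hpow : ∀ n : ℕ, KAut F P (autFun (γ ^ n)) ∧
      ∀ x ∈ U ⊓ T, autFun (γ ^ n) (χ x) = χ (autFun (α ^ n) x) := by
    intro n
    induction n with
    | zero =>
      refine ⟨(KAut.refl hP.1).congr (fun x hx => ?_), fun x hx => ?_⟩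
      · rw [pow_zero, autFun_one hx]; rfl
      · rw [pow_zero, pow_zero, autFun_one hx, autFun_one (hχP x hx)]
    | succ n ih =>
      refine ⟨((hg.congr hγg).comp ih.1).congr (fun x hx => ?_), fun x hx => ?_⟩
      · rw [pow_succ', autFun_mul _ _ hx]; rfl
      · rw [pow_succ', pow_succ', autFun_mul _ _ (hχP x hx), ih.2 x hx, autFun_mul _ _ hx,
          ← hγg _ (hχP _ (autFun_mem _ hx)), e _ (autFun_mem _ hx)]
  have hcomp : ∀ x ∈ U ⊓ T, autFun (γ ^ j) (χ x) = χ (autFun α x) := fun x hx => by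
    rw [(hpow j).2 x hx, hj1]
  have hK := (hpow j).1
  have hRN : U ⊓ T ≤ normalizerIn S (U ⊓ T) := le_normalizerIn hRS
  have hUN : U ≤ normalizerIn S (U ⊓ T) := le_normalizerIn_inf hT hU
  have hχ' : Mor F ((U ⊓ T) ⊔ centralizerIn S (U ⊓ T)) χ :=
    hχN.mono (sup_le hRN (centralizerIn_le_normalizerIn S _))
  have hfix : autFun (γ ^ j) (χ v) = χ v :=
    fixHyp_of_inY hS hFs hY (U ⊓ T) P χ α (γ ^ j) inf_le_right hP hχ' hχ.2 hαE hK hj2 hcomp v hvY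
  have hvC : v ∈ centralizerIn S (U ⊓ T) := centralizerIn_anti S inf_le_right (hY.1 hvY)
  have hχv : χ v ∈ centralizerIn S P :=
    hχ'.map_mem_centralizerIn le_sup_left hχ.2 (le_sup_right (a := U ⊓ T) hvC)
      ((mem_centralizerIn_iff _ _ _).1 hvC).2
  have hz : v⁻¹ * autFun η v ∈ U ⊓ T := h1 v hvU
  have hVU : (U ⊓ T) ⊔ Subgroup.zpowers v ≤ U := sz_le inf_le_left hvU
  have hχV : Mor F ((U ⊓ T) ⊔ Subgroup.zpowers v) χ := hχN.mono (hVU.trans hUN)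
  have hisoV := Mor.iso_sz hχV hχ.2
  obtain ⟨χi, hχi, hχiχ, -⟩ := hisoV.symm
  have hk : Mor F (P ⊔ Subgroup.zpowers (χ v)) (χ ∘ (autFun η ∘ χi)) :=
    (hχi.mor.comp (hηm.mono hVU) (fun r hr => hχi.map_mem hr)).comp hχN
      (fun r hr => hUN (autFun_mem η (hVU (hχi.map_mem hr))))
  have hkP : ∀ x ∈ P, (χ ∘ (autFun η ∘ χi)) x = autFun (γ ^ j) x := by
    intro x hx
    obtain ⟨r, hr, rfl⟩ := hχ.surj hx
    show χ (autFun η (χi (χ r))) = _
    rw [hχiχ r (le_sup_left (a := U ⊓ T) hr), eα r hr, hcomp r hr]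
  have hkb : (χ ∘ (autFun η ∘ χi)) (χ v) = χ v * χ (v⁻¹ * autFun η v) := by
    show χ (autFun η (χi (χ v))) = _
    rw [hχiχ v (mem_sup_zp _ v), ← hχN.map_mul (hUN hvU) (hRN hz), mul_inv_cancel_left]
  have h2 := hK.fix_cmp hS hFs hP hχv (hχ.map_mem hz) hk hkP hkb
  rw [hfix, hkb, inv_mul_cancel_left, hcomp _ hz] at h2
  have h3 : autFun α (v⁻¹ * autFun η v) = v⁻¹ * autFun η v :=
    hχ.mor.inj (autFun_mem α hz) hz h2
  rw [← eα _ hz] at h3
  exact fix_of_fix hS hU η ho hvU h3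

end Cfsg.Agent.Lib.Helper87
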