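import Cfsg.Agent.Lib.Helper87.CE3

set_option autoImplicit false

/-! Strong closure of `C_S(E)`: the main induction. -/

namespace Cfsg.Agent.Lib.Helper87

open Cfsg Cfsg.FusionSystem Cfsg.Agent.Lib.Helper15.FusCE

variable {Ω : Type*} [Group Ω] {S T : Subgroup Ω} {F : FusionSystem S} {E : FusionSystem T}

theorem CSE_transport [Finite S] {p : ℕ} [Fact p.Prime] (hS : IsPGroup p S)
    (hE : E.IsNormalIn F p) {X : Subgroup Ω} (hX : X ≤ CSE E F) {θ : Ω → Ω}
    (hθ : Mor F (T ⊔ X) θ) {x : Ω} (hx : x ∈ X) : θ x ∈ CSE E F := by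
  obtain ⟨-, -, -, hT, hinv, -, -⟩ := (isNormalIn_iff E F p).1 hE
  exact le_CSE (((inY_CSE hS hE).mono hX).transport hT hinv hθ)
    ((hθ.mono le_sup_right).iso_img.map_mem hx)

theorem CSE_iff [Finite S] {p : ℕ} [Fact p.Prime] (hS : IsPGroup p S) (hE : E.IsNormalIn F p) :
    ∀ (P : Subgroup Ω) (f : Ω → Ω), Mor F P f → ∀ v ∈ P, (v ∈ CSE E F ↔ f v ∈ CSE E F) := by
  obtain ⟨hEs, hFs, hsub, hT, hinv, hfrat, -⟩ := (isNormalIn_iff E F p).1 hE
  have hst : StrongInvF E F := strongInvF_of_invariant hinv hfrat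
  have hY := inY_CSE hS hE
  apply Helper89.alperin_induction hS F hFs (fun P f => ∀ v ∈ P, (v ∈ CSE E F ↔ f v ∈ CSE E F))
  · intro P f g h e v hv
    rw [← e v hv]
    exact h v hv
  · intro P R f _ h hRP v hv
    exact h v (hRP hv)
  · intro P Q f g _ _ hPQ h1 h2 v hv
    exact (h1 v hv).trans (h2 _ (hPQ v hv))
  · intro P Q f g hf _ hgf h1 w hw
    obtain ⟨x, hx, rfl⟩ := hf.surj hw
    rw [hgf x hx]
    exact (h1 x hx).symm
  · intro U hfa hrec IH f hf
    have hUS : U ≤ S := hfa.1
    have : Finite U := finite_of_le hUS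
    obtain ⟨β, hβ, eβ⟩ := hf.exists_aut
    suffices H : F.autGroup U ≤ stabY (CSE E F) U by
      intro v hv
      have := H hβ ⟨v, hv⟩
      rw [eβ] at this
      exact this
    have hAS : autInducedBy S U ≤ stabY (CSE E F) U := by
      intro κ hκ
      obtain ⟨s, hs, e⟩ := (mem_autInducedBy_iff S U κ).1 hκ
      apply mem_stabY_of_forall
      intro v hv
      rw [e]
      exact CSE_transport hS hE le_rfl
        (mor_conj F (sup_le hT.1 (hY.1.trans (centralizerIn_le S T))) hs) hv
    by_cases hc : centralizerIn S U ≤ U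
    swap
    · intro β hβ
      have hiso := iso_autFun ((mem_autGroup_iff F hUS β).1 hβ)
      obtain ⟨f', hf', hff', -⟩ := receptive_extend_centralizer hrec hiso
      have hlt : U < U ⊔ centralizerIn S U :=
        lt_of_le_of_ne le_sup_left (fun he => hc (le_sup_right.trans he.ge))
      have : Finite ↥(U ⊔ centralizerIn S U) := finite_of_le hf'.le
      intro v
      rw [IH _ f' (Helper89.card_lt_of_lt hlt) hf' v (le_sup_left (a := U) v.2), hff' v v.2,
        autFun_coe]
    have hUc : F.IsCentric U := Helper86.centric_of_receptive hrec hc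
    by_cases hrad : OpAut F p U ≤ Inn U
    swap
    · have hOS : OpAut F p U ≤ autInducedBy S U :=
        normal_pSubgroup_le_autS hfa (OpAut_le F p U) (OpAut_normal F p U) (OpAut_isPGroup F p U)
      refine frattini_stab hfa hrec IH (OpAut F p U) (OpAut_le F p U) (OpAut_normal F p U)
        (hOS.trans hAS) ?_
      obtain ⟨κ, hκ, hκI⟩ := SetLike.not_le_iff_exists.1 hrad
      obtain ⟨s, hs, e⟩ := (mem_autInducedBy_iff S U κ).1 (hOS hκ)
      refine ⟨s, hs, fun hsU => hκI ?_, κ, hκ, e⟩
      rw [inn_eq_autInducedBy]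
      exact (mem_autInducedBy_iff U U κ).2 ⟨s, hsU, e⟩
    have hU₀ : E.IsCentric (U ⊓ T) := by
      by_contra h
      exact not_OpAut_le_inn_of_not_centric hS hFs hT hsub hUc h hrad
    by_cases hTU : T ≤ U
    · intro β hβ
      apply mem_stabY_of_forall
      intro v hv
      have hm := (mem_autGroup_iff F hUS β).1 hβ
      have := CSE_transport hS hE (X := Subgroup.zpowers (v : Ω)) ((Subgroup.zpowers_le).2 hv)
        (hm.mono (sup_le hTU ((Subgroup.zpowers_le).2 v.2))) (Subgroup.mem_zpowers _)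
      rwa [autFun_coe] at this
    · have hRS : U ⊓ T ≤ S := inf_le_left.trans hUS
      obtain ⟨P, hRP, hPn⟩ := exists_fullyNormalized_conj F hRS
      obtain ⟨χ, hχ, hχR, hχN⟩ := exists_mor_normalizer_of_fullyNormalized hS hFs hPn hRP
      have hPrec := fullyNormalized_receptive hS hFs hPn
      have hRN : U ⊓ T ≤ normalizerIn S (U ⊓ T) := le_normalizerIn hRS
      have hiso : Iso F (U ⊓ T) P χ := ⟨hχ.mono hRN, hχR⟩
      have hcP : centralizerIn T P ≤ P := centralizerIn_le_of_conj hfrat inf_le_right hU₀ hiso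
      have hKM := autT_le_mGrp (E := E) hT inf_le_right hPrec.1 hcP hχ hχR hχN
      have hMn := mU_normal (E := E) hT hst hUS hPrec hiso
      have hMle : mU E F U (U ⊓ T) P χ hPrec.1 (fun _ hx => hiso.map_mem hx) inf_le_left ≤
          F.autGroup U := fun η h => h.1
      refine frattini_stab hfa hrec IH
        (mU E F U (U ⊓ T) P χ hPrec.1 (fun _ hx => hiso.map_mem hx) inf_le_left)
        hMle hMn ?_ ?_
      · have hsyl := ((fullyAutomized_iff F p hUS).1 hfa).inf_normal hMle hMn
        apply le_of_sylIn_of_coprime hsyl (inf_le_left.trans hAS)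
        intro η hη ho
        apply mem_stabY_of_forall
        intro v hv
        rw [← autFun_coe, mU_coprime_fix hS hFs hT hY hUS hPrec hχ hiso hη ho v.2 hv]
        exact hv
      · obtain ⟨t, ht, htN, htU⟩ := exists_mem_normalizer_of_not_le hS hUS hT.1
          (fun s hs t ht => StronglyClosed.conj_mem hT hs ht) hTU
        have htN' : t ∈ Subgroup.normalizer ((U ⊓ T : Subgroup Ω) : Set Ω) := by
          rw [Subgroup.mem_normalizer_iff]
          intro x
          constructor
          · rintro ⟨h1, h2⟩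
            exact ⟨(Subgroup.mem_normalizer_iff.1 htN x).1 h1, T.mul_mem (T.mul_mem ht h2) (T.inv_mem ht)⟩
          · rintro ⟨h1, h2⟩
            refine ⟨(Subgroup.mem_normalizer_iff.1 htN x).2 h1, ?_⟩
            have h3 : x = t⁻¹ * (t * x * t⁻¹) * t := by group
            rw [h3]
            exact T.mul_mem (T.mul_mem (T.inv_mem ht) h2) ht
        refine ⟨t, hT.1 ht, htU, (conjToAut S U ⟨t, hT.1 ht, htN⟩ : autInducedBy S U), ?_,
          fun x => rfl⟩
        refine ⟨autInducedBy_le_autGroup F hUS (Subtype.prop _), fun x hx => ?_,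
          (conjToAut T (U ⊓ T) ⟨t, ht, htN'⟩ : autInducedBy T (U ⊓ T)), hKM (Subtype.prop _),
          fun x hx => ?_⟩
        · rw [autFun_apply _ hx]
          show x⁻¹ * (t * x * t⁻¹) ∈ U ⊓ T
          refine ⟨U.mul_mem (U.inv_mem hx) ((Subgroup.mem_normalizer_iff.1 htN x).1 hx), ?_⟩
          have h3 : x⁻¹ * (t * x * t⁻¹) = (x⁻¹ * t * x⁻¹⁻¹) * t⁻¹ := by group
          rw [h3]
          exact T.mul_mem (StronglyClosed.conj_mem hT (S.inv_mem (hUS hx)) ht) (T.inv_mem ht)
        · rw [autFun_apply _ hx.1, autFun_apply _ hx]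
          rfl

theorem CSE_stronglyClosed [Finite S] {p : ℕ} [Fact p.Prime] (hS : IsPGroup p S)
    (hE : E.IsNormalIn F p) : F.StronglyClosed (CSE E F) := by
  rw [stronglyClosed_iff]
  exact ⟨(CSE_le E F).trans (centralizerIn_le S T), fun R f hf x hx hxY =>
    (CSE_iff hS hE R f hf x hx).1 hxY⟩

end Cfsg.Agent.Lib.Helper87
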