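import Cfsg.Agent.Lib.Helper87.CE4

set_option autoImplicit false

/-! Bridge between `InY` and the statement form. -/

namespace Cfsg.Agent.Lib.Helper87

open Cfsg Cfsg.FusionSystem

variable {Ω : Type*} [Group Ω] {S T : Subgroup Ω} {F : FusionSystem S} {E : FusionSystem T}

theorem inY_iff_hom (hTS : T ≤ S) (Y : Subgroup Ω) :
    InY E F Y ↔ Y ≤ centralizerIn S T ∧ ∀ P : Subgroup Ω, E.Hom P ⊆ F.centralizerHom Y P := by
  constructor
  · rintro ⟨hY, hext⟩
    refine ⟨hY, fun Q ψ hψ => ?_⟩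
    have hQT : Q ≤ T := (E.le_of_mem hψ).1
    have hTC : T ≤ centralizerIn S Y := by
      intro t ht
      refine (mem_centralizerIn_iff _ _ _).2 ⟨hTS ht, fun v hv => ?_⟩
      exact (((mem_centralizerIn_iff _ _ _).1 (hY hv)).2 t ht).symm
    refine (mem_centralizerHom_iff F _ Q ψ).2 ⟨hQT.trans hTC, fun q hq => ?_,
      hext Q _ (Mor.of_hom hψ)⟩
    apply hTC
    rw [ext_apply ψ hq]
    exact (E.le_of_mem hψ).2 _
  · rintro ⟨hY, h⟩
    refine ⟨hY, fun P f hf => ?_⟩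
    obtain ⟨φ, hφ, e⟩ := hf
    exact ((mem_centralizerHom_iff F Y P φ).1 (h P hφ)).2.2.congr
      (fun x hx => by rw [ext_apply φ hx]; exact e ⟨x, hx⟩)

end Cfsg.Agent.Lib.Helper87
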