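import Cfsg.Agent.Lib.Helper87.CE5

set_option autoImplicit false

/-! When `S = T C_S(T)`, `Aut_F(T) = Aut_E(T)` and the focal elements of `C_F(T)` lie in `T`, the whole of
`F` acts trivially on `S / T`. -/

namespace Cfsg.Agent.Lib.Helper87

open Cfsg Cfsg.FusionSystem Cfsg.Agent.Lib.Helper15.FusCE

variable {Ω : Type*} [Group Ω] {S T : Subgroup Ω} {F : FusionSystem S} {E : FusionSystem T}

/-- The automorphisms of `U` acting trivially modulo `T`. -/
def stabT (T U : Subgroup Ω) : Subgroup (MulAut U) where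
  carrier := {β | ∀ v : U, (v : Ω)⁻¹ * ((β v : U) : Ω) ∈ T}
  mul_mem' := by
    intro a b ha hb v
    rw [MulAut.mul_apply]
    have h1 : (v : Ω)⁻¹ * ((a (b v) : U) : Ω) =
        ((v : Ω)⁻¹ * ((b v : U) : Ω)) * (((b v : U) : Ω)⁻¹ * ((a (b v) : U) : Ω)) := by group
    rw [h1]
    exact T.mul_mem (hb v) (ha (b v))
  one_mem' := fun v => by
    show (v : Ω)⁻¹ * (v : Ω) ∈ T
    rw [inv_mul_cancel]
    exact T.one_mem
  inv_mem' := by
    intro a ha v
    have h1 := ha (a⁻¹ v)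
    rw [MulAut.apply_inv_self] at h1
    have h2 : (v : Ω)⁻¹ * ((a⁻¹ v : U) : Ω) = (((a⁻¹ v : U) : Ω)⁻¹ * (v : Ω))⁻¹ := by group
    rw [h2]
    exact T.inv_mem h1

/-- The Frattini argument, general form. -/
theorem frattini_gen [Finite S] {p : ℕ} [Fact p.Prime] {U : Subgroup Ω}
    (hfa : F.IsFullyAutomized p U) (hrec : F.IsReceptive U) (B : Subgroup (MulAut U))
    (hext : ∀ (ν : MulAut U) (P' : Subgroup Ω) (f' : Ω → Ω), Nat.card U < Nat.card P' → U ≤ P' →
      Mor F P' f' → (∀ x ∈ U, f' x = autFun ν x) → ν ∈ B)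
    (M : Subgroup (MulAut U)) (hM : M ≤ F.autGroup U)
    (hMn : ∀ δ ∈ F.autGroup U, ∀ η ∈ M, δ * η * δ⁻¹ ∈ M) (hMB : M ≤ B)
    (hs : ∃ s ∈ S, s ∉ U ∧ ∃ κ ∈ M, ∀ x : U, ((κ x : U) : Ω) = s * x * s⁻¹) :
    F.autGroup U ≤ B := by
  have hUS : U ≤ S := hfa.1
  have : Finite U := finite_of_le hUS
  have hsyl : IsSylIn p (autInducedBy S U) (F.autGroup U) := (fullyAutomized_iff F p hUS).1 hfa
  have hK : IsSylIn p (autInducedBy S U ⊓ M) M := hsyl.inf_normal hM hMn
  intro β hβ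
  have hLM : (autInducedBy S U ⊓ M).map (MulAut.conj β).toMonoidHom ≤ M := by
    rintro _ ⟨κ, hκ, rfl⟩
    exact hMn β hβ κ hκ.2
  obtain ⟨μ, hμ, hμL⟩ := hK.exists_conj hLM (hK.2.1.map _)
  have hν : ∀ κ ∈ autInducedBy S U ⊓ M, (μ * β) * κ * (μ * β)⁻¹ ∈ autInducedBy S U ⊓ M := by
    intro κ hκ
    have h1 := hμL _ ⟨κ, hκ, rfl⟩
    have h2 : (μ * β) * κ * (μ * β)⁻¹ = μ * (MulAut.conj β).toMonoidHom κ * μ⁻¹ := by
      show _ = μ * (β * κ * β⁻¹) * μ⁻¹
      group
    rw [h2]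
    exact h1
  have hνF : μ * β ∈ F.autGroup U := Subgroup.mul_mem _ (hM hμ) hβ
  have hνiso : Iso F U U (autFun (μ * β)) := iso_autFun ((mem_autGroup_iff F hUS _).1 hνF)
  obtain ⟨ν', hν', hν'U⟩ := receptive_extend hrec hνiso (NK S U (autInducedBy S U ⊓ M))
    (fun g hg => hg.1) (fun g hg => by
      obtain ⟨-, κ, -, e⟩ := hg
      exact mem_normalizer_of_induces e) (fun g hg => by
      obtain ⟨-, κ, hκ, e⟩ := hg
      obtain ⟨k, hk, ek⟩ := (mem_autInducedBy_iff S U _).1 (hν κ hκ).1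
      refine ⟨k, hk, fun x hx => ?_⟩
      have h1 := ek ((μ * β) ⟨x, hx⟩)
      rw [MulAut.mul_apply, MulAut.inv_apply_self, MulAut.mul_apply] at h1
      rw [autFun_apply _ hx, ← h1, ← autFun_coe, e])
  obtain ⟨s, hsS, hsU, κ, hκ, e⟩ := hs
  have hsN : s ∈ NK S U (autInducedBy S U ⊓ M) :=
    ⟨hsS, κ, ⟨(mem_autInducedBy_iff S U κ).2 ⟨s, hsS, e⟩, hκ⟩, e⟩
  have hlt : U < U ⊔ NK S U (autInducedBy S U ⊓ M) :=
    lt_of_le_of_ne le_sup_left (fun h => hsU (h ▸ (le_sup_right : _ ≤ U ⊔ _) hsN))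
  have : Finite ↥(U ⊔ NK S U (autInducedBy S U ⊓ M)) := finite_of_le hν'.le
  have h4 : μ * β ∈ B := hext _ _ ν' (Helper89.card_lt_of_lt hlt) le_sup_left hν' hν'U
  have h5 : β = μ⁻¹ * (μ * β) := by group
  rw [h5]
  exact Subgroup.mul_mem _ (Subgroup.inv_mem _ (hMB hμ)) h4

theorem trivial_mod_T [Finite S] {p : ℕ} [Fact p.Prime] (hS : IsPGroup p S)
    (hE : E.IsNormalIn F p) (h1 : S ≤ T ⊔ centralizerIn S T) (h2 : F.autGroup T = E.autGroup T)
    (h3 : ∀ x ∈ centralizerIn S T, ∀ θ : Ω → Ω, Mor F (T ⊔ Subgroup.zpowers x) θ →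
      (∀ t ∈ T, θ t = t) → x⁻¹ * θ x ∈ T) :
    ∀ (P : Subgroup Ω) (f : Ω → Ω), Mor F P f → ∀ v ∈ P, v⁻¹ * f v ∈ T := by
  obtain ⟨hEs, hFs, hsub, hT, hinv, hfrat, hextF⟩ := (isNormalIn_iff E F p).1 hE
  have hst : StrongInvF E F := strongInvF_of_invariant hinv hfrat
  apply Helper89.alperin_induction hS F hFs (fun P f => ∀ v ∈ P, v⁻¹ * f v ∈ T)
  · intro P f g h e v hv
    rw [← e v hv]
    exact h v hv
  · intro P R f _ h hRP v hv
    exact h v (hRP hv)
  · intro P Q f g _ _ hPQ h1 h2 v hv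
    have h3 : v⁻¹ * (g ∘ f) v = (v⁻¹ * f v) * ((f v)⁻¹ * g (f v)) := by
      show v⁻¹ * g (f v) = _
      group
    rw [h3]
    exact T.mul_mem (h1 v hv) (h2 _ (hPQ v hv))
  · intro P Q f g hf _ hgf h1 w hw
    obtain ⟨x, hx, rfl⟩ := hf.surj hw
    rw [hgf x hx]
    have h3 : (f x)⁻¹ * x = (x⁻¹ * f x)⁻¹ := by group
    rw [h3]
    exact T.inv_mem (h1 x hx)
  · intro U hfa hrec IH f hf
    have hUS : U ≤ S := hfa.1
    have : Finite U := finite_of_le hUS
    have : Finite T := finite_of_le hT.1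
    obtain ⟨β, hβ, eβ⟩ := hf.exists_aut
    suffices H : F.autGroup U ≤ stabT T U by
      intro v hv
      have := H hβ ⟨v, hv⟩
      rw [eβ] at this
      exact this
    have hext : ∀ (ν : MulAut U) (P' : Subgroup Ω) (f' : Ω → Ω), Nat.card U < Nat.card P' →
        U ≤ P' → Mor F P' f' → (∀ x ∈ U, f' x = autFun ν x) → ν ∈ stabT T U := by
      intro ν P' f' hlt hle hf' e v
      have := IH P' f' hlt hf' v (hle v.2)
      rwa [e v v.2, autFun_coe] at this
    by_cases hTU : T ≤ U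
    · intro β hβ
      have hm := (mem_autGroup_iff F hUS β).1 hβ
      have hβT : Iso F T T (autFun β) :=
        (hm.mono hTU).iso_self (fun x hx => StronglyClosed.map_mem hT hm (hTU hx) hx)
      obtain ⟨α, hα, eα⟩ := hβT.exists_aut
      rw [h2] at hα
      have hαE : Iso E T T (autFun α) := iso_autFun ((mem_autGroup_iff E le_rfl α).1 hα)
      obtain ⟨b, hb, hbT, hbC⟩ := hextF _ hαE
      obtain ⟨bi, hbi, hbib, hbbi⟩ := hb.symm
      have hT' : T ≤ T ⊔ centralizerIn S T := le_sup_left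
      have hC' : centralizerIn S T ≤ T ⊔ centralizerIn S T := le_sup_right
      have hbβ : ∀ t ∈ T, b t = autFun β t := fun t ht => by
        rw [hbT t ht, autFun_apply α ht, eα]
      have hc : ∀ c ∈ U, c ∈ centralizerIn S T → c⁻¹ * autFun β c ∈ T := by
        intro c hcU hcC
        have hle : T ⊔ Subgroup.zpowers c ≤ U := sup_le hTU ((Subgroup.zpowers_le).2 hcU)
        have hθ : Mor F (T ⊔ Subgroup.zpowers c) (bi ∘ autFun β) :=
          (hm.mono hle).comp hbi.mor (fun x hx => h1 (hUS (autFun_mem β (hle hx))))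
        have hτ := h3 c hcC _ hθ (fun t ht => by
          show bi (autFun β t) = t
          rw [← hbβ t ht, hbib t (hT' ht)])
        have h4 : autFun β c = b (c * (c⁻¹ * (bi ∘ autFun β) c)) := by
          rw [mul_inv_cancel_left]
          show _ = b (bi (autFun β c))
          rw [hbbi _ (h1 (hUS (autFun_mem β hcU)))]
        rw [h4, hb.mor.map_mul (hC' hcC) (hT' hτ), ← mul_assoc]
        refine T.mul_mem (hbC c hcC).1 ?_
        rw [hbβ _ hτ]
        exact hβT.map_mem hτ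
      intro v
      obtain ⟨t, ht, c, hcC, e⟩ := mem_sup_of_normalizes (A := T) (B := centralizerIn S T)
        (fun a ha b hb => by
          have := ((mem_centralizerIn_iff _ _ _).1 hb).2 a ha
          rw [this, mul_inv_cancel_right]
          exact hb) (h1 (hUS v.2))
      have hcU : c ∈ U := by
        have h5 : c = t⁻¹ * (v : Ω) := by rw [e]; group
        rw [h5]
        exact U.mul_mem (U.inv_mem (hTU ht)) v.2
      rw [← autFun_coe, e, hm.map_mul (hTU ht) hcU]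
      have h6 : (t * c)⁻¹ * (autFun β t * autFun β c) =
          (c⁻¹ * (t⁻¹ * autFun β t) * c⁻¹⁻¹) * (c⁻¹ * autFun β c) := by group
      rw [h6]
      exact T.mul_mem (StronglyClosed.conj_mem hT (S.inv_mem (hUS hcU))
        (T.mul_mem (T.inv_mem ht) (hβT.map_mem ht))) (hc c hcU hcC)
    have hUlt : Nat.card U < Nat.card S :=
      Helper89.card_lt_of_lt (lt_of_le_of_ne hUS (fun h => hTU (h ▸ hT.1)))
    have hAS : autInducedBy S U ≤ stabT T U := by
      intro κ hκ
      obtain ⟨s, hs, e⟩ := (mem_autInducedBy_iff S U κ).1 hκ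
      exact hext κ S _ hUlt hUS (mor_conj F le_rfl hs) (fun x hx => by rw [autFun_apply κ hx, e])
    by_cases hc : centralizerIn S U ≤ U
    swap
    · intro β hβ
      have hiso := iso_autFun ((mem_autGroup_iff F hUS β).1 hβ)
      obtain ⟨f', hf', hff', -⟩ := receptive_extend_centralizer hrec hiso
      have hlt : U < U ⊔ centralizerIn S U :=
        lt_of_le_of_ne le_sup_left (fun he => hc (le_sup_right.trans he.ge))
      have : Finite ↥(U ⊔ centralizerIn S U) := finite_of_le hf'.le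
      exact hext β _ f' (Helper89.card_lt_of_lt hlt) le_sup_left hf' hff'
    have hUc : F.IsCentric U := Helper86.centric_of_receptive hrec hc
    by_cases hrad : OpAut F p U ≤ Inn U
    swap
    · have hOS : OpAut F p U ≤ autInducedBy S U :=
        normal_pSubgroup_le_autS hfa (OpAut_le F p U) (OpAut_normal F p U) (OpAut_isPGroup F p U)
      refine frattini_gen hfa hrec _ hext (OpAut F p U) (OpAut_le F p U) (OpAut_normal F p U)
        (hOS.trans hAS) ?_
      obtain ⟨κ, hκ, hκI⟩ := SetLike.not_le_iff_exists.1 hrad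
      obtain ⟨s, hs, e⟩ := (mem_autInducedBy_iff S U κ).1 (hOS hκ)
      refine ⟨s, hs, fun hsU => hκI ?_, κ, hκ, e⟩
      rw [inn_eq_autInducedBy]
      exact (mem_autInducedBy_iff U U κ).2 ⟨s, hsU, e⟩
    have hU₀ : E.IsCentric (U ⊓ T) := by
      by_contra h
      exact not_OpAut_le_inn_of_not_centric hS hFs hT hsub hUc h hrad
    have hRS : U ⊓ T ≤ S := inf_le_left.trans hUS
    obtain ⟨P, hRP, hPn⟩ := exists_fullyNormalized_conj F hRS
    obtain ⟨χ, hχ, hχR, hχN⟩ := exists_mor_normalizer_of_fullyNormalized hS hFs hPn hRP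
    have hPrec := fullyNormalized_receptive hS hFs hPn
    have hRN : U ⊓ T ≤ normalizerIn S (U ⊓ T) := le_normalizerIn hRS
    have hiso : Iso F (U ⊓ T) P χ := ⟨hχ.mono hRN, hχR⟩
    have hcP : centralizerIn T P ≤ P := centralizerIn_le_of_conj hfrat inf_le_right hU₀ hiso
    have hKM := autT_le_mGrp (E := E) hT inf_le_right hPrec.1 hcP hχ hχR hχN
    have hMn := mU_normal (E := E) hT hst hUS hPrec hiso
    have hMle : mU E F U (U ⊓ T) P χ hPrec.1 (fun _ hx => hiso.map_mem hx) inf_le_left ≤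
        F.autGroup U := fun η h => h.1
    refine frattini_gen hfa hrec _ hext
      (mU E F U (U ⊓ T) P χ hPrec.1 (fun _ hx => hiso.map_mem hx) inf_le_left)
      hMle hMn ?_ ?_
    · intro η hη v
      have := (hη.2.1 v v.2).2
      rwa [autFun_coe] at this
    · obtain ⟨t, ht, htN, htU⟩ := exists_mem_normalizer_of_not_le hS hUS hT.1
        (fun s hs t ht => StronglyClosed.conj_mem hT hs ht) hTU
      have htN' : t ∈ Subgroup.normalizer ((U ⊓ T : Subgroup Ω) : Set Ω) := by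
        rw [Subgroup.mem_normalizer_iff]
        intro x
        constructor
        · rintro ⟨h1, h2⟩
          exact ⟨(Subgroup.mem_normalizer_iff.1 htN x).1 h1,
            T.mul_mem (T.mul_mem ht h2) (T.inv_mem ht)⟩
        · rintro ⟨h1, h2⟩
          refine ⟨(Subgroup.mem_normalizer_iff.1 htN x).2 h1, ?_⟩
          have h3 : x = t⁻¹ * (t * x * t⁻¹) * t := by group
          rw [h3]
          exact T.mul_mem (T.mul_mem (T.inv_mem ht) h2) ht
      refine ⟨t, hT.1 ht, htU, (conjToAut S U ⟨t, hT.1 ht, htN⟩ : autInducedBy S U), ?_,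
        fun x => rfl⟩
      refine ⟨autInducedBy_le_autGroup F hUS (Subtype.prop _), fun x hx => ?_,
        (conjToAut T (U ⊓ T) ⟨t, ht, htN'⟩ : autInducedBy T (U ⊓ T)), hKM (Subtype.prop _),
        fun x hx => ?_⟩
      · rw [autFun_apply _ hx]
        show x⁻¹ * (t * x * t⁻¹) ∈ U ⊓ T
        refine ⟨U.mul_mem (U.inv_mem hx) ((Subgroup.mem_normalizer_iff.1 htN x).1 hx), ?_⟩
        have h3 : x⁻¹ * (t * x * t⁻¹) = (x⁻¹ * t * x⁻¹⁻¹) * t⁻¹ := by group
        rw [h3]
        exact T.mul_mem (StronglyClosed.conj_mem hT (S.inv_mem (hUS hx)) ht) (T.inv_mem ht)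
      · rw [autFun_apply _ hx.1, autFun_apply _ hx]
        rfl

end Cfsg.Agent.Lib.Helper87
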