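import Cfsg.Agent.Lib.Helper87.RL6

set_option autoImplicit false

namespace Cfsg.Agent.Lib.Helper87

open Cfsg Cfsg.FusionSystem

theorem pow_index_mem' {G : Type*} [Group G] (N : Subgroup G) [N.Normal] (g : G) :
    g ^ N.index ∈ N := by
  rw [← QuotientGroup.eq_one_iff, QuotientGroup.mk_pow]
  exact pow_card_eq_one'

theorem pow_relIndex_mem' {G : Type*} [Group G] (N M : Subgroup G) [N.Normal] {g : G} (hg : g ∈ M) :
    g ^ N.relIndex M ∈ N := by
  have := pow_index_mem' (N.subgroupOf M) ⟨g, hg⟩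
  exact Subgroup.mem_subgroupOf.1 this

/-- The chain of subgroups between `A₀` and `A` given by `p`-solvability of the quotient. -/
theorem psolvable_chain {G : Type*} [Group G] {A₀ A : Subgroup G} (hle : A₀ ≤ A)
    [hn : (A₀.subgroupOf A).Normal] {p : ℕ} (hsolv : IsPSolvable p (A ⧸ A₀.subgroupOf A)) :
    ∃ (n : ℕ) (K : ℕ → Subgroup G), K 0 = A₀ ∧ K n = A ∧ (∀ j, A₀ ≤ K j) ∧
      (∀ j < n, K j ≤ K (j + 1)) ∧ (∀ j, ∀ α ∈ A, ∀ κ ∈ K j, α * κ * α⁻¹ ∈ K j) ∧
      ∀ j < n, (∀ x ∈ K (j + 1), Nat.Coprime (orderOf x) p → x ∈ K j) ∨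
        (∀ x ∈ K (j + 1), ∀ k : ℕ, x ^ (p ^ k) = 1 → x ∈ K j) := by
  obtain ⟨n, H, h0, hlast, hmono, hnorm, hfac⟩ := hsolv
  set π := QuotientGroup.mk' (A₀.subgroupOf A) with hπ
  let idx : ℕ → Fin (n + 1) := fun j => ⟨min j n, by omega⟩
  let K : ℕ → Subgroup G := fun j => ((H (idx j)).comap π).map A.subtype
  have hmem : ∀ (j : ℕ) (x : G), x ∈ K j ↔ ∃ hx : x ∈ A, π ⟨x, hx⟩ ∈ H (idx j) := by
    intro j x
    constructor
    · rintro ⟨y, hy, rfl⟩
      exact ⟨y.2, hy⟩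
    · rintro ⟨hx, h⟩
      exact ⟨⟨x, hx⟩, h, rfl⟩
  have hker : ∀ (x : G) (hx : x ∈ A), π ⟨x, hx⟩ = 1 ↔ x ∈ A₀ := by
    intro x hx
    rw [hπ, QuotientGroup.mk'_apply, QuotientGroup.eq_one_iff, Subgroup.mem_subgroupOf]
  have hidx0 : idx 0 = 0 := by
    apply Fin.ext
    simp [idx]
  have hidxn : idx n = Fin.last n := by
    apply Fin.ext
    simp [idx]
  have hpow : ∀ (j : ℕ) (x : G) (m : ℕ), x ∈ A → (∀ hx : x ∈ A, (π ⟨x, hx⟩) ^ m ∈ H (idx j)) →
      x ^ m ∈ K j := by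
    intro j x m hx h
    refine (hmem j _).2 ⟨A.pow_mem hx m, ?_⟩
    have : (⟨x ^ m, A.pow_mem hx m⟩ : A) = ⟨x, hx⟩ ^ m := rfl
    rw [this, map_pow]
    exact h hx
  refine ⟨n, K, ?_, ?_, ?_, ?_, ?_, ?_⟩
  · ext x
    rw [hmem, hidx0, h0]
    constructor
    · rintro ⟨hx, h⟩
      exact (hker x hx).1 (Subgroup.mem_bot.1 h)
    · intro hx
      exact ⟨hle hx, Subgroup.mem_bot.2 ((hker x (hle hx)).2 hx)⟩
  · ext x
    rw [hmem, hidxn, hlast]
    exact ⟨fun ⟨hx, _⟩ => hx, fun hx => ⟨hx, Subgroup.mem_top _⟩⟩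
  · intro j x hx
    refine (hmem j x).2 ⟨hle hx, ?_⟩
    rw [(hker x (hle hx)).2 hx]
    exact Subgroup.one_mem _
  · intro j _ x hx
    obtain ⟨hxA, h⟩ := (hmem j x).1 hx
    refine (hmem (j + 1) x).2 ⟨hxA, hmono ?_ h⟩
    show min j n ≤ min (j + 1) n
    omega
  · intro j α hα κ hκ
    obtain ⟨hκA, h⟩ := (hmem j κ).1 hκ
    refine (hmem j _).2 ⟨A.mul_mem (A.mul_mem hα hκA) (A.inv_mem hα), ?_⟩
    have : (⟨α * κ * α⁻¹, A.mul_mem (A.mul_mem hα hκA) (A.inv_mem hα)⟩ : A) =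
        ⟨α, hα⟩ * ⟨κ, hκA⟩ * ⟨α, hα⟩⁻¹ := rfl
    rw [this, map_mul, map_mul, map_inv]
    exact (hnorm (idx j)).conj_mem _ h _
  · intro j hj
    have e1 : idx j = (⟨j, hj⟩ : Fin n).castSucc := by
      apply Fin.ext
      show min j n = j
      omega
    have e2 : idx (j + 1) = (⟨j, hj⟩ : Fin n).succ := by
      apply Fin.ext
      show min (j + 1) n = j + 1
      omega
    have hN : (H (idx j)).Normal := hnorm _
    have key : ∀ x ∈ K (j + 1), x ^ ((H (idx j)).relIndex (H (idx (j + 1)))) ∈ K j := by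
      intro x hx
      obtain ⟨hxA, h⟩ := (hmem (j + 1) x).1 hx
      exact hpow j x _ hxA (fun _ => pow_relIndex_mem' _ _ h)
    rcases hfac ⟨j, hj⟩ with ⟨m, hm⟩ | hc
    · left
      intro x hx hcop
      have h1 := key x hx
      rw [e1, e2, hm] at h1
      obtain ⟨i, hi⟩ := exists_pow_eq_self_of_coprime (x := x) (n := p ^ m)
        (Nat.Coprime.pow_left m hcop.symm)
      rw [← hi]
      exact Subgroup.pow_mem _ h1 i
    · right
      intro x hx k hk
      have h1 := key x hx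
      rw [e1, e2] at h1
      have hd : orderOf x ∣ p ^ k := orderOf_dvd_of_pow_eq_one hk
      obtain ⟨i, hi⟩ := exists_pow_eq_self_of_coprime (x := x)
        (n := (H (⟨j, hj⟩ : Fin n).castSucc).relIndex (H (⟨j, hj⟩ : Fin n).succ))
        (Nat.Coprime.coprime_dvd_right hd (Nat.Coprime.pow_right k hc))
      rw [← hi]
      exact Subgroup.pow_mem _ h1 i

variable {Ω : Type*} [Group Ω]

theorem isNormalIn_refl {S : Subgroup Ω} {p : ℕ} {F : FusionSystem S} (hF : F.IsSaturated p) :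
    F.IsNormalIn F p := by
  refine (isNormalIn_iff F F p).2 ⟨hF, hF, fun _ _ h => h, stronglyClosed_top F, ?_, ?_,
    extF_top (fun _ _ h => h)⟩
  · intro P f hf a ha X hX
    have hiso : Iso F P X a := ⟨ha.mor.mono hf.le, hX⟩
    obtain ⟨a', ha', ha'a, -⟩ := hiso.symm
    refine ⟨a ∘ f ∘ a', (ha'.mor.comp hf (fun y hy => ha'.map_mem hy)).comp ha.mor
      (fun y hy => hf.mem (ha'.map_mem hy)), fun x hx => ?_⟩
    show a (f (a' (a x))) = a (f x)
    rw [ha'a x hx]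
  · intro P f _ hf
    exact ⟨id, f, Iso.refl F le_rfl, hf, fun _ _ => rfl⟩

/-- The bottom of the descent. -/
theorem exists_stage_bot {S T : Subgroup Ω} [Finite S] {p : ℕ} [Fact p.Prime] (hS : IsPGroup p S)
    {E : FusionSystem T} {F : FusionSystem S} (hE : E.IsNormalIn F p)
    [hn : ((E.autGroup T).subgroupOf (F.autGroup T)).Normal]
    (hsolv : IsPSolvable p (↥(F.autGroup T) ⧸ (E.autGroup T).subgroupOf (F.autGroup T))) :
    ∃ (S' : Subgroup Ω) (F' : FusionSystem S'), Stage E F p (E.autGroup T) S' F' := by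
  obtain ⟨-, hF, hsub, hsc, -, -, -⟩ := (isNormalIn_iff E F p).1 hE
  obtain ⟨n, K, hK0, hKn, hA₀, hmono, hnorm, hfac⟩ := psolvable_chain (autGroup_mono hsub T) hsolv
  have main : ∀ d, d ≤ n → ∃ (S' : Subgroup Ω) (F' : FusionSystem S'), Stage E F p (K (n - d)) S' F' := by
    intro d
    induction d with
    | zero =>
      intro _
      refine ⟨S, F, sup_le hsc.1 (centralizerIn_le S T), isNormalIn_refl hF, hE, ?_, fun _ h => h⟩
      rw [Nat.sub_zero, hKn]
    | succ d ih =>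
      intro hd
      obtain ⟨S', F', st⟩ := ih (by omega)
      have hj : n - (d + 1) < n := by omega
      have e : n - d = n - (d + 1) + 1 := by omega
      rw [e] at st
      rcases hfac _ hj with h | h
      · exact st.pstep hS hE (hA₀ _) (hmono _ hj) (hnorm _) h
      · exact st.qstep hS hE (hA₀ _) (hmono _ hj) (hnorm _) h
  obtain ⟨S', F', st⟩ := main n le_rfl
  rw [Nat.sub_self, hK0] at st
  exact ⟨S', F', st⟩

/-- At the bottom the system is over `T C_S(T)`. -/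
theorem Stage.eq_sup {S T : Subgroup Ω} [Finite S] {p : ℕ} [Fact p.Prime] (hS : IsPGroup p S)
    {E : FusionSystem T} {F : FusionSystem S} {S' : Subgroup Ω} {F' : FusionSystem S'}
    (st : Stage E F p (E.autGroup T) S' F') : S' = T ⊔ centralizerIn S T := by
  obtain ⟨-, -, -, a4, -, -, -⟩ := (isNormalIn_iff F' F p).1 st.nF
  obtain ⟨b1, -, -, b4, -, -, -⟩ := (isNormalIn_iff E F' p).1 st.nE
  have hTS : T ≤ S := b4.1.trans a4.1
  have hfinT : Finite T := finite_of_le hTS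
  have hTp : IsPGroup p T := hS.to_le hTS
  refine le_antisymm (fun s hs => ?_) st.le
  have hsN : s ∈ Subgroup.normalizer (T : Set Ω) := StronglyClosed.le_normalizer b4 hs
  set σ : MulAut T := ((conjToAut S' T ⟨s, hs, hsN⟩ : autInducedBy S' T) : MulAut T) with hσ
  have hσS : σ ∈ autInducedBy S' T := Subtype.prop _
  have hσE : σ ∈ E.autGroup T := st.aut ▸ autInducedBy_le_autGroup F' b4.1 hσS
  have hsyl := (fullyAutomized_iff E p le_rfl).1
    (fullyNormalized_fullyAutomized hTp b1 (fullyNormalized_top E))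
  have hp : IsPGroup p (Subgroup.zpowers σ) :=
    (isPGroup_autInducedBy (hS.to_le a4.1) T).to_le ((Subgroup.zpowers_le).2 hσS)
  obtain ⟨g, hg, hgc⟩ := hsyl.exists_conj ((Subgroup.zpowers_le).2 hσE) hp
  have h1 := hgc σ (Subgroup.mem_zpowers σ)
  rw [← inn_eq_autInducedBy] at h1
  have h2 : σ ∈ Inn T := by
    have hInn : (Inn T).Normal := by
      unfold Inn
      infer_instance
    have := hInn.conj_mem _ h1 g⁻¹
    simpa [mul_assoc] using this
  rw [inn_eq_autInducedBy, mem_autInducedBy_iff] at h2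
  obtain ⟨t, ht, e⟩ := h2
  have hc : t⁻¹ * s ∈ centralizerIn S T := by
    rw [mem_centralizerIn_iff]
    refine ⟨S.mul_mem (S.inv_mem (hTS ht)) (a4.1 hs), fun x hx => ?_⟩
    have h3 : s * x * s⁻¹ = t * x * t⁻¹ := e ⟨x, hx⟩
    have h4 : s * x = t * x * t⁻¹ * s := by
      rw [← h3]
      group
    calc x * (t⁻¹ * s) = t⁻¹ * (t * x * t⁻¹ * s) := by group
      _ = t⁻¹ * s * x := by rw [← h4]; group
  have h5 : s = t * (t⁻¹ * s) := by group
  rw [h5]
  exact Subgroup.mul_mem _ ((le_sup_left : T ≤ T ⊔ centralizerIn S T) ht)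
    ((le_sup_right : _ ≤ T ⊔ centralizerIn S T) hc)

end Cfsg.Agent.Lib.Helper87
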