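import Cfsg.Agent.Lib.Helper87.CE8
import Cfsg.Agent.Lib.Helper87.RL7

set_option autoImplicit false

/-! If `E ⊴ F'` over `T`, `S' = T C_{S'}(T)`, `Aut_{F'}(T) = Aut_E(T)` and `F'` acts trivially on `S'/T`, then
`E` has `p`-power index in `F'`. -/

namespace Cfsg.Agent.Lib.Helper87

open Cfsg Cfsg.FusionSystem Cfsg.Agent.Lib.Helper15.FusCE

variable {Ω : Type*} [Group Ω] {S T : Subgroup Ω} {F : FusionSystem S} {E : FusionSystem T}

theorem pPowerIndex_of_trivial_mod {p : ℕ}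
    (hE : E.IsNormalIn F p) (h2 : F.autGroup T = E.autGroup T)
    (h3 : ∀ (P : Subgroup Ω) (f : Ω → Ω), Mor F P f → ∀ v ∈ P, v⁻¹ * f v ∈ T) :
    E.HasPPowerIndexIn F p := by
  obtain ⟨hEs, hFs, hsub, hT, hinv, hfrat, hextF⟩ := (isNormalIn_iff E F p).1 hE
  refine ⟨hsub, ?_, fun P hP => ?_⟩
  · unfold hyperfocalSubgroup
    rw [Subgroup.closure_le]
    rintro y ⟨P, α, x, hP, -, rfl⟩
    have h := h3 P _ ((mem_autGroup_iff F hP α.1).1 α.2) x x.2
    rw [autFun_coe] at h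
    exact h
  · rintro _ ⟨w, -, rfl⟩
    show (w : MulAut P) ∈ E.autGroup P
    have hw : Mor F P (autFun (w : MulAut P)) := (mem_autGroup_iff F (hP.trans hT.1) w.1).1 w.2
    obtain ⟨a, f₀, ha, hf₀, e⟩ := hfrat P _ hP hw
    obtain ⟨α, hα, eα⟩ := ha.exists_aut
    rw [h2] at hα
    have hα' : Mor E T (autFun α) := (mem_autGroup_iff E le_rfl α).1 hα
    have hf₀T : ∀ x ∈ P, f₀ x ∈ T := fun x hx => hf₀.mem hx
    refine (mem_autGroup_iff E hP w.1).2 ?_
    refine (hf₀.comp hα' hf₀T).congr fun x hx => ?_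
    rw [e x hx]
    show autFun α (f₀ x) = a (f₀ x)
    rw [autFun_apply α (hf₀T x hx)]
    exact eα ⟨f₀ x, hf₀T x hx⟩

/-- The reduction: if `C_S(E) ≤ T` and `Aut_F(T)/Aut_E(T)` is `p`-solvable, a residual limit of `F` is a residual
limit of `E`. -/
theorem limit_of_normal_of_inY_le [Finite S] {p : ℕ} [Fact p.Prime] (hS : IsPGroup p S)
    (hE : E.IsNormalIn F p) (hCE : ∀ Y : Subgroup Ω, InY E F Y → Y ≤ T)
    [hn : ((E.autGroup T).subgroupOf (F.autGroup T)).Normal]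
    (hsolv : Cfsg.IsPSolvable p (↥(F.autGroup T) ⧸ (E.autGroup T).subgroupOf (F.autGroup T)))
    {U : Subgroup Ω} (Finf : FusionSystem U) (hFinf : Finf.IsResidualLimitOf F p) :
    Finf.IsResidualLimitOf E p := by
  obtain ⟨S', F', st⟩ := exists_stage_bot hS hE hsolv
  have h := st.eq_sup hS
  subst h
  obtain ⟨a1, -, a3, a4, -, -, -⟩ := (isNormalIn_iff F' F p).1 st.nF
  obtain ⟨b1, -, b3, b4, -, -, -⟩ := (isNormalIn_iff E F' p).1 st.nE
  have hfin : Finite (T ⊔ centralizerIn S T : Subgroup Ω) := finite_of_le a4.1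
  have hS' : IsPGroup p (T ⊔ centralizerIn S T : Subgroup Ω) := hS.to_le a4.1
  have hcc : centralizerIn S T ≤ centralizerIn (T ⊔ centralizerIn S T) T := by
    intro c hc
    exact (mem_centralizerIn_iff _ _ _).2 ⟨(le_sup_right : _ ≤ T ⊔ centralizerIn S T) hc,
      ((mem_centralizerIn_iff _ _ _).1 hc).2⟩
  have hcc' : centralizerIn (T ⊔ centralizerIn S T) T ≤ centralizerIn S T := by
    intro c hc
    exact (mem_centralizerIn_iff _ _ _).2 ⟨a4.1 ((mem_centralizerIn_iff _ _ _).1 hc).1,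
      ((mem_centralizerIn_iff _ _ _).1 hc).2⟩
  have h1 : T ⊔ centralizerIn S T ≤ T ⊔ centralizerIn (T ⊔ centralizerIn S T) T :=
    sup_le_sup_left hcc T
  have htriv := trivial_mod_T hS' st.nE h1 st.aut (fun x hx θ hθ hθT => by
    obtain ⟨c1, c2⟩ := focal_ext hS' st.nE hx hθ hθT
    have hY : InY E F (Subgroup.zpowers (x⁻¹ * θ x)) := by
      refine ⟨c1.trans hcc', fun P f hf => ?_⟩
      obtain ⟨f', d1, d2, d3⟩ := c2 P f hf
      exact ⟨f', d1.of_subsystem a3, d2, d3⟩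
    exact hCE _ hY (Subgroup.mem_zpowers _))
  have hi := pPowerIndex_of_trivial_mod st.nE st.aut htriv
  have hn' : ∀ s ∈ (T ⊔ centralizerIn S T : Subgroup Ω), ∀ t ∈ T, s * t * s⁻¹ ∈ T :=
    fun s hs t ht => StronglyClosed.conj_mem b4 hs ht
  exact (limit_ppower_iff hS' a1 b4.1 hn' b1 hi Finf).1 (st.lim Finf hFinf)

end Cfsg.Agent.Lib.Helper87
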