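import Cfsg.Agent.Lib.Helper87.ComponentTransport

set_option autoImplicit false

namespace Cfsg.Agent.Lib.Helper87

open Cfsg Cfsg.FusionSystem

variable {Ω : Type*} [Group Ω]

theorem invF_self {S : Subgroup Ω} (F : FusionSystem S) : InvF F F := by
  intro P f hf a ha X hX
  obtain ⟨b, hb, hba, hab⟩ := ha.symm
  have hXS : X ≤ S := by
    intro y hy
    obtain ⟨x, hx, rfl⟩ := (hX y).1 hy
    exact ha.map_mem (hf.le hx)
  have hbX : ∀ y ∈ X, b y ∈ P := by
    intro y hy
    obtain ⟨x, hx, rfl⟩ := (hX y).1 hy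
    rw [hba x (hf.le hx)]
    exact hx
  refine ⟨a ∘ (f ∘ b), ((hb.1.mono hXS).comp hf hbX).comp ha.1 (fun y hy => hf.mem (hbX y hy)),
    fun x hx => ?_⟩
  show a (f (b (a x))) = _
  rw [hba x (hf.le hx)]

/-- The image of a subnormal saturated subsystem under a map of the big system is subnormal. -/
theorem subnormal_conj {p : ℕ} {T S : Subgroup Ω} {C : FusionSystem T} {F : FusionSystem S}
    (h : C.IsSubnormalIn F p) : p.Prime → Finite S → IsPGroup p S → C.IsSaturated p →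
      ∀ g : Ω → Ω, Mor F T g → ∀ {T' : Subgroup Ω} (C' : FusionSystem T'), SurjMor C C' g →
        C'.IsSubnormalIn F p := by
  induction h with
  | refl F p =>
    intro _ hfin _ _ g hg T' C' hC
    have hiso := hg.iso_self (fun x hx => hg.mem hx)
    obtain ⟨h1, h2⟩ := (surjMor_of_invF (invF_self F) hiso).unique_target hC
    subst h1
    obtain rfl := fs_ext h2
    exact IsSubnormalIn.refl _ _
  | @step U S C D F p hCD hDF ih =>
    intro hp hfin hS hCs g hg T' C' hC
    have : Fact p.Prime := ⟨hp⟩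
    have hTU := IsSubnormalIn.le hCD
    obtain ⟨-, -, -, hU, h5, h6, -⟩ := (isNormalIn_iff D F p).1 hDF
    have hfinU : Finite U := finite_of_le hU.1
    have hpU := hS.to_le hU.1
    have hfinT : Finite _ := finite_of_le hTU
    obtain ⟨a, g₀, ha, hg₀, e⟩ := h6 _ g hTU hg
    obtain ⟨C₀, hC₀⟩ := exists_image_system (E := C) (T' := img _ g₀) (θ := g₀) (hpU.to_le hTU) hCs
      (fun x hx y hy => hg₀.map_mul hx hy) (fun x hx h1 => hg₀.eq_one hx h1) hg₀.mem_img
    have h1 := ih hp hfinU hpU hCs g₀ hg₀ C₀ hC₀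
    obtain ⟨ρ, hρ, eρ⟩ := hC₀.factor hC (fun x hx h1 => by
      rw [hg₀.eq_one hx h1]
      exact hg.map_one)
    have hρ' : SurjMor C₀ C' a := hρ.congr (fun y hy => by
      obtain ⟨x, hx, rfl⟩ := (hg₀.mem_img y).1 hy
      rw [eρ x hx, e x hx])
    exact IsSubnormalIn.step (isSubnormalIn_transport a h1 hp hfinU hpU
      (fun x hx h1 => ha.1.eq_one hx h1) D C' (surjMor_of_invF h5 ha) hρ') hDF

/-- An automorphism of `S` that, with its inverse, is a morphism of `F` is a surjective morphism. -/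
theorem surjMor_of_auto {S : Subgroup Ω} {F : FusionSystem S} (α : S ≃* S)
    (hα : F.IsMorphism F (S.subtype.comp α.toMonoidHom))
    (hα' : F.IsMorphism F (S.subtype.comp α.symm.toMonoidHom)) :
    SurjMor F F (tf (S.subtype.comp α.toMonoidHom)) := by
  have hab : ∀ x ∈ S, tf (S.subtype.comp α.toMonoidHom) (tf (S.subtype.comp α.symm.toMonoidHom) x)
      = x := by
    intro x hx
    rw [tf_apply _ hx]
    show tf _ ((α.symm ⟨x, hx⟩ : S) : Ω) = x
    rw [tf_coe]
    show ((α (α.symm ⟨x, hx⟩) : S) : Ω) = x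
    rw [MulEquiv.apply_symm_apply]
  have hba : ∀ x ∈ S, tf (S.subtype.comp α.symm.toMonoidHom) (tf (S.subtype.comp α.toMonoidHom) x)
      = x := by
    intro x hx
    rw [tf_apply _ hx]
    show tf _ ((α ⟨x, hx⟩ : S) : Ω) = x
    rw [tf_coe]
    show ((α.symm (α ⟨x, hx⟩) : S) : Ω) = x
    rw [MulEquiv.symm_apply_apply]
  have haS : ∀ x ∈ S, tf (S.subtype.comp α.toMonoidHom) x ∈ S := by
    intro x hx
    rw [tf_apply _ hx]
    exact (α ⟨x, hx⟩).2
  have hbS : ∀ x ∈ S, tf (S.subtype.comp α.symm.toMonoidHom) x ∈ S := by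
    intro x hx
    rw [tf_apply _ hx]
    exact (α.symm ⟨x, hx⟩).2
  refine surjMor_of ⟨hα, ?_, fun P' hP' φ' hφ' => ?_⟩
  · ext y
    constructor
    · rintro ⟨x, rfl⟩
      exact (α x).2
    · intro hy
      exact ⟨α.symm ⟨y, hy⟩, by
        show ((α (α.symm ⟨y, hy⟩) : S) : Ω) = y
        rw [MulEquiv.apply_symm_apply]⟩
  · obtain ⟨φ, hφ, hind⟩ := hα'.2 P' φ' hφ'
    have heq : imageAlong (S.subtype.comp α.symm.toMonoidHom) P' =
        preimageAlong (S.subtype.comp α.toMonoidHom) P' := by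
      ext x
      rw [mem_imageAlong, mem_preimageAlong]
      constructor
      · rintro ⟨y, hy, hyS, rfl⟩
        exact ⟨hbS y hyS, by rw [hab y hyS]; exact hy⟩
      · rintro ⟨hx, hx'⟩
        exact ⟨_, hx', haS x hx, hba x hx⟩
    obtain ⟨h1, h2, h3, h4⟩ := (inducedAlong_iff _ φ' φ).1 hind
    have key : ∀ (R : Subgroup Ω) (hR : imageAlong (S.subtype.comp α.symm.toMonoidHom) P' = R)
        (φ : ↥(imageAlong (S.subtype.comp α.symm.toMonoidHom) P') →* Ω),
        φ ∈ F.Hom (imageAlong (S.subtype.comp α.symm.toMonoidHom) P') →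
        (∀ x ∈ P', ext φ (tf (S.subtype.comp α.symm.toMonoidHom) x) =
          tf (S.subtype.comp α.symm.toMonoidHom) (ext φ' x)) →
        ∃ ψ ∈ F.Hom R, InducedAlong (S.subtype.comp α.toMonoidHom) ψ φ' := by
      rintro R rfl φ hφ h4
      refine ⟨φ, hφ, (inducedAlong_iff _ φ φ').2 ⟨(F.le_of_mem hφ).1, fun x hx => ?_, fun x hx => ?_,
        fun x hx => ?_⟩⟩
      · exact (Mor.of_hom hφ).mem hx
      · obtain ⟨y, hy, hyS, rfl⟩ := (mem_imageAlong _ _ _).1 hx
        rw [hab y hyS]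
        exact hy
      · obtain ⟨y, hy, hyS, rfl⟩ := (mem_imageAlong _ _ _).1 hx
        rw [hab y hyS, h4 y hy, hab _ (h2 y hy)]
    exact key _ heq φ hφ h4

end Cfsg.Agent.Lib.Helper87
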