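import Cfsg.Agent.Lib.Helper87.NormalTransport
import Cfsg.Agent.Lib.Helper87.NIM5
import Cfsg.Agent.Lib.Helper87.Grun

set_option autoImplicit false

namespace Cfsg.Agent.Lib.Helper87

open Cfsg Cfsg.FusionSystem

variable {Ω : Type*} [Group Ω] {S T : Subgroup Ω} {Ω' : Type*} [Group Ω'] {S' T' : Subgroup Ω'}

theorem surjMor_id (F : FusionSystem S) : SurjMor F F id where
  map_mul := fun _ _ _ _ => rfl
  mem := fun _ hs => hs
  surj := fun y hy => ⟨y, hy, rfl⟩
  push := fun P f hf P' hP' => by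
    have : P' = P := by
      ext y
      rw [hP']
      exact ⟨by rintro ⟨x, hx, rfl⟩; exact hx, fun hy => ⟨y, hy, rfl⟩⟩
    subst this
    exact ⟨f, hf, fun _ _ => rfl⟩
  lift := fun P' f' hf' P hP => by
    have : P = P' := by
      ext x
      rw [hP]
      exact ⟨fun h => h.2, fun h => ⟨hf'.le h, h⟩⟩
    subst this
    exact ⟨f', hf', fun _ _ => rfl⟩

section

variable {F : FusionSystem S} {F' : FusionSystem S'} {θ : Ω → Ω'}

theorem SurjMor.inj_of_ker (h : SurjMor F F' θ) (hinj : ∀ x ∈ S, θ x = 1 → x = 1) :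
    ∀ x ∈ S, ∀ y ∈ S, θ x = θ y → x = y := by
  intro x hx y hy e
  have h1 : θ (x⁻¹ * y) = 1 := by
    rw [h.map_mul _ (S.inv_mem hx) _ hy, h.map_inv hx, e, inv_mul_cancel]
  exact inv_mul_eq_one.1 (hinj _ (S.mul_mem (S.inv_mem hx) hy) h1)

theorem SurjMor.exists_inverse (h : SurjMor F F' θ) (hinj : ∀ x ∈ S, θ x = 1 → x = 1) :
    ∃ σ, SurjMor F' F σ ∧ (∀ x ∈ S, σ (θ x) = x) ∧ ∀ y ∈ S', θ (σ y) = y := by
  obtain ⟨σ, hσ, e⟩ := h.factor (surjMor_id F) (fun x hx h1 => hinj x hx h1)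
  refine ⟨σ, hσ, e, fun y hy => ?_⟩
  obtain ⟨x, hx, rfl⟩ := h.surj y hy
  rw [e x hx]
  rfl

theorem SurjMor.mor_target_of {S₁ S₂ : Subgroup Ω'} {F₁ : FusionSystem S₁} {F₂ : FusionSystem S₂}
    (h₁ : SurjMor F F₁ θ) (h₂ : SurjMor F F₂ θ) {P' : Subgroup Ω'} {f' : Ω' → Ω'}
    (hf' : Mor F₁ P' f') : Mor F₂ P' f' := by
  obtain ⟨f, hf, e⟩ := h₁.lift P' f' hf' (h₁.preimage P') (h₁.mem_preimage P')
  obtain ⟨f'', hf'', e''⟩ := h₂.push _ f hf P' (h₁.image_preimage hf'.le)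
  refine hf''.congr (fun y hy => ?_)
  obtain ⟨x, hx, rfl⟩ := (h₁.image_preimage hf'.le y).1 hy
  rw [e'' x hx, e x hx]

theorem SurjMor.unique_target {S₁ S₂ : Subgroup Ω'} {F₁ : FusionSystem S₁} {F₂ : FusionSystem S₂}
    (h₁ : SurjMor F F₁ θ) (h₂ : SurjMor F F₂ θ) : S₁ = S₂ ∧ ∀ P, F₁.Hom P = F₂.Hom P := by
  have hS : S₁ = S₂ := by
    ext y
    constructor
    · intro hy
      obtain ⟨x, hx, rfl⟩ := h₁.surj y hy
      exact h₂.mem x hx
    · intro hy
      obtain ⟨x, hx, rfl⟩ := h₂.surj y hy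
      exact h₁.mem x hx
  subst hS
  exact ⟨rfl, hom_eq_of_mor_iff (fun P f => ⟨h₁.mor_target_of h₂, h₂.mor_target_of h₁⟩)⟩

theorem SurjMor.isCentral_image (h : SurjMor F F' θ) {Q : Subgroup Ω} (hQ : F.IsCentral Q) :
    F'.IsCentral (h.image Q hQ.1) := by
  rw [isCentral_iff]
  refine ⟨h.image_le hQ.1, fun P' f' hf' => ?_⟩
  have hP'S := hf'.le
  obtain ⟨f, hf, e⟩ := h.lift P' f' hf' (h.preimage P') (h.mem_preimage P')
  obtain ⟨f₁, hf₁, e₁, hfQ⟩ := ((isCentral_iff F Q).1 hQ).2 _ f hf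
  have hP' : h.image (h.preimage P') (h.preimage_le P') = P' := by
    ext y
    rw [h.image_preimage hP'S y]
    rfl
  obtain ⟨f₁', hf₁', e₁'⟩ := h.push _ f₁ hf₁ (P' ⊔ h.image Q hQ.1) (by
    intro y
    rw [← h.image_sup (h.preimage_le P') hQ.1 y, hP'])
  refine ⟨f₁', hf₁', fun y hy => ?_, ?_⟩
  · obtain ⟨x, hx, rfl⟩ := (h.image_preimage hP'S y).1 hy
    rw [e₁' x ((le_sup_left : h.preimage P' ≤ _) hx), e₁ x hx, e x hx]
  · rintro _ ⟨z, hz, rfl⟩
    rw [e₁' z ((le_sup_right : Q ≤ h.preimage P' ⊔ Q) hz), hfQ z hz]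

theorem SurjMor.image_center_le [Finite S] (h : SurjMor F F' θ) :
    ∀ x ∈ F.center, θ x ∈ F'.center := by
  intro x hx
  have hQ := Cfsg.Agent.Lib.Helper88.isCentral_center F
  have hle : h.image F.center hQ.1 ≤ F'.center := le_sSup (h.isCentral_image hQ)
  exact hle ((h.mem_image hQ.1 _).2 ⟨x, hx, rfl⟩)

theorem map_mem_pResidual' {A B : Type*} [Group A] [Group B] (p : ℕ) (ε : A →* B)
    {a : A} (ha : a ∈ pResidual p A) : ε a ∈ pResidual p B := by
  induction ha using Subgroup.closure_induction with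
  | mem x hx =>
    refine Subgroup.subset_closure ?_
    show Nat.Coprime (orderOf (ε x)) p
    exact Nat.Coprime.coprime_dvd_left (orderOf_map_dvd ε x) hx
  | one => rw [map_one]; exact Subgroup.one_mem _
  | mul x y _ _ hx hy => rw [map_mul]; exact Subgroup.mul_mem _ hx hy
  | inv x _ hx => rw [map_inv]; exact Subgroup.inv_mem _ hx

theorem SurjMor.image_hyperfocal_le [Finite S] (h : SurjMor F F' θ) (p : ℕ) :
    ∀ x ∈ F.hyperfocalSubgroup p, θ x ∈ F'.hyperfocalSubgroup p := by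
  have key : ∀ x ∈ F.hyperfocalSubgroup p, x ∈ S ∧ θ x ∈ F'.hyperfocalSubgroup p := by
    intro x hx
    induction hx using Subgroup.closure_induction with
    | mem y hy =>
      obtain ⟨P, α, x₀, hP, hα, rfl⟩ := hy
      have hx₀ : (x₀ : Ω) ∈ S := hP x₀.2
      have hαx : (((α : MulAut P) x₀ : P) : Ω) ∈ S := hP (Subtype.prop _)
      refine ⟨S.mul_mem (S.inv_mem hx₀) hαx, ?_⟩
      rw [h.map_mul _ (S.inv_mem hx₀) _ hαx, h.map_inv hx₀, ← h.autMap_apply hP α x₀]
      exact mem_hyperfocal_of (h.image_le hP) (map_mem_pResidual' p (h.autMap hP) hα)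
        ⟨θ x₀, x₀, x₀.2, rfl⟩
    | one => exact ⟨S.one_mem, by rw [h.map_one]; exact Subgroup.one_mem _⟩
    | mul a b _ _ iha ihb =>
      exact ⟨S.mul_mem iha.1 ihb.1, by
        rw [h.map_mul a iha.1 b ihb.1]; exact Subgroup.mul_mem _ iha.2 ihb.2⟩
    | inv a _ iha =>
      exact ⟨S.inv_mem iha.1, by rw [h.map_inv iha.1]; exact Subgroup.inv_mem _ iha.2⟩
  exact fun x hx => (key x hx).2

/-- Simplicity is invariant under isomorphism. -/
theorem isSimple_transport [Finite S] {p : ℕ} [Fact p.Prime] (hS : IsPGroup p S)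
    (h : SurjMor F F' θ) (hinj : ∀ x ∈ S, θ x = 1 → x = 1) (hF : F.IsSimple p) :
    F'.IsSimple p := by
  obtain ⟨hs, hne, hsimp⟩ := hF
  obtain ⟨σ, hσ, e1, e2⟩ := h.exists_inverse hinj
  have hfin' : Finite S' := h.finite_target
  have hpS' := h.isPGroup_target hS
  have hinjσ : ∀ x ∈ S', ∀ y ∈ S', σ x = σ y → x = y := by
    intro x hx y hy e
    rw [← e2 x hx, ← e2 y hy, e]
  refine ⟨h.saturated_target hS hs, fun hbot => hne ?_, fun R' D' hD' => ?_⟩
  · rw [eq_bot_iff]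
    intro x hx
    have h1 := h.mem x hx
    rw [hbot, Subgroup.mem_bot] at h1
    exact Subgroup.mem_bot.2 (hinj x hx h1)
  · have hR'S : R' ≤ S' := hD'.1.2.2.2.1.1
    have hfinR : Finite R' := finite_of_le hR'S
    obtain ⟨D, hD⟩ := exists_image_system (E := D') (T' := hσ.image R' hR'S) (θ := σ)
      (hpS'.to_le hR'S) hD'.1.1 (fun x hx y hy => hσ.map_mul x (hR'S hx) y (hR'S hy))
      (fun x hx h1 => hinjσ x (hR'S hx) 1 S'.one_mem (h1.trans hσ.map_one.symm))
      (hσ.mem_image hR'S)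
    have hn := isNormalIn_transport hpS' hσ hinjσ hD hD'
    rcases hsimp _ D hn with h0 | ⟨h0, h1⟩
    · left
      rw [eq_bot_iff]
      intro y hy
      have h2 : σ y ∈ hσ.image R' hR'S := (hσ.mem_image hR'S _).2 ⟨y, hy, rfl⟩
      rw [h0, Subgroup.mem_bot] at h2
      exact Subgroup.mem_bot.2 (hinjσ y (hR'S hy) 1 S'.one_mem (h2.trans hσ.map_one.symm))
    · right
      have hRS : R' = S' := by
        apply le_antisymm hR'S
        intro y hy
        have h2 : σ y ∈ hσ.image R' hR'S := by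
          rw [h0]
          exact hσ.mem y hy
        obtain ⟨r, hr, er⟩ := (hσ.mem_image hR'S _).1 h2
        rw [← hinjσ r (hR'S hr) y hy er]
        exact hr
      subst hRS
      refine ⟨rfl, hom_eq_of_mor_iff (fun P' f' => ⟨fun hf' => hf'.of_subsystem hD'.1.2.2.1,
        fun hf' => ?_⟩)⟩
      obtain ⟨f, hf, e⟩ := hσ.push P' f' hf' (hσ.image P' hf'.le) (hσ.mem_image hf'.le)
      have hfD : Mor D (hσ.image P' hf'.le) f := by
        obtain ⟨φ, hφ, eφ⟩ := hf
        exact ⟨φ, (h1 _).symm ▸ hφ, eφ⟩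
      obtain ⟨f'', hf'', e''⟩ := hD.lift_mor hinjσ hf'.le hfD (hσ.mem_image hf'.le)
      refine hf''.congr (fun y hy => ?_)
      apply hinjσ _ (hf''.mem hy) _ (hf'.mem hy)
      rw [← e'' y hy, e y hy]

/-- Quasisimplicity is invariant under isomorphism. -/
theorem quasisimple_transport [Finite S] {p : ℕ} [Fact p.Prime] (hS : IsPGroup p S)
    (h : SurjMor F F' θ) (hinj : ∀ x ∈ S, θ x = 1 → x = 1) (hF : F.Quasisimple p) :
    F'.Quasisimple p := by
  obtain ⟨hs, hhyp, hfac⟩ := hF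
  obtain ⟨σ, hσ, e1, e2⟩ := h.exists_inverse hinj
  have hfin' : Finite S' := h.finite_target
  have hpS' := h.isPGroup_target hS
  have hs' := h.saturated_target hS hs
  refine ⟨hs', le_antisymm (hyperfocal_le F' p) ?_, fun E₁ hE₁ => ?_⟩
  · intro y hy
    obtain ⟨x, hx, rfl⟩ := h.surj y hy
    exact h.image_hyperfocal_le p x (hhyp.symm ▸ hx)
  · have hZc := Cfsg.Agent.Lib.Helper88.isCentral_center F
    have hZsc : F.StronglyClosed F.center :=
      Cfsg.Agent.Lib.Helper87.IsNormal.stronglyClosed (IsCentral.isNormal hZc)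
    have hZc' := Cfsg.Agent.Lib.Helper88.isCentral_center F'
    have hZsc' : F'.StronglyClosed F'.center :=
      Cfsg.Agent.Lib.Helper87.IsNormal.stronglyClosed (IsCentral.isNormal hZc')
    obtain ⟨E₀, hE₀⟩ := Cfsg.Agent.S5132.result p hS F F.center hZsc
    have hsimple := hfac E₀ hE₀
    have hπ := surjMor_of (Cfsg.Agent.S5134.result p hS F hs F.center hZsc _ E₀ hE₀)
    have hπ' := surjMor_of (Cfsg.Agent.S5134.result p hpS' F' hs' F'.center hZsc' _ E₁ hE₁)
    have h₂ := h.comp hπ'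
    obtain ⟨ρ, hρ, eρ⟩ := hπ.factor h₂ (fun x hx h1 => by
      show tf _ (θ x) = 1
      rw [tf_eq_one_iff hE₁.2.1 (h.mem x hx)]
      exact h.image_center_le x ((tf_eq_one_iff hE₀.2.1 hx).1 h1))
    have hfin0 : Finite (⊤ : Subgroup (S ⧸ (F.center).subgroupOf S)) := hπ.finite_target
    refine isSimple_transport (hπ.isPGroup_target hS) hρ (fun y hy h1 => ?_) hsimple
    obtain ⟨x, hx, rfl⟩ := hπ.surj y hy
    rw [eρ x hx] at h1
    have h3 : tf (QuotientGroup.mk' ((F'.center).subgroupOf S')) (θ x) = 1 := h1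
    rw [tf_eq_one_iff hE₁.2.1 (h.mem x hx)] at h3
    have h4 := hσ.image_center_le _ h3
    rw [e1 x hx] at h4
    exact (tf_eq_one_iff hE₀.2.1 hx).2 h4

end

/-- Subnormality is invariant under isomorphism. -/
theorem isSubnormalIn_transport {p : ℕ} (θ : Ω → Ω') {T S : Subgroup Ω} {E : FusionSystem T}
    {F : FusionSystem S} (hsub : E.IsSubnormalIn F p) : p.Prime → Finite S → IsPGroup p S →
      (∀ x ∈ S, θ x = 1 → x = 1) → ∀ {S' : Subgroup Ω'} (F' : FusionSystem S') {T' : Subgroup Ω'}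
        (E' : FusionSystem T'), SurjMor F F' θ → SurjMor E E' θ → E'.IsSubnormalIn F' p := by
  induction hsub with
  | refl F p =>
    intro _ _ _ _ S' F' T' E' h hE
    obtain ⟨h1, h2⟩ := h.unique_target hE
    subst h1
    obtain rfl := fs_ext h2
    exact IsSubnormalIn.refl _ _
  | @step U S E D F p hED hDF ih =>
    intro hp hfin hS hinj S' F' T' E' h hE
    have : Fact p.Prime := ⟨hp⟩
    have hUS : U ≤ S := hDF.1.2.2.2.1.1
    have hfinU : Finite U := finite_of_le hUS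
    obtain ⟨D', hD'⟩ := exists_image_system (E := D) (T' := h.image U hUS) (θ := θ)
      (hS.to_le hUS) hDF.1.1 (fun x hx y hy => h.map_mul x (hUS hx) y (hUS hy))
      (fun x hx h1 => hinj x (hUS hx) h1) (h.mem_image hUS)
    have hn := isNormalIn_transport hS h (h.inj_of_ker hinj) hD' hDF
    exact IsSubnormalIn.step (ih hp hfinU (hS.to_le hUS) (fun x hx => hinj x (hUS hx)) D' E' hD' hE)
      hn

theorem isComponentIn_transport [Finite S] {p : ℕ} [Fact p.Prime] (hS : IsPGroup p S)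
    {F : FusionSystem S} {F' : FusionSystem S'} {θ : Ω → Ω'}
    (h : SurjMor F F' θ) (hinj : ∀ x ∈ S, θ x = 1 → x = 1) {C : FusionSystem T} (hTS : T ≤ S)
    {C' : FusionSystem T'} (hC : SurjMor C C' θ) (hcomp : C.IsComponentIn F p) :
    C'.IsComponentIn F' p := by
  have hfinT : Finite T := finite_of_le hTS
  exact ⟨isSubnormalIn_transport θ hcomp.1 Fact.out inferInstance hS hinj F' C' h hC,
    quasisimple_transport (hS.to_le hTS) hC (fun x hx => hinj x (hTS hx)) hcomp.2⟩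

theorem IsSubnormalIn.le {p : ℕ} {T S : Subgroup Ω} {E : FusionSystem T} {F : FusionSystem S}
    (h : E.IsSubnormalIn F p) : T ≤ S := by
  induction h with
  | refl F p => exact le_rfl
  | step _ hDF ih => exact ih.trans hDF.1.2.2.2.1.1

end Cfsg.Agent.Lib.Helper87
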