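import Cfsg.Agent.Lib.Helper87.PPower
import Cfsg.Agent.Lib.Helper87.StronglyClosed

set_option autoImplicit false

namespace Cfsg.Agent.Lib.Helper87

open Cfsg Cfsg.FusionSystem

variable {Ω : Type*} [Group Ω] {S : Subgroup Ω}

/-- Choosing a common power: `β ^ j` has order prime to `p` while `α ^ j = α`. -/
theorem exists_pow_coprime {A B : Type*} [Group A] [Group B] {p : ℕ} [hp : Fact p.Prime]
    {α : A} (hα : Nat.Coprime (orderOf α) p) {β : B} (hβ : 0 < orderOf β) :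
    ∃ j : ℕ, Nat.Coprime (orderOf (β ^ j)) p ∧ α ^ j = α := by
  obtain ⟨a, m, hm, hgm⟩ := Nat.exists_eq_pow_mul_and_not_dvd hβ.ne' p hp.out.ne_one
  have hcop : Nat.Coprime (p ^ a) (orderOf α) := (Nat.Coprime.pow_right a hα).symm
  obtain ⟨j, hj⟩ := exists_pow_eq_self_of_coprime hcop
  refine ⟨p ^ a * j, ?_, by rw [pow_mul, hj]⟩
  have h1 : (β ^ (p ^ a)) ^ m = 1 := by
    rw [← pow_mul, ← hgm]
    exact pow_orderOf_eq_one β
  have h2 : orderOf ((β ^ (p ^ a)) ^ j) ∣ m :=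
    (orderOf_pow_dvd j).trans (orderOf_dvd_of_pow_eq_one h1)
  rw [pow_mul]
  exact Nat.Coprime.coprime_dvd_left h2 ((Nat.Prime.coprime_iff_not_dvd hp.out).2 hm).symm

/-- Restriction of an automorphism in `Aut_F(Q)` to an invariant subgroup `T ≤ Q`. -/
theorem restrict_aut {F : FusionSystem S} {Q T : Subgroup Ω} [Finite T] (hQ : Q ≤ S) (hTQ : T ≤ Q)
    {β : MulAut Q} (hβ : β ∈ F.autGroup Q) (hT : ∀ t ∈ T, autFun β t ∈ T) :
    ∃ b ∈ F.autGroup T, (∀ t : T, ((b t : T) : Ω) = autFun β t) ∧ orderOf b ∣ orderOf β := by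
  obtain ⟨b, hb, e⟩ := ((((mem_autGroup_iff F hQ β).1 hβ).mono hTQ).iso_self hT).exists_aut
  refine ⟨b, hb, e, orderOf_dvd_of_pow_eq_one ?_⟩
  have key : ∀ (i : ℕ) (t : T), (((b ^ i) t : T) : Ω) = autFun (β ^ i) t := by
    intro i
    induction i with
    | zero =>
      intro t
      rw [pow_zero, pow_zero, autFun_apply _ (hTQ t.2)]
      rfl
    | succ i ih =>
      intro t
      rw [pow_succ', pow_succ', MulAut.mul_apply, e, ih, autFun_apply _ (hTQ t.2), autFun_coe,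
        autFun_apply _ (hTQ t.2), MulAut.mul_apply]
  ext t
  rw [key, pow_orderOf_eq_one, autFun_apply _ (hTQ t.2)]
  rfl

/-- Powers of two automorphisms that agree modulo an invariant subgroup `T`. -/
theorem pow_agree_mod {P Q T : Subgroup Ω} (hPQ : P ≤ Q) (hTQ : T ≤ Q) {α : MulAut P} {β : MulAut Q}
    (hT : ∀ t ∈ T, autFun β t ∈ T)
    (h : ∀ y : P, ((α y : P) : Ω)⁻¹ * autFun β y ∈ T) (i : ℕ) :
    ∀ y : P, (((α ^ i) y : P) : Ω)⁻¹ * autFun (β ^ i) y ∈ T := by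
  induction i with
  | zero =>
    intro y
    rw [pow_zero, pow_zero, autFun_apply _ (hPQ y.2)]
    simp
  | succ i ih =>
    intro y
    have h1 := ih y
    have h2 := h ((α ^ i) y)
    rw [autFun_apply _ (hPQ y.2)] at h1
    rw [autFun_apply _ (hPQ (Subtype.prop _))] at h2
    rw [pow_succ', pow_succ', MulAut.mul_apply, autFun_apply _ (hPQ y.2), MulAut.mul_apply]
    set u : Q := ⟨((α ^ i) y : P), hPQ (Subtype.prop _)⟩ with hu
    set v : Q := (β ^ i) ⟨y, hPQ y.2⟩ with hv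
    have h3 : v = u * (u⁻¹ * v) := by group
    have h4 : ((β v : Q) : Ω) = (β u : Q) * (β (u⁻¹ * v) : Q) := by
      conv_lhs => rw [h3, map_mul]
      rfl
    have h5 : ((β (u⁻¹ * v) : Q) : Ω) ∈ T := by
      have := hT _ h1
      rwa [autFun_apply _ (Q.mul_mem (Q.inv_mem u.2) v.2)] at this
    rw [h4, ← mul_assoc]
    exact T.mul_mem h2 h5

theorem le_NK_inn {T : Subgroup Ω} (hTS : T ≤ S) (K : Subgroup (MulAut T)) (hK : Inn T ≤ K) :
    T ≤ NK S T K := by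
  intro t ht
  refine ⟨hTS ht, (conjToAut T T ⟨t, ht, Subgroup.le_normalizer ht⟩ : autInducedBy T T), hK ?_,
    fun x => rfl⟩
  rw [inn_eq_autInducedBy]
  exact Subtype.prop _

theorem coprime_aut_mod_NK [Finite S] {p : ℕ} [Fact p.Prime] (hS : IsPGroup p S)
    {F : FusionSystem S} (hF : F.IsSaturated p) {T : Subgroup Ω} (hT : F.StronglyClosed T)
    {P : Subgroup Ω} (hP : P ≤ S) {α : MulAut P} (hα : α ∈ F.autGroup P)
    (hc : Nat.Coprime (orderOf α) p) (y : P) :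
    (y : Ω)⁻¹ * (α y : P) ∈
      NK S T ((pResidual p (F.autGroup T)).map (F.autGroup T).subtype ⊔ Inn T) := by
  set K := (pResidual p (F.autGroup T)).map (F.autGroup T).subtype ⊔ Inn T with hK
  have hTfin : Finite T := finite_of_le hT.1
  obtain ⟨f', hf', e⟩ := exists_lift_mod hS hF hT P (autFun α) ((mem_autGroup_iff F hP α).1 hα)
  have hQ : P ⊔ T ≤ S := sup_le hP hT.1
  have hmap : ∀ x ∈ P ⊔ T, f' x ∈ P ⊔ T := by
    refine hf'.map_sup_mem (fun x hx => ?_) (fun t ht => (le_sup_right : T ≤ P ⊔ T)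
      (StronglyClosed.map_mem hT hf' ((le_sup_right : T ≤ P ⊔ T) ht) ht))
    have h3 : f' x = autFun α x * ((autFun α x)⁻¹ * f' x) := by group
    rw [h3]
    exact Subgroup.mul_mem _ ((le_sup_left : P ≤ P ⊔ T) (autFun_mem α hx))
      ((le_sup_right : T ≤ P ⊔ T) (e x hx))
  have hfin : Finite (P ⊔ T : Subgroup Ω) := finite_of_le hQ
  obtain ⟨β, hβ, eβ⟩ := (hf'.iso_self hmap).exists_aut
  have hTmem : ∀ {γ : MulAut (P ⊔ T : Subgroup Ω)}, γ ∈ F.autGroup (P ⊔ T) →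
      ∀ t ∈ T, autFun γ t ∈ T := fun hγ t ht =>
    StronglyClosed.map_mem hT ((mem_autGroup_iff F hQ _).1 hγ) ((le_sup_right : T ≤ P ⊔ T) ht) ht
  have hag : ∀ y : P, ((α y : P) : Ω)⁻¹ * autFun β y ∈ T := by
    intro y
    have h1 := e y y.2
    rw [autFun_coe] at h1
    rw [autFun_apply β ((le_sup_left : P ≤ P ⊔ T) y.2), eβ]
    exact h1
  obtain ⟨j, hj, hαj⟩ := exists_pow_coprime hc (orderOf_pos β)
  have hagj := pow_agree_mod le_sup_left le_sup_right (hTmem hβ) hag j y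
  rw [hαj] at hagj
  have hβ' : β ^ j ∈ F.autGroup (P ⊔ T) := Subgroup.pow_mem _ hβ j
  set β' := β ^ j with hβ'def
  have hm' := (mem_autGroup_iff F hQ _).1 hβ'
  obtain ⟨b, hb, eb, hbo⟩ := restrict_aut hQ le_sup_right hβ' (hTmem hβ')
  have hbc : Nat.Coprime (orderOf b) p := Nat.Coprime.coprime_dvd_left hbo hj
  have hyS : (y : Ω) ∈ S := hP y.2
  set Y : ↥(S ⊓ Subgroup.normalizer (T : Set Ω)) :=
    ⟨y, hyS, StronglyClosed.le_normalizer hT hyS⟩ with hY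
  set g : MulAut T := ((conjToAut S T Y : autInducedBy S T) : MulAut T) with hg
  have hgA : g ∈ F.autGroup T := autInducedBy_le_autGroup F hT.1 (Subtype.prop _)
  have hgi : ∀ t : T, ((g⁻¹ t : T) : Ω) = (y : Ω)⁻¹ * t * y := by
    intro t
    have h1 : g⁻¹ = ((conjToAut S T Y⁻¹ : autInducedBy S T) : MulAut T) := by
      rw [map_inv]
      rfl
    rw [h1, conjToAut_apply]
    simp [hY]
  have hbres : (⟨b, hb⟩ : F.autGroup T) ∈ pResidual p (F.autGroup T) := by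
    refine Cfsg.Agent.Lib.Helper2.mem_pResidual_of_coprime ?_
    rwa [Subgroup.orderOf_mk]
  have hκ : g⁻¹ * b * g⁻¹⁻¹ * b⁻¹ ∈ K := by
    refine (le_sup_left : _ ≤ K) ⟨(⟨g, hgA⟩ : F.autGroup T)⁻¹ * ⟨b, hb⟩ *
      ((⟨g, hgA⟩ : F.autGroup T)⁻¹)⁻¹ * (⟨b, hb⟩ : F.autGroup T)⁻¹, ?_, rfl⟩
    exact Subgroup.mul_mem _ ((Cfsg.Agent.Lib.Helper2.pResidual_normal p).conj_mem _ hbres _)
      (Subgroup.inv_mem _ hbres)
  have hyQ : (y : Ω) ∈ P ⊔ T := (le_sup_left : P ≤ P ⊔ T) y.2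
  have h1 : (y : Ω)⁻¹ * autFun β' y ∈ NK S T K := by
    refine ⟨S.mul_mem (S.inv_mem hyS) (hm'.mem hyQ), _, hκ, fun t => ?_⟩
    rw [inv_inv]
    show ((g⁻¹ (b (g (b⁻¹ t))) : T) : Ω) = _
    set t₀ := b⁻¹ t with ht₀
    have ht : t = b t₀ := by rw [ht₀, MulAut.apply_inv_self]
    have h2 : ((g t₀ : T) : Ω) = y * t₀ * (y : Ω)⁻¹ := rfl
    rw [hgi, eb, h2, hm'.map_conj hyQ ((le_sup_right : T ≤ P ⊔ T) t₀.2), ← eb, ← ht]
    group
  have h2 : (y : Ω)⁻¹ * (α y : P) =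
      ((y : Ω)⁻¹ * autFun β' y) * (((α y : P) : Ω)⁻¹ * autFun β' y)⁻¹ := by group
  rw [h2]
  exact Subgroup.mul_mem _ h1 (Subgroup.inv_mem _ (le_NK_inn hT.1 K le_sup_right hagj))

/-- The hyperfocal subgroup acts on a strongly closed subgroup `T` through `O^p(Aut_F(T)) Inn(T)`. -/
theorem hyperfocal_le_NK [Finite S] {p : ℕ} [Fact p.Prime] (hS : IsPGroup p S)
    {F : FusionSystem S} (hF : F.IsSaturated p) {T : Subgroup Ω} (hT : F.StronglyClosed T) :
    F.hyperfocalSubgroup p ≤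
      NK S T ((pResidual p (F.autGroup T)).map (F.autGroup T).subtype ⊔ Inn T) := by
  refine (Subgroup.closure_le _).2 ?_
  rintro _ ⟨P, α, x, hP, hα, rfl⟩
  have h1 : (pResidual p (F.autGroup P)).map (F.autGroup P).subtype ≤ autModT F P
      (NK S T ((pResidual p (F.autGroup T)).map (F.autGroup T).subtype ⊔ Inn T)) := by
    rw [Cfsg.Agent.Lib.Helper2.map_pResidual_subtype]
    refine (Subgroup.closure_le _).2 ?_
    rintro a ⟨ha, hc⟩
    exact ⟨ha, fun y => coprime_aut_mod_NK hS hF hT hP ha hc y⟩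
  exact (h1 ⟨α, hα, rfl⟩).2 x

end Cfsg.Agent.Lib.Helper87
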