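import Cfsg.Agent.Lib.Helper87.PrimeSat
import Cfsg.Agent.Lib.Helper87.AutSylow
import Cfsg.Agent.Lib.Helper87.FusionGroup

set_option autoImplicit false

namespace Cfsg.Agent.Lib.Helper87

open Cfsg Cfsg.FusionSystem

variable {Ω : Type*} [Group Ω] {S T : Subgroup Ω}

/-- An automorphism of `V` fixing `V ∩ Z` pointwise and moving every element by an element of `Z`. -/
theorem pow_apply_of_fix {V Z : Subgroup Ω} (γ : MulAut V) (h1 : ∀ x : V, (x : Ω) ∈ Z → γ x = x)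
    (h2 : ∀ x : V, (x : Ω)⁻¹ * (γ x : V) ∈ Z) (n : ℕ) (x : V) :
    (γ ^ n) x = x * (x⁻¹ * γ x) ^ n := by
  induction n with
  | zero => simp
  | succ n ih =>
    rw [pow_succ', MulAut.mul_apply, ih, map_mul, map_pow, h1 (x⁻¹ * γ x) (h2 x), pow_succ',
      ← mul_assoc, mul_inv_cancel_left]

theorem pow_eq_one_of_fix {V Z : Subgroup Ω} (γ : MulAut V) (h1 : ∀ x : V, (x : Ω) ∈ Z → γ x = x)
    (h2 : ∀ x : V, (x : Ω)⁻¹ * (γ x : V) ∈ Z) {n : ℕ} (hn : ∀ x : V, x ^ n = 1) : γ ^ n = 1 := by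
  ext x
  rw [pow_apply_of_fix γ h1 h2, hn]
  simp

/-- The automorphisms in `F` of `V` that are trivial on `V ∩ Z` and on `V / V ∩ Z`. -/
def autCT (F : FusionSystem S) (Z V : Subgroup Ω) : Subgroup (MulAut V) where
  carrier := {γ | γ ∈ F.autGroup V ∧ (∀ x : V, (x : Ω) ∈ Z → γ x = x) ∧
    ∀ x : V, (x : Ω)⁻¹ * (γ x : V) ∈ Z}
  mul_mem' := by
    rintro γ δ ⟨h0, h1, h2⟩ ⟨k0, k1, k2⟩
    refine ⟨Subgroup.mul_mem _ h0 k0, fun x hx => ?_, fun x => ?_⟩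
    · rw [MulAut.mul_apply, k1 x hx, h1 x hx]
    · have hz := h1 (x⁻¹ * δ x) (k2 x)
      have h3 : δ x = x * (x⁻¹ * δ x) := by group
      have h4 : (γ * δ) x = γ x * (x⁻¹ * δ x) := by
        rw [MulAut.mul_apply]
        conv_lhs => rw [h3]
        rw [map_mul, hz]
      rw [h4]
      have h5 : (x : Ω)⁻¹ * ((γ x * (x⁻¹ * δ x) : V) : Ω) =
          ((x : Ω)⁻¹ * (γ x : V)) * ((x : Ω)⁻¹ * (δ x : V)) := by
        push_cast
        group
      rw [h5]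
      exact Z.mul_mem (h2 x) (k2 x)
  one_mem' := by
    refine ⟨Subgroup.one_mem _, fun x _ => rfl, fun x => ?_⟩
    rw [MulAut.one_apply, inv_mul_cancel]
    exact Z.one_mem
  inv_mem' := by
    rintro γ ⟨h0, h1, h2⟩
    refine ⟨Subgroup.inv_mem _ h0, fun x hx => ?_, fun x => ?_⟩
    · conv_lhs => rw [← h1 x hx]
      exact MulAut.inv_apply_self _ γ x
    · have h3 := h2 (γ⁻¹ x)
      rw [MulAut.apply_inv_self] at h3
      have h4 : (x : Ω)⁻¹ * ((γ⁻¹ x : V) : Ω) = (((γ⁻¹ x : V) : Ω)⁻¹ * (x : Ω))⁻¹ := by group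
      rw [h4]
      exact Z.inv_mem h3

theorem autCT_le (F : FusionSystem S) (Z V : Subgroup Ω) : autCT F Z V ≤ F.autGroup V :=
  fun _ h => h.1

theorem autCT_isPGroup [Finite S] {p : ℕ} [Fact p.Prime] (hS : IsPGroup p S) (F : FusionSystem S)
    (Z : Subgroup Ω) {V : Subgroup Ω} (hV : V ≤ S) : IsPGroup p (autCT F Z V) := by
  have : Finite V := finite_of_le hV
  obtain ⟨k, hk⟩ := IsPGroup.iff_card.1 (hS.to_le hV)
  rintro ⟨γ, -, h1, h2⟩
  refine ⟨k, Subtype.ext ?_⟩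
  show γ ^ (p ^ k) = 1
  exact pow_eq_one_of_fix γ h1 h2 (fun x => by rw [← hk]; exact pow_card_eq_one')

theorem autCT_normal {F : FusionSystem S} (hT : F.StronglyClosed T) {V : Subgroup Ω} (hV : V ≤ S) :
    ∀ δ ∈ F.autGroup V, ∀ γ ∈ autCT F T V, δ * γ * δ⁻¹ ∈ autCT F T V := by
  rintro δ hδ γ ⟨h0, h1, h2⟩
  have hm : ∀ (ε : MulAut V), ε ∈ F.autGroup V → ∀ x : V, (x : Ω) ∈ T → ((ε x : V) : Ω) ∈ T := by
    intro ε hε x hx
    have := StronglyClosed.map_mem hT ((mem_autGroup_iff F hV ε).1 hε) x.2 hx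
    rwa [autFun_coe] at this
  refine ⟨Subgroup.mul_mem _ (Subgroup.mul_mem _ hδ h0) (Subgroup.inv_mem _ hδ), fun x hx => ?_,
    fun x => ?_⟩
  · rw [MulAut.mul_apply, MulAut.mul_apply, h1 _ (hm δ⁻¹ (Subgroup.inv_mem _ hδ) x hx),
      MulAut.apply_inv_self]
  · have h4 : δ ((δ⁻¹ x)⁻¹ * γ (δ⁻¹ x)) = x⁻¹ * (δ * γ * δ⁻¹) x := by
      rw [map_mul, map_inv, MulAut.apply_inv_self]
      rfl
    have h5 : (((δ⁻¹ x : V) : Ω)⁻¹ * ((γ (δ⁻¹ x) : V) : Ω)) = (((δ⁻¹ x)⁻¹ * γ (δ⁻¹ x) : V) : Ω) := by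
      push_cast
      rfl
    have h6 := hm δ hδ ((δ⁻¹ x)⁻¹ * γ (δ⁻¹ x)) (h5 ▸ h2 (δ⁻¹ x))
    rw [h4] at h6
    exact h6

theorem le_normalizerIn_inf {F : FusionSystem S} (hT : F.StronglyClosed T) {U : Subgroup Ω}
    (hU : U ≤ S) : U ≤ normalizerIn S (U ⊓ T) := by
  refine le_inf hU ?_
  rw [Subgroup.le_normalizer_iff]
  exact fun u hu x hx => ⟨U.mul_mem (U.mul_mem hu hx.1) (U.inv_mem hu),
    StronglyClosed.conj_mem hT (hU hu) hx.2⟩

/-- The image of `U ⊓ T` under a map of `F`. -/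
theorem StronglyClosed.iso_inf {F : FusionSystem S} (hT : F.StronglyClosed T) {U V : Subgroup Ω}
    {f : Ω → Ω} (hf : Iso F U V f) : Iso F (U ⊓ T) (V ⊓ T) f := by
  refine ⟨hf.mor.mono inf_le_left, fun y => ⟨?_, ?_⟩⟩
  · rintro ⟨hy, hyT⟩
    obtain ⟨x, hx, rfl⟩ := hf.surj hy
    exact ⟨x, ⟨hx, (StronglyClosed.mem_iff hT hf.mor hx).2 hyT⟩, rfl⟩
  · rintro ⟨x, hx, rfl⟩
    exact ⟨hf.map_mem hx.1, StronglyClosed.map_mem hT hf.mor hx.1 hx.2⟩

/-- If `V` is centric in `F` and `C_T(V ∩ T)` is not contained in `V ∩ T`, then `V` is not radical. -/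
theorem not_OpAut_le_inn_of_centralizer [Finite S] {p : ℕ} [Fact p.Prime] (hS : IsPGroup p S)
    {F : FusionSystem S} (hT : F.StronglyClosed T) {V : Subgroup Ω} (hV : F.IsCentric V)
    (hc : ¬ centralizerIn T (V ⊓ T) ≤ V ⊓ T) : ¬ (OpAut F p V ≤ Inn V) := by
  intro hcon
  obtain ⟨c', hc', hc'V⟩ := SetLike.not_le_iff_exists.1 hc
  set C := centralizerIn T (V ⊓ T) with hC
  have hCS : C ≤ S := inf_le_left.trans hT.1
  have hVN := le_normalizerIn_inf hT hV.1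
  have hnorm : ∀ v ∈ V, ∀ c ∈ C, v * c * v⁻¹ ∈ C := by
    intro v hv c hcC
    obtain ⟨hcT, hcc⟩ := (mem_centralizerIn_iff T _ c).1 hcC
    refine (mem_centralizerIn_iff T _ _).2 ⟨StronglyClosed.conj_mem hT (hV.1 hv) hcT, fun x hx => ?_⟩
    have hx' : v⁻¹ * x * v ∈ V ⊓ T := by
      have := (Subgroup.mem_normalizer_iff.1 (Subgroup.inv_mem _ (hVN hv).2) x).1 hx
      simpa using this
    have h1 := hcc _ hx'
    calc x * (v * c * v⁻¹) = v * ((v⁻¹ * x * v) * c) * v⁻¹ := by group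
      _ = v * (c * (v⁻¹ * x * v)) * v⁻¹ := by rw [h1]
      _ = v * c * v⁻¹ * x := by group
  have hlt : V < V ⊔ C := lt_of_le_of_ne le_sup_left (fun h =>
    hc'V ⟨(sup_eq_left.1 h.symm) hc', hc'.1⟩)
  obtain ⟨g, hg, hgV⟩ := exists_mem_normalizerIn_not_mem hS (sup_le hV.1 hCS) hlt
  obtain ⟨v, hv, c, hcC, rfl⟩ := mem_sup_of_normalizes hnorm hg.1
  have hcV : c ∉ V := fun h => hgV (V.mul_mem hv h)
  have hcN : c ∈ Subgroup.normalizer (V : Set Ω) := by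
    have h1 : c = v⁻¹ * (v * c) := by group
    rw [h1]
    exact Subgroup.mul_mem _ (Subgroup.inv_mem _ (Subgroup.le_normalizer hv)) hg.2
  obtain ⟨hcT, hcc⟩ := (mem_centralizerIn_iff T _ c).1 hcC
  set σ : MulAut V := ((conjToAut S V ⟨c, hCS hcC, hcN⟩ : autInducedBy S V) : MulAut V) with hσ
  have eσ : ∀ x : V, ((σ x : V) : Ω) = c * x * c⁻¹ := fun _ => rfl
  have hσA : σ ∈ autCT F T V := by
    refine ⟨autInducedBy_le_autGroup F hV.1 (Subtype.prop _), fun x hx => Subtype.ext ?_,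
      fun x => ?_⟩
    · rw [eσ, ← hcc x ⟨x.2, hx⟩]
      group
    · rw [eσ]
      have h1 : (x : Ω)⁻¹ * (c * x * c⁻¹) = ((x : Ω)⁻¹ * c * ((x : Ω)⁻¹)⁻¹) * c⁻¹ := by group
      rw [h1]
      exact T.mul_mem (StronglyClosed.conj_mem hT (S.inv_mem (hV.1 x.2)) hcT) (T.inv_mem hcT)
  have hσI := hcon (le_OpAut (autCT_le F T V) (autCT_isPGroup hS F T hV.1)
    (autCT_normal hT hV.1) hσA)
  rw [inn_eq_autInducedBy] at hσI
  obtain ⟨w, hw, ew⟩ := (mem_autInducedBy_iff V V σ).1 hσI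
  have h1 : w⁻¹ * c ∈ centralizerIn S V := by
    refine (mem_centralizerIn_iff S V _).2 ⟨S.mul_mem (S.inv_mem (hV.1 hw)) (hCS hcC),
      fun x hx => ?_⟩
    have h2 := ew ⟨x, hx⟩
    rw [eσ] at h2
    have h3 : c * x = w * x * w⁻¹ * c := by
      calc c * x = c * x * c⁻¹ * c := by group
        _ = w * x * w⁻¹ * c := by rw [h2]
    calc x * (w⁻¹ * c) = w⁻¹ * (w * x * w⁻¹ * c) := by group
      _ = w⁻¹ * (c * x) := by rw [h3]
      _ = w⁻¹ * c * x := by group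
  have h2 := V.mul_mem hw (centric_self hV h1)
  rw [mul_inv_cancel_left] at h2
  exact hcV h2

/-- **Centric radical subgroups of `F` meet `T` in centric subgroups of `E`.** -/
theorem not_OpAut_le_inn_of_not_centric [Finite S] {p : ℕ} [Fact p.Prime] (hS : IsPGroup p S)
    {F : FusionSystem S} (hF : F.IsSaturated p) (hT : F.StronglyClosed T) {E : FusionSystem T}
    (hEF : E.IsSubsystemOf F) {U : Subgroup Ω} (hU : F.IsCentric U)
    (hU₀ : ¬ E.IsCentric (U ⊓ T)) : ¬ (OpAut F p U ≤ Inn U) := by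
  have hex : ∃ W, E.IsConj (U ⊓ T) W ∧ ¬ centralizerIn T W ≤ W := by
    by_contra h
    exact hU₀ ⟨inf_le_right, fun Q hQ => by_contra fun hc => h ⟨Q, hQ, hc⟩⟩
  obtain ⟨W, hW, hcW⟩ := hex
  obtain ⟨c, hc, hcW'⟩ := SetLike.not_le_iff_exists.1 hcW
  have hWF : F.IsConj (U ⊓ T) W := by
    obtain ⟨f, hf⟩ := (isConj_iff E _ W).1 hW
    exact (isConj_iff F _ W).2 ⟨f, hf.mor.of_subsystem hEF, hf.2⟩
  obtain ⟨V₀, hconj, hfn⟩ := exists_fullyNormalized_conj F (inf_le_left.trans hU.1 : U ⊓ T ≤ S)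
  obtain ⟨ρ, hρ, hρV, -⟩ := exists_mor_normalizer_of_fullyNormalized hS hF hfn hconj
  obtain ⟨ρ', hρ', hρ'V, -⟩ := exists_mor_normalizer_of_fullyNormalized hS hF hfn
    (isConj_trans (isConj_symm hWF) hconj)
  have hUN := le_normalizerIn_inf hT hU.1
  have hiso : Iso F U (img U ρ) ρ := (hρ.mono hUN).iso_img
  have hV₀ : img U ρ ⊓ T = V₀ := by
    ext y
    rw [(StronglyClosed.iso_inf hT hiso).2 y, hρV y]
  obtain ⟨hcT, hcc⟩ := (mem_centralizerIn_iff T W c).1 hc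
  have hcN : c ∈ normalizerIn S W :=
    centralizerIn_le_normalizerIn S W ((mem_centralizerIn_iff S W c).2 ⟨hT.1 hcT, hcc⟩)
  have hWN : W ≤ normalizerIn S W := le_normalizerIn (isConj_le' hWF)
  intro hcon
  obtain ⟨ρi, hρi, -, -⟩ := hiso.symm
  refine not_OpAut_le_inn_of_centralizer hS hT (centric_conj hU hiso.isConj) ?_
    (OpAut_le_inn_of_conj hρi hcon)
  rw [hV₀]
  intro hle
  have h1 : ρ' c ∈ centralizerIn T V₀ := by
    have h2 := hρ'.map_mem_centralizerIn hWN hρ'V hcN hcc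
    exact (mem_centralizerIn_iff T V₀ _).2 ⟨StronglyClosed.map_mem hT hρ' hcN hcT,
      ((mem_centralizerIn_iff S V₀ _).1 h2).2⟩
  obtain ⟨w, hw, e⟩ := (hρ'V _).1 (hle h1)
  exact hcW' (hρ'.inj (hWN hw) hcN e ▸ hw)

end Cfsg.Agent.Lib.Helper87
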