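import Cfsg.Agent.Lib.Helper87.LeastNormal2
import Cfsg.Agent.Lib.Helper87.KRad
import Cfsg.Agent.Lib.Helper87.HypAct

set_option autoImplicit false

namespace Cfsg.Agent.Lib.Helper87

open Cfsg Cfsg.FusionSystem

variable {Ω : Type*} [Group Ω] {S T : Subgroup Ω}

/-- `f` on `R` extends in `F` to `R C_S(T)`, moving the elements of `C_S(T)` by elements of `T`. -/
def GoodX (F : FusionSystem S) (T R : Subgroup Ω) (f : Ω → Ω) : Prop :=
  ∃ f', Mor F (R ⊔ centralizerIn S T) f' ∧ (∀ x ∈ R, f' x = f x) ∧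
    ∀ c ∈ centralizerIn S T, c⁻¹ * f' c ∈ T

theorem centric_of_iso_F {F : FusionSystem S} {E : FusionSystem T} (hinv : InvF E F)
    (hfrat : FratF E F) {R Q : Subgroup Ω} (hR : E.IsCentric R) {f : Ω → Ω} (hf : Iso F R Q f) :
    E.IsCentric Q := by
  obtain ⟨a, f₀, ha, hf₀, e⟩ := hfrat R f hR.1 hf.mor
  refine centric_img_of_invF hinv (centric_conj hR hf₀.iso_img.isConj) ha (fun y => ?_)
  rw [hf.2 y]
  constructor
  · rintro ⟨x, hx, rfl⟩
    exact ⟨f₀ x, hf₀.iso_img.map_mem hx, (e x hx).symm⟩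
  · rintro ⟨z, hz, rfl⟩
    obtain ⟨x, hx, rfl⟩ := hf₀.iso_img.surj hz
    exact ⟨x, hx, e x hx⟩

theorem good_diff_mem {F : FusionSystem S} {E : FusionSystem T} (hT : F.StronglyClosed T)
    (hinv : InvF E F) (hfrat : FratF E F) {R : Subgroup Ω} (hR : E.IsCentric R) {f' : Ω → Ω}
    (hf' : Mor F (R ⊔ centralizerIn S T) f') (hg : ∀ c ∈ centralizerIn S T, c⁻¹ * f' c ∈ T)
    {c : Ω} (hc : c ∈ centralizerIn S T) : ∃ x ∈ R, f' x = c⁻¹ * f' c := by
  have hQ : Iso F R (img R f') f' := (hf'.mono le_sup_left).iso_img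
  have hcen := centric_self (centric_of_iso_F hinv hfrat hR hQ)
  refine hQ.surj (hcen ((mem_centralizerIn_iff T _ _).2 ⟨hg c hc, fun y hy => ?_⟩))
  obtain ⟨x, hx, rfl⟩ := hQ.surj hy
  have hxK : x ∈ R ⊔ centralizerIn S T := (le_sup_left : R ≤ _) hx
  have hcK : c ∈ R ⊔ centralizerIn S T := (le_sup_right : _ ≤ R ⊔ centralizerIn S T) hc
  have hcc := ((mem_centralizerIn_iff S T c).1 hc).2
  have h1 : f' x * c = c * f' x := hcc _ (StronglyClosed.map_mem hT hf' hxK (hR.1 hx))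
  have h2 : f' x * f' c = f' c * f' x := by
    rw [← hf'.map_mul hxK hcK, ← hf'.map_mul hcK hxK, hcc x (hR.1 hx)]
  calc f' x * (c⁻¹ * f' c) = c⁻¹ * (c * f' x) * c⁻¹ * f' c := by group
    _ = c⁻¹ * (f' x * c) * c⁻¹ * f' c := by rw [h1]
    _ = c⁻¹ * (f' x * f' c) := by group
    _ = c⁻¹ * (f' c * f' x) := by rw [h2]
    _ = c⁻¹ * f' c * f' x := by group

theorem GoodX.mono {F : FusionSystem S} {R R₀ : Subgroup Ω} {f : Ω → Ω} (h : GoodX F T R f)
    (hle : R₀ ≤ R) : GoodX F T R₀ f := by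
  obtain ⟨f', h1, h2, h3⟩ := h
  exact ⟨f', h1.mono (sup_le_sup_right hle _), fun x hx => h2 x (hle hx), h3⟩

theorem GoodX.congr {F : FusionSystem S} {R : Subgroup Ω} {f g : Ω → Ω} (h : GoodX F T R f)
    (e : ∀ x ∈ R, f x = g x) : GoodX F T R g := by
  obtain ⟨f', h1, h2, h3⟩ := h
  exact ⟨f', h1, fun x hx => (h2 x hx).trans (e x hx), h3⟩

theorem goodX_conj (F : FusionSystem S) (hTS : T ≤ S) {R : Subgroup Ω} (hR : R ≤ T) {g : Ω}
    (hg : g ∈ T) : GoodX F T R (fun x => g * x * g⁻¹) := by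
  refine ⟨fun x => g * x * g⁻¹, mor_conj F (sup_le (hR.trans hTS) (centralizerIn_le S T)) (hTS hg),
    fun _ _ => rfl, fun c hc => ?_⟩
  have h1 := ((mem_centralizerIn_iff S T c).1 hc).2 g hg
  have h2 : c⁻¹ * (g * c * g⁻¹) = 1 := by rw [h1]; group
  rw [h2]
  exact T.one_mem

section

variable {F : FusionSystem S} {E : FusionSystem T} (hT : F.StronglyClosed T) (hinv : InvF E F)
  (hfrat : FratF E F)

include hT hinv hfrat

/-- A good extension is an isomorphism `R C_S(T) → f(R) C_S(T)`. -/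
theorem good_iso {R Q : Subgroup Ω} (hR : E.IsCentric R) {f' : Ω → Ω}
    (hf' : Mor F (R ⊔ centralizerIn S T) f') (hg : ∀ c ∈ centralizerIn S T, c⁻¹ * f' c ∈ T)
    (hQ : ∀ y, y ∈ Q ↔ ∃ x ∈ R, f' x = y) :
    Iso F (R ⊔ centralizerIn S T) (Q ⊔ centralizerIn S T) f' := by
  have hmap : ∀ x ∈ R ⊔ centralizerIn S T, f' x ∈ Q ⊔ centralizerIn S T := by
    refine hf'.map_sup_mem (fun x hx => (le_sup_left : Q ≤ _) ((hQ _).2 ⟨x, hx, rfl⟩))
      (fun c hc => ?_)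
    obtain ⟨x, hx, e⟩ := good_diff_mem hT hinv hfrat hR hf' hg hc
    have h1 : f' c = c * f' x := by rw [e]; group
    rw [h1]
    exact Subgroup.mul_mem _ ((le_sup_right : _ ≤ Q ⊔ centralizerIn S T) hc)
      ((le_sup_left : Q ≤ _) ((hQ _).2 ⟨x, hx, rfl⟩))
  refine ⟨hf', fun y => ⟨fun hy => ?_, ?_⟩⟩
  · have hle : Q ⊔ centralizerIn S T ≤ img (R ⊔ centralizerIn S T) f' := by
      refine sup_le (fun z hz => ?_) (fun c hc => ?_)
      · obtain ⟨x, hx, rfl⟩ := (hQ z).1 hz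
        exact hf'.iso_img.map_mem ((le_sup_left : R ≤ _) hx)
      · obtain ⟨x, hx, e⟩ := good_diff_mem hT hinv hfrat hR hf' hg hc
        have h1 : c = f' c * (f' x)⁻¹ := by rw [e]; group
        rw [h1]
        exact Subgroup.mul_mem _
          (hf'.iso_img.map_mem ((le_sup_right : _ ≤ R ⊔ centralizerIn S T) hc))
          (Subgroup.inv_mem _ (hf'.iso_img.map_mem ((le_sup_left : R ≤ _) hx)))
    exact hf'.iso_img.surj (hle hy)
  · rintro ⟨x, hx, rfl⟩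
    exact hmap x hx

theorem GoodX.comp {R Q : Subgroup Ω} {f g : Ω → Ω} (hR : E.IsCentric R) (hf : GoodX F T R f)
    (hg : GoodX F T Q g) (hQT : Q ≤ T) (hRQ : ∀ x ∈ R, f x ∈ Q) : GoodX F T R (g ∘ f) := by
  obtain ⟨f', h1, h2, h3⟩ := hf
  obtain ⟨g', k1, k2, k3⟩ := hg
  have hmap : ∀ x ∈ R ⊔ centralizerIn S T, f' x ∈ Q ⊔ centralizerIn S T := by
    refine h1.map_sup_mem (fun x hx => (le_sup_left : Q ≤ _) (by rw [h2 x hx]; exact hRQ x hx))
      (fun c hc => ?_)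
    obtain ⟨x, hx, e⟩ := good_diff_mem hT hinv hfrat hR h1 h3 hc
    have h4 : f' c = c * f' x := by rw [e]; group
    rw [h4]
    exact Subgroup.mul_mem _ ((le_sup_right : _ ≤ Q ⊔ centralizerIn S T) hc)
      ((le_sup_left : Q ≤ _) (by rw [h2 x hx]; exact hRQ x hx))
  refine ⟨g' ∘ f', h1.comp k1 hmap, fun x hx => ?_, fun c hc => ?_⟩
  · show g' (f' x) = g (f x)
    rw [h2 x hx, k2 _ (hRQ x hx)]
  · obtain ⟨x, hx, e⟩ := good_diff_mem hT hinv hfrat hR h1 h3 hc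
    have h4 : f' c = c * f' x := by rw [e]; group
    have hfx : f' x ∈ Q := by rw [h2 x hx]; exact hRQ x hx
    show c⁻¹ * g' (f' c) ∈ T
    rw [h4, k1.map_mul ((le_sup_right : _ ≤ Q ⊔ centralizerIn S T) hc)
      ((le_sup_left : Q ≤ _) hfx), ← mul_assoc]
    exact T.mul_mem (k3 c hc)
      (StronglyClosed.map_mem hT k1 ((le_sup_left : Q ≤ _) hfx) (hQT hfx))

theorem GoodX.inv {R Q : Subgroup Ω} {f g : Ω → Ω} (hR : E.IsCentric R) (hf : GoodX F T R f)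
    (hQ : ∀ y, y ∈ Q ↔ ∃ x ∈ R, f x = y) (hgf : ∀ x ∈ R, g (f x) = x) : GoodX F T Q g := by
  obtain ⟨f', h1, h2, h3⟩ := hf
  have hQ' : ∀ y, y ∈ Q ↔ ∃ x ∈ R, f' x = y := by
    intro y
    rw [hQ y]
    constructor
    · rintro ⟨x, hx, rfl⟩
      exact ⟨x, hx, h2 x hx⟩
    · rintro ⟨x, hx, rfl⟩
      exact ⟨x, hx, (h2 x hx).symm⟩
  have hiso := good_iso hT hinv hfrat hR h1 h3 hQ'
  obtain ⟨g', hg', hg'f, -⟩ := hiso.symm
  refine ⟨g', hg'.mor, fun y hy => ?_, fun c hc => ?_⟩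
  · obtain ⟨x, hx, rfl⟩ := (hQ y).1 hy
    rw [hgf x hx, ← h2 x hx, hg'f x ((le_sup_left : R ≤ _) hx)]
  · obtain ⟨x, hx, e⟩ := good_diff_mem hT hinv hfrat hR h1 h3 hc
    have hxK : x ∈ R ⊔ centralizerIn S T := (le_sup_left : R ≤ _) hx
    have hcK : c ∈ R ⊔ centralizerIn S T := (le_sup_right : _ ≤ R ⊔ centralizerIn S T) hc
    have h4 : c = f' (c * x⁻¹) := by
      rw [h1.map_mul hcK (Subgroup.inv_mem _ hxK), h1.map_inv hxK, e]
      group
    have h5 : g' c = c * x⁻¹ := by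
      conv_lhs => rw [h4]
      exact hg'f _ (Subgroup.mul_mem _ hcK (Subgroup.inv_mem _ hxK))
    rw [h5, inv_mul_cancel_left]
    exact T.inv_mem (hR.1 hx)

/-- The subsystem of `E` of the maps that are good on centric subgroups. -/
def goodSystem : FusionSystem T :=
  mkSystem T (fun R f => Mor E R f ∧ (E.IsCentric R → GoodX F T R f))
    (fun hf e => ⟨hf.1.congr e, fun hR => (hf.2 hR).congr e⟩)
    (fun hf => hf.1.le)
    (fun hf _ hx => hf.1.mem hx)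
    (fun hf _ hx _ hy hxy => hf.1.inj hx hy hxy)
    (fun hP hg => ⟨mor_conj E hP hg, fun _ => goodX_conj F hT.1 hP hg⟩)
    (by
      intro P Q f g hf hg hPQ
      refine ⟨hf.1.comp hg.1 hPQ, fun hP => ?_⟩
      have hQc : E.IsCentric Q := by
        refine centric_of_le (centric_conj hP hf.1.iso_img.isConj) (fun y hy => ?_) hg.1.le
        obtain ⟨x, hx, rfl⟩ := hf.1.iso_img.surj hy
        exact hPQ x hx
      exact GoodX.comp hT hinv hfrat hP (hf.2 hP) (hg.2 hQc) hg.1.le hPQ)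
    (by
      intro P Q f hf _ hQ
      have hiso : Iso E P Q f := ⟨hf.1, hQ⟩
      obtain ⟨g, hg, hgf, -⟩ := hiso.symm
      refine ⟨g, ⟨hg.mor, fun hQc => ?_⟩, hgf⟩
      have hPc : E.IsCentric P := centric_conj hQc hg.isConj
      exact GoodX.inv hT hinv hfrat hPc (hf.2 hPc) hQ hgf)

theorem mor_goodSystem_iff (R : Subgroup Ω) (f : Ω → Ω) :
    Mor (goodSystem hT hinv hfrat) R f ↔ Mor E R f ∧ (E.IsCentric R → GoodX F T R f) :=
  mor_mkSystem_iff T _ _ _ _ _ _ _ _ (fun hf _ hx _ hy => hf.1.map_mul hx hy) R f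

end

end Cfsg.Agent.Lib.Helper87
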