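import Cfsg.Agent.Lib.Helper87.Craven2
import Cfsg.Agent.Lib.Helper87.NormalCrit

set_option autoImplicit false

namespace Cfsg.Agent.Lib.Helper87

open Cfsg Cfsg.FusionSystem

variable {Ω : Type*} [Group Ω] {S T : Subgroup Ω}

theorem autFun_congr {F : FusionSystem S} {P Q : Subgroup Ω} {f : Ω → Ω} (h : Iso F P Q f)
    (σ : MulAut P) {x : Ω} (hx : x ∈ P) :
    autFun (MulAut.congr h.toMulEquiv σ) (f x) = f (autFun σ x) := by
  rw [autFun_apply _ (h.map_mem hx), autFun_apply σ hx]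
  have h1 : (⟨f x, h.map_mem hx⟩ : Q) = h.toMulEquiv ⟨x, hx⟩ := rfl
  rw [h1]
  show ((h.toMulEquiv (σ (h.toMulEquiv.symm (h.toMulEquiv ⟨x, hx⟩))) : Q) : Ω) = _
  rw [MulEquiv.symm_apply_apply, h.toMulEquiv_apply]

theorem mem_of_mem_sup_centralizer {E : FusionSystem T} {P : Subgroup Ω} (hP : E.IsCentric P)
    {x : Ω} (hx : x ∈ P ⊔ centralizerIn S T) (hxT : x ∈ T) : x ∈ P := by
  have hKc : ∀ c ∈ centralizerIn S T, ∀ t ∈ T, t * c = c * t :=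
    fun c hc => ((mem_centralizerIn_iff S T c).1 hc).2
  obtain ⟨a, ha, c, hc, rfl⟩ := mem_sup_of_normalizes (A := P) (B := centralizerIn S T)
    (fun a ha b hb => by
      rw [hKc b hb a (hP.1 ha), mul_inv_cancel_right]
      exact hb) hx
  have hcT : c ∈ T := by
    have := T.mul_mem (T.inv_mem (hP.1 ha)) hxT
    rwa [inv_mul_cancel_left] at this
  exact P.mul_mem ha (centric_self hP ((mem_centralizerIn_iff T P c).2
    ⟨hcT, fun y hy => hKc c hc y (hP.1 hy)⟩))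

section

variable [Finite S] {p : ℕ} [Fact p.Prime] (hS : IsPGroup p S) {F : FusionSystem S}
  (hF : F.IsSaturated p) {E : FusionSystem T} (hT : F.StronglyClosed T) (hinv : InvF E F)
  (hfrat : FratF E F)

include hS hT in
/-- The commutator of `θ` (trivial on `P`) with conjugation by `g ∈ N_T(P)` lies in `O_p(Aut_F(P C_S(T)))`. -/
theorem comm_mem_OpAut {P : Subgroup Ω} (hP : E.IsCentric P)
    {θ : MulAut (P ⊔ centralizerIn S T : Subgroup Ω)}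
    (hθ : θ ∈ F.autGroup (P ⊔ centralizerIn S T)) (hfix : ∀ x ∈ P, autFun θ x = x)
    {κ : MulAut (P ⊔ centralizerIn S T : Subgroup Ω)} {g : Ω} (hg : g ∈ normalizerIn T P)
    (hκF : κ ∈ F.autGroup (P ⊔ centralizerIn S T))
    (eκ : ∀ x : (P ⊔ centralizerIn S T : Subgroup Ω),
      ((κ x : (P ⊔ centralizerIn S T : Subgroup Ω)) : Ω) = g * x * g⁻¹) :
    θ * κ * θ⁻¹ * κ⁻¹ ∈ OpAut F p (P ⊔ centralizerIn S T) := by
  have hQS : (P ⊔ centralizerIn S T : Subgroup Ω) ≤ S := sup_le (hP.1.trans hT.1) (centralizerIn_le S T)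
  have hfix' : ∀ x : (P ⊔ centralizerIn S T : Subgroup Ω), (x : Ω) ∈ P → θ x = x := by
    intro x hx
    apply Subtype.ext
    rw [← autFun_coe]
    exact hfix x hx
  have hfixinv : ∀ x : (P ⊔ centralizerIn S T : Subgroup Ω), (x : Ω) ∈ P → θ⁻¹ x = x := by
    intro x hx
    conv_lhs => rw [← hfix' x hx]
    exact MulAut.inv_apply_self _ θ x
  have eκi : ∀ x : (P ⊔ centralizerIn S T : Subgroup Ω), ((κ⁻¹ x : (P ⊔ centralizerIn S T : Subgroup Ω)) : Ω) = g⁻¹ * x * g := by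
    intro x
    have h1 := eκ (κ⁻¹ x)
    rw [MulAut.apply_inv_self] at h1
    rw [h1]
    group
  have hmT : ∀ x : (P ⊔ centralizerIn S T : Subgroup Ω), (x : Ω) ∈ T → ((θ x : (P ⊔ centralizerIn S T : Subgroup Ω)) : Ω) ∈ T := by
    intro x hx
    have := StronglyClosed.map_mem hT ((mem_autGroup_iff F hQS θ).1 hθ) x.2 hx
    rwa [autFun_coe] at this
  refine le_OpAut (autCT_le F T (P ⊔ centralizerIn S T : Subgroup Ω)) (autCT_isPGroup hS F T hQS) (autCT_normal hT hQS) ⟨?_, ?_, ?_⟩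
  · exact Subgroup.mul_mem _ (Subgroup.mul_mem _ (Subgroup.mul_mem _ hθ hκF)
      (Subgroup.inv_mem _ hθ)) (Subgroup.inv_mem _ hκF)
  · intro x hxT
    have hxP : (x : Ω) ∈ P := mem_of_mem_sup_centralizer hP x.2 hxT
    have hyP : ((κ⁻¹ x : (P ⊔ centralizerIn S T : Subgroup Ω)) : Ω) ∈ P := by
      rw [eκi]
      have := (Subgroup.mem_normalizer_iff.1 (Subgroup.inv_mem _ hg.2) x).1 hxP
      simpa using this
    show θ (κ (θ⁻¹ (κ⁻¹ x))) = x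
    rw [hfixinv _ hyP, MulAut.apply_inv_self, hfix' x hxP]
  · intro x
    show (x : Ω)⁻¹ * ((θ (κ (θ⁻¹ (κ⁻¹ x))) : (P ⊔ centralizerIn S T : Subgroup Ω)) : Ω) ∈ T
    set w : (P ⊔ centralizerIn S T : Subgroup Ω) := θ⁻¹ (κ⁻¹ x) with hw
    have h1 : κ w = w * (w⁻¹ * κ w) := by group
    have h2 : ((w⁻¹ * κ w : (P ⊔ centralizerIn S T : Subgroup Ω)) : Ω) ∈ T := by
      have h3 : ((w⁻¹ * κ w : (P ⊔ centralizerIn S T : Subgroup Ω)) : Ω) = ((w : Ω)⁻¹ * g * ((w : Ω)⁻¹)⁻¹) * g⁻¹ := by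
        push_cast
        rw [eκ]
        group
      rw [h3]
      exact T.mul_mem (StronglyClosed.conj_mem hT (S.inv_mem (hQS w.2)) hg.1) (T.inv_mem hg.1)
    have h4 : θ w = κ⁻¹ x := MulAut.apply_inv_self _ θ _
    rw [h1, map_mul, h4]
    have h5 : (x : Ω)⁻¹ * ((κ⁻¹ x * θ (w⁻¹ * κ w) : (P ⊔ centralizerIn S T : Subgroup Ω)) : Ω) =
        (((x : Ω)⁻¹ * g⁻¹ * ((x : Ω)⁻¹)⁻¹) * g) * ((θ (w⁻¹ * κ w) : (P ⊔ centralizerIn S T : Subgroup Ω)) : Ω) := by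
      push_cast
      rw [eκi]
      group
    rw [h5]
    exact T.mul_mem (T.mul_mem (StronglyClosed.conj_mem hT (S.inv_mem (hQS x.2)) (T.inv_mem hg.1))
      hg.1) (hmT _ h2)

include hS hF hT hinv hfrat in
/-- One step of the extension: from `P C_S(T)` to `N_T(P) C_S(T)`. -/
theorem extend_fix_raw {P : Subgroup Ω} (hP : E.IsCentric P)
    {θ : MulAut (P ⊔ centralizerIn S T : Subgroup Ω)}
    (hθ : θ ∈ F.autGroup (P ⊔ centralizerIn S T)) (hfix : ∀ x ∈ P, autFun θ x = x) :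
    ∃ k, Iso F (normalizerIn T P ⊔ centralizerIn S T) (normalizerIn T P ⊔ centralizerIn S T) k ∧
      (∀ x ∈ P ⊔ centralizerIn S T, k x = autFun θ x) ∧
      ∀ g ∈ normalizerIn T P, ∃ w ∈ P, k g = g * w := by
  have hQS : (P ⊔ centralizerIn S T : Subgroup Ω) ≤ S := sup_le (hP.1.trans hT.1) (centralizerIn_le S T)
  have hKc : ∀ c ∈ centralizerIn S T, ∀ t ∈ T, t * c = c * t :=
    fun c hc => ((mem_centralizerIn_iff S T c).1 hc).2
  have hconjP : ∀ g ∈ normalizerIn T P, ∀ x ∈ P, g * x * g⁻¹ ∈ P :=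
    fun g hg x hx => (Subgroup.mem_normalizer_iff.1 hg.2 x).1 hx
  have hconjQ : ∀ g ∈ normalizerIn T P, ∀ y ∈ (P ⊔ centralizerIn S T : Subgroup Ω), g * y * g⁻¹ ∈ (P ⊔ centralizerIn S T : Subgroup Ω) := by
    intro g hg
    refine (mor_conj F hQS (hT.1 hg.1)).map_sup_mem
      (fun x hx => (le_sup_left : P ≤ (P ⊔ centralizerIn S T : Subgroup Ω)) (hconjP g hg x hx)) (fun c hc => ?_)
    rw [hKc c hc g hg.1, mul_inv_cancel_right]
    exact (le_sup_right : _ ≤ (P ⊔ centralizerIn S T : Subgroup Ω)) hc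
  have hP₁N : normalizerIn T P ≤ normalizerIn S (P ⊔ centralizerIn S T : Subgroup Ω) :=
    fun g hg => ⟨hT.1 hg.1, le_normalizer_of_conj_mem hconjQ hg⟩
  have hQN : (P ⊔ centralizerIn S T : Subgroup Ω) ≤ normalizerIn S (P ⊔ centralizerIn S T : Subgroup Ω) := le_normalizerIn hQS
  have hQ₁N : (normalizerIn T P ⊔ centralizerIn S T : Subgroup Ω) ≤ normalizerIn S (P ⊔ centralizerIn S T : Subgroup Ω) := sup_le hP₁N (le_sup_right.trans hQN)
  have hQQ₁ : (P ⊔ centralizerIn S T : Subgroup Ω) ≤ (normalizerIn T P ⊔ centralizerIn S T : Subgroup Ω) := sup_le_sup_right (le_normalizerIn hP.1) _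
  have hθm := (mem_autGroup_iff F hQS θ).1 hθ
  obtain ⟨Y, hQY, hY⟩ := exists_fullyNormalized_conj F hQS
  obtain ⟨ρ, hρ, hρQ, -⟩ := exists_mor_normalizer_of_fullyNormalized hS hF hY hQY
  have hiso : Iso F (P ⊔ centralizerIn S T : Subgroup Ω) Y ρ := ⟨hρ.mono hQN, hρQ⟩
  have hOS : OpAut F p Y ≤ autInducedBy S Y :=
    normal_pSubgroup_le_autS (fullyNormalized_fullyAutomized hS hF hY) (OpAut_le F p Y)
      (OpAut_normal F p Y) (OpAut_isPGroup F p Y)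
  set θ' := MulAut.congr hiso.toMulEquiv θ with hθ'
  have hθ'F : θ' ∈ F.autGroup Y := hiso.congr_mem_autGroup hθ
  have eθ' : ∀ x ∈ (P ⊔ centralizerIn S T : Subgroup Ω), autFun θ' (ρ x) = ρ (autFun θ x) := fun x hx => autFun_congr hiso θ hx
  have key : ∀ g ∈ normalizerIn T P, ∃ s ∈ S, ∀ x ∈ (P ⊔ centralizerIn S T : Subgroup Ω),
      ρ (autFun θ (g * x * g⁻¹)) = s * ρ (g * autFun θ x * g⁻¹) * s⁻¹ := by
    intro g hg
    set κ : MulAut (P ⊔ centralizerIn S T : Subgroup Ω) := ((conjToAut S (P ⊔ centralizerIn S T : Subgroup Ω) ⟨g, (hP₁N hg).1, (hP₁N hg).2⟩ : autInducedBy S (P ⊔ centralizerIn S T : Subgroup Ω)) :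
      MulAut (P ⊔ centralizerIn S T : Subgroup Ω)) with hκ
    have eκ : ∀ x : (P ⊔ centralizerIn S T : Subgroup Ω), ((κ x : (P ⊔ centralizerIn S T : Subgroup Ω)) : Ω) = g * x * g⁻¹ := fun _ => rfl
    have hκF : κ ∈ F.autGroup (P ⊔ centralizerIn S T : Subgroup Ω) := autInducedBy_le_autGroup F hQS (Subtype.prop _)
    have hξ := comm_mem_OpAut hS hT hP hθ hfix hg hκF eκ
    obtain ⟨s, hs, es⟩ := (mem_autInducedBy_iff S Y _).1 (hOS (hiso.congr_mem_OpAut hξ))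
    refine ⟨s, hs, fun x hx => ?_⟩
    have hz : g * autFun θ x * g⁻¹ ∈ (P ⊔ centralizerIn S T : Subgroup Ω) := hconjQ g hg _ (autFun_mem θ hx)
    have h1 := es ⟨ρ (g * autFun θ x * g⁻¹), hiso.map_mem hz⟩
    rw [← autFun_coe, autFun_congr hiso _ hz] at h1
    rw [← h1]
    congr 1
    rw [autFun_apply _ hz, autFun_apply θ (hconjQ g hg x hx)]
    have h2 : (⟨g * autFun θ x * g⁻¹, hz⟩ : (P ⊔ centralizerIn S T : Subgroup Ω)) = κ (θ ⟨x, hx⟩) := by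
      apply Subtype.ext
      rw [eκ, ← autFun_apply θ hx]
    have h3 : (⟨g * x * g⁻¹, hconjQ g hg x hx⟩ : (P ⊔ centralizerIn S T : Subgroup Ω)) = κ ⟨x, hx⟩ := Subtype.ext (eκ ⟨x, hx⟩).symm
    rw [h2, h3]
    simp [MulAut.mul_apply]
  -- the extension
  have hρP₁ := (hρ.mono hP₁N).iso_img
  set N := img (normalizerIn T P) ρ with hN
  have hconjρ : ∀ g ∈ normalizerIn T P, ∀ x ∈ (P ⊔ centralizerIn S T : Subgroup Ω), ρ g * ρ x * (ρ g)⁻¹ = ρ (g * x * g⁻¹) :=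
    fun g hg x hx => (hρ.map_conj (hP₁N hg) (hQN hx)).symm
  obtain ⟨t₁, ht₁, ht₁Q⟩ := receptive_extend (fullyNormalized_receptive hS hF hY)
    (iso_autFun ((mem_autGroup_iff F hY.1 θ').1 hθ'F)) N hρP₁.le'
    (le_normalizer_of_conj_mem (fun n hn y hy => by
      obtain ⟨g, hg, rfl⟩ := hρP₁.surj hn
      obtain ⟨x, hx, rfl⟩ := hiso.surj hy
      rw [hconjρ g hg x hx]
      exact hiso.map_mem (hconjQ g hg x hx)))
    (fun n hn => by
      obtain ⟨g, hg, rfl⟩ := hρP₁.surj hn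
      obtain ⟨s, hs, es⟩ := key g hg
      refine ⟨s * ρ g, S.mul_mem hs (hρP₁.le' (hρP₁.map_mem hg)), fun y hy => ?_⟩
      obtain ⟨x, hx, rfl⟩ := hiso.surj hy
      rw [hconjρ g hg x hx, eθ' _ (hconjQ g hg x hx), es x hx, eθ' x hx,
        ← hconjρ g hg _ (autFun_mem θ hx)]
      group)
  have hmapQ₁ : ∀ x ∈ (normalizerIn T P ⊔ centralizerIn S T : Subgroup Ω), ρ x ∈ Y ⊔ N :=
    (hρ.mono hQ₁N).map_sup_mem (fun g hg => (le_sup_right : N ≤ Y ⊔ N) (hρP₁.map_mem hg))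
      (fun c hc => (le_sup_left : Y ≤ Y ⊔ N) (hiso.map_mem ((le_sup_right : _ ≤ (P ⊔ centralizerIn S T : Subgroup Ω)) hc)))
  have hl : Mor F (normalizerIn T P ⊔ centralizerIn S T : Subgroup Ω) (t₁ ∘ ρ) := (hρ.mono hQ₁N).comp ht₁ hmapQ₁
  have hW := (hρ.mono hQ₁N).iso_img
  set W := img (normalizerIn T P ⊔ centralizerIn S T : Subgroup Ω) ρ with hWdef
  have hlQ : ∀ x ∈ (P ⊔ centralizerIn S T : Subgroup Ω), t₁ (ρ x) = ρ (autFun θ x) := by
    intro x hx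
    rw [ht₁Q _ (hiso.map_mem hx), eθ' x hx]
  have hPc : E.IsCentric (img P ρ) :=
    centric_of_iso_F hinv hfrat hP (hρ.mono ((le_sup_left : P ≤ (P ⊔ centralizerIn S T : Subgroup Ω)).trans hQN)).iso_img
  have hρP := (hρ.mono ((le_sup_left : P ≤ (P ⊔ centralizerIn S T : Subgroup Ω)).trans hQN)).iso_img
  have hlg : ∀ g ∈ normalizerIn T P, ∃ w ∈ P, t₁ (ρ g) = ρ (g * w) := by
    intro g hg
    have hnN : ρ g ∈ Y ⊔ N := (le_sup_right : N ≤ Y ⊔ N) (hρP₁.map_mem hg)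
    have hnT : ρ g ∈ T := StronglyClosed.map_mem hT hρ (hP₁N hg) hg.1
    have h1 : (ρ g)⁻¹ * t₁ (ρ g) ∈ centralizerIn T (img P ρ) := by
      refine (mem_centralizerIn_iff T _ _).2
        ⟨T.mul_mem (T.inv_mem hnT) (StronglyClosed.map_mem hT ht₁ hnN hnT), fun y hy => ?_⟩
      obtain ⟨x, hx, rfl⟩ := hρP.surj hy
      have hxQ : x ∈ (P ⊔ centralizerIn S T : Subgroup Ω) := (le_sup_left : P ≤ (P ⊔ centralizerIn S T : Subgroup Ω)) hx
      have hyN : ρ x ∈ Y ⊔ N := (le_sup_left : Y ≤ Y ⊔ N) (hiso.map_mem hxQ)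
      have h2 : t₁ (ρ x) = ρ x := by rw [hlQ x hxQ, hfix x hx]
      have h3 : t₁ (ρ g * ρ x * (ρ g)⁻¹) = ρ g * ρ x * (ρ g)⁻¹ := by
        rw [hconjρ g hg x hxQ, hlQ _ (hconjQ g hg x hxQ), hfix _ (hconjP g hg x hx)]
      rw [ht₁.map_conj hnN hyN, h2] at h3
      calc ρ x * ((ρ g)⁻¹ * t₁ (ρ g)) = (ρ g)⁻¹ * (ρ g * ρ x * (ρ g)⁻¹) * t₁ (ρ g) := by group
        _ = (ρ g)⁻¹ * (t₁ (ρ g) * ρ x * (t₁ (ρ g))⁻¹) * t₁ (ρ g) := by rw [h3]
        _ = (ρ g)⁻¹ * t₁ (ρ g) * ρ x := by group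
    obtain ⟨w, hw, e⟩ := hρP.surj (centric_self hPc h1)
    refine ⟨w, hw, ?_⟩
    rw [hρ.map_mul (hP₁N hg) (hQN ((le_sup_left : P ≤ (P ⊔ centralizerIn S T : Subgroup Ω)) hw)), e]
    group
  have hP₁Q₁ : normalizerIn T P ≤ (normalizerIn T P ⊔ centralizerIn S T : Subgroup Ω) := le_sup_left
  have hPQ₁ : P ≤ (normalizerIn T P ⊔ centralizerIn S T : Subgroup Ω) := (le_sup_left : P ≤ (P ⊔ centralizerIn S T : Subgroup Ω)).trans hQQ₁
  have hmapW : ∀ x ∈ (normalizerIn T P ⊔ centralizerIn S T : Subgroup Ω), (t₁ ∘ ρ) x ∈ W := by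
    refine hl.map_sup_mem (fun g hg => ?_) (fun c hc => ?_)
    · obtain ⟨w, hw, e⟩ := hlg g hg
      show t₁ (ρ g) ∈ W
      rw [e]
      exact hW.map_mem ((normalizerIn T P ⊔ centralizerIn S T : Subgroup Ω).mul_mem (hP₁Q₁ hg) (hPQ₁ hw))
    · show t₁ (ρ c) ∈ W
      rw [hlQ c ((le_sup_right : _ ≤ (P ⊔ centralizerIn S T : Subgroup Ω)) hc)]
      exact hW.map_mem (hQQ₁ (autFun_mem θ ((le_sup_right : _ ≤ (P ⊔ centralizerIn S T : Subgroup Ω)) hc)))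
  obtain ⟨ν, hν, hνρ, -⟩ := hW.symm
  have hk : Mor F (normalizerIn T P ⊔ centralizerIn S T : Subgroup Ω) (ν ∘ (t₁ ∘ ρ)) := hl.comp hν.mor hmapW
  have : Finite (normalizerIn T P ⊔ centralizerIn S T : Subgroup Ω) := finite_of_le hk.le
  refine ⟨ν ∘ (t₁ ∘ ρ), hk.iso_self (fun x hx => hν.map_mem (hmapW x hx)), fun x hx => ?_,
    fun g hg => ?_⟩
  · show ν (t₁ (ρ x)) = _
    rw [hlQ x hx, hνρ _ (hQQ₁ (autFun_mem θ hx))]
  · obtain ⟨w, hw, e⟩ := hlg g hg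
    refine ⟨w, hw, ?_⟩
    show ν (t₁ (ρ g)) = _
    rw [e, hνρ _ ((normalizerIn T P ⊔ centralizerIn S T : Subgroup Ω).mul_mem (hP₁Q₁ hg) (hPQ₁ hw))]

end

end Cfsg.Agent.Lib.Helper87
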