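import Cfsg.Agent.Lib.Helper87.Craven3

set_option autoImplicit false

namespace Cfsg.Agent.Lib.Helper87

open Cfsg Cfsg.FusionSystem

variable {Ω : Type*} [Group Ω] {S T : Subgroup Ω}

theorem autFun_pow_agree {P Q : Subgroup Ω} (hPQ : P ≤ Q) {α : MulAut P} {β : MulAut Q}
    (h : ∀ x ∈ P, autFun β x = autFun α x) (n : ℕ) :
    ∀ x ∈ P, autFun (β ^ n) x = autFun (α ^ n) x := by
  induction n with
  | zero =>
    intro x hx
    rw [pow_zero, pow_zero, autFun_one (hPQ hx), autFun_one hx]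
  | succ n ih =>
    intro x hx
    rw [pow_succ', pow_succ', autFun_mul _ _ (hPQ hx), ih x hx, h _ (autFun_mem (α ^ n) hx),
      ← autFun_mul _ _ hx]

theorem agree_mod_sup {F : FusionSystem S} (hT : F.StronglyClosed T) {A B : Subgroup Ω}
    {f g : Ω → Ω} (hf : Mor F (A ⊔ B) f) (hg : Mor F (A ⊔ B) g)
    (hA : ∀ x ∈ A, (f x)⁻¹ * g x ∈ T) (hB : ∀ x ∈ B, (f x)⁻¹ * g x ∈ T) :
    ∀ x ∈ A ⊔ B, (f x)⁻¹ * g x ∈ T := by
  let H : Subgroup Ω :=
    { carrier := {x | x ∈ A ⊔ B ∧ (f x)⁻¹ * g x ∈ T}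
      mul_mem' := by
        rintro x y ⟨hx, hx'⟩ ⟨hy, hy'⟩
        refine ⟨Subgroup.mul_mem _ hx hy, ?_⟩
        rw [hf.map_mul hx hy, hg.map_mul hx hy]
        have h1 : (f x * f y)⁻¹ * (g x * g y) =
            ((f y)⁻¹ * ((f x)⁻¹ * g x) * ((f y)⁻¹)⁻¹) * ((f y)⁻¹ * g y) := by group
        rw [h1]
        exact T.mul_mem (StronglyClosed.conj_mem hT (S.inv_mem (hf.mem hy)) hx') hy'
      one_mem' := by
        refine ⟨Subgroup.one_mem _, ?_⟩
        rw [hf.map_one, hg.map_one]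
        simp
      inv_mem' := by
        rintro x ⟨hx, hx'⟩
        refine ⟨Subgroup.inv_mem _ hx, ?_⟩
        rw [hf.map_inv hx, hg.map_inv hx]
        have h1 : ((f x)⁻¹)⁻¹ * (g x)⁻¹ = f x * ((f x)⁻¹ * g x)⁻¹ * (f x)⁻¹ := by group
        rw [h1]
        exact StronglyClosed.conj_mem hT (hf.mem hx) (T.inv_mem hx') }
  have hle : A ⊔ B ≤ H := sup_le (fun x hx => ⟨(le_sup_left : A ≤ _) hx, hA x hx⟩)
    (fun x hx => ⟨(le_sup_right : B ≤ A ⊔ B) hx, hB x hx⟩)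
  exact fun x hx => (hle hx).2

section

variable [Finite S] {p : ℕ} [hp : Fact p.Prime] (hS : IsPGroup p S) {F : FusionSystem S}
  (hF : F.IsSaturated p) {E : FusionSystem T} (hT : F.StronglyClosed T) (hinv : InvF E F)
  (hfrat : FratF E F)

include hS hF hT hinv hfrat

theorem extend_fix_step {P : Subgroup Ω} (hP : E.IsCentric P) {θ : MulAut (P ⊔ centralizerIn S T : Subgroup Ω)}
    (hθ : θ ∈ F.autGroup (P ⊔ centralizerIn S T : Subgroup Ω)) (hcop : (orderOf θ).Coprime p) (hfix : ∀ x ∈ P, autFun θ x = x) :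
    ∃ θ₁ : MulAut (normalizerIn T P ⊔ centralizerIn S T : Subgroup Ω), θ₁ ∈ F.autGroup (normalizerIn T P ⊔ centralizerIn S T : Subgroup Ω) ∧ (orderOf θ₁).Coprime p ∧
      (∀ x ∈ normalizerIn T P, autFun θ₁ x = x) ∧
      ∀ c ∈ centralizerIn S T, autFun θ₁ c = autFun θ c := by
  obtain ⟨k, hk, hkQ, hkg⟩ := extend_fix_raw hS hF hT hinv hfrat hP hθ hfix
  have hQ₁S : (normalizerIn T P ⊔ centralizerIn S T : Subgroup Ω) ≤ S := hk.le
  have : Finite (normalizerIn T P ⊔ centralizerIn S T : Subgroup Ω) := finite_of_le hQ₁S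
  have hP₁Q₁ : normalizerIn T P ≤ (normalizerIn T P ⊔ centralizerIn S T : Subgroup Ω) := le_sup_left
  have hP₁S : normalizerIn T P ≤ S := hP₁Q₁.trans hQ₁S
  have : Finite (normalizerIn T P) := finite_of_le hP₁S
  have hPP₁ : P ≤ normalizerIn T P := le_normalizerIn hP.1
  have hQQ₁ : (P ⊔ centralizerIn S T : Subgroup Ω) ≤ (normalizerIn T P ⊔ centralizerIn S T : Subgroup Ω) := sup_le_sup_right hPP₁ _
  obtain ⟨θ₀, hθ₀, e₀⟩ := hk.exists_aut
  have e₀' : ∀ x ∈ (normalizerIn T P ⊔ centralizerIn S T : Subgroup Ω), autFun θ₀ x = k x := fun x hx => by rw [autFun_apply θ₀ hx, e₀]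
  obtain ⟨j, hj1, hj2⟩ := exists_pow_coprime hcop (orderOf_pos θ₀)
  have hagQ := autFun_pow_agree hQQ₁ (α := θ) (β := θ₀)
    (fun x hx => by rw [e₀' x (hQQ₁ hx), hkQ x hx])
  obtain ⟨b₀, -, eb₀, -⟩ := restrict_aut hQ₁S hP₁Q₁ hθ₀ (fun t ht => by
    obtain ⟨w, hw, e⟩ := hkg t ht
    rw [e₀' t (hP₁Q₁ ht), e]
    exact Subgroup.mul_mem _ ht (hPP₁ hw))
  have hagP := autFun_pow_agree hP₁Q₁ (α := b₀) (β := θ₀)
    (fun x hx => by rw [autFun_apply b₀ hx, eb₀])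
  have h1 : ∀ x : normalizerIn T P, (x : Ω) ∈ P → b₀ x = x := by
    intro x hx
    apply Subtype.ext
    rw [eb₀, e₀' _ (hP₁Q₁ x.2), hkQ _ ((le_sup_left : P ≤ (P ⊔ centralizerIn S T : Subgroup Ω)) hx), hfix _ hx]
  have h2 : ∀ x : normalizerIn T P, (x : Ω)⁻¹ * (b₀ x : normalizerIn T P) ∈ P := by
    intro x
    obtain ⟨w, hw, e⟩ := hkg x x.2
    rw [eb₀, e₀' _ (hP₁Q₁ x.2), e, inv_mul_cancel_left]
    exact hw
  refine ⟨θ₀ ^ j, Subgroup.pow_mem _ hθ₀ j, hj1, fun x hx => ?_, fun c hc => ?_⟩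
  · rw [hagP j x hx, autFun_apply _ hx, pow_apply_of_fix b₀ h1 h2]
    set z : normalizerIn T P := (⟨x, hx⟩ : normalizerIn T P)⁻¹ * b₀ ⟨x, hx⟩ with hz
    have h3 : (z ^ j) ^ orderOf (θ₀ ^ j) = 1 := by
      have h4 := hagP (j * orderOf (θ₀ ^ j)) x hx
      rw [pow_mul, pow_orderOf_eq_one, autFun_one (hP₁Q₁ hx), autFun_apply _ hx,
        pow_apply_of_fix b₀ h1 h2] at h4
      have h5 : (⟨x, hx⟩ : normalizerIn T P) = ⟨x, hx⟩ * z ^ (j * orderOf (θ₀ ^ j)) :=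
        Subtype.ext h4
      rw [← pow_mul]
      exact (mul_eq_left.1 h5.symm)
    obtain ⟨a, ha⟩ := (IsPGroup.iff_orderOf.1 (hS.to_le hP₁S)) (z ^ j)
    have h6 : orderOf (z ^ j) = 1 :=
      Nat.eq_one_of_dvd_coprimes (Nat.Coprime.pow_right a hj1) (orderOf_dvd_of_pow_eq_one h3)
        (ha ▸ dvd_rfl)
    rw [orderOf_eq_one_iff.1 h6, mul_one]
  · rw [hagQ j c ((le_sup_right : _ ≤ (P ⊔ centralizerIn S T : Subgroup Ω)) hc), hj2]

/-- **The extension claim.** An automorphism of order prime to `p` of `P C_S(T)` in `F`, trivial on the centric subgroup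
`P` of `E`, agrees on `C_S(T)` with an automorphism of `T C_S(T)` in `F` trivial on `T`. -/
theorem extend_fix : ∀ (m : ℕ) (P : Subgroup Ω), E.IsCentric P → Nat.card T - Nat.card P = m →
    ∀ θ : MulAut (P ⊔ centralizerIn S T : Subgroup Ω), θ ∈ F.autGroup (P ⊔ centralizerIn S T : Subgroup Ω) → (orderOf θ).Coprime p → (∀ x ∈ P, autFun θ x = x) →
      ∃ ω, Iso F (T ⊔ centralizerIn S T) (T ⊔ centralizerIn S T) ω ∧ (∀ x ∈ T, ω x = x) ∧
        ∀ c ∈ centralizerIn S T, ω c = autFun θ c := by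
  intro m
  induction m using Nat.strong_induction_on with
  | _ m ih =>
  intro P hP hm θ hθ hcop hfix
  by_cases hPT : P = T
  · subst hPT
    exact ⟨autFun θ, iso_autFun ((mem_autGroup_iff F
      (sup_le hT.1 (centralizerIn_le S P)) θ).1 hθ), hfix, fun _ _ => rfl⟩
  · have hlt : P < T := lt_of_le_of_ne hP.1 hPT
    obtain ⟨θ₁, hθ₁, hcop₁, hfix₁, hag⟩ := extend_fix_step hS hF hT hinv hfrat hP hθ hcop hfix
    obtain ⟨g, hg, hgP⟩ := exists_mem_normalizerIn_not_mem hS hT.1 hlt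
    have hcard : Nat.card P < Nat.card (normalizerIn T P) :=
      card_lt_of_le_ne ((normalizerIn_le T P).trans hT.1) (le_normalizerIn hP.1)
        (fun h => hgP (h ▸ hg))
    have : Finite T := finite_of_le hT.1
    have hle : Nat.card (normalizerIn T P) ≤ Nat.card T :=
      Subgroup.card_le_of_le (normalizerIn_le T P)
    obtain ⟨ω, hω, h1, h2⟩ := ih (Nat.card T - Nat.card (normalizerIn T P)) (by omega)
      (normalizerIn T P) (centric_of_le hP (le_normalizerIn hP.1) (normalizerIn_le T P)) rfl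
      θ₁ hθ₁ hcop₁ hfix₁
    exact ⟨ω, hω, h1, fun c hc => by rw [h2 c hc, hag c hc]⟩

end

end Cfsg.Agent.Lib.Helper87
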