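import Cfsg.Agent.Lib.Helper87.Invariant

set_option autoImplicit false

namespace Cfsg.Agent.Lib.Helper87

open Cfsg Cfsg.FusionSystem

variable {Ω : Type*} [Group Ω] {S : Subgroup Ω}

/-- The intersection of `F` with a family of fusion systems over the same subgroup. -/
def interSystem (F : FusionSystem S) (𝒟 : Set (FusionSystem S)) : FusionSystem S where
  Hom P := {φ | φ ∈ F.Hom P ∧ ∀ D ∈ 𝒟, φ ∈ D.Hom P}
  le_of_mem h := F.le_of_mem h.1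
  injective_of_mem h := F.injective_of_mem h.1
  conj_mem hP hg := ⟨F.conj_mem hP hg, fun D _ => D.conj_mem hP hg⟩
  comp_mem hφ hψ h := ⟨F.comp_mem hφ.1 hψ.1 h, fun D hD => D.comp_mem (hφ.2 D hD) (hψ.2 D hD) h⟩
  inv_mem := by
    intro P φ hφ
    obtain ⟨ψ, hψ, e⟩ := F.inv_mem hφ.1
    refine ⟨ψ, ⟨hψ, fun D hD => ?_⟩, e⟩
    obtain ⟨ψ', hψ', e'⟩ := D.inv_mem (hφ.2 D hD)
    have : ψ = ψ' := by
      ext ⟨_, x, rfl⟩
      rw [e, e']
    exact this ▸ hψ'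

theorem mor_interSystem_iff (F : FusionSystem S) (𝒟 : Set (FusionSystem S)) (P : Subgroup Ω)
    (f : Ω → Ω) : Mor (interSystem F 𝒟) P f ↔ Mor F P f ∧ ∀ D ∈ 𝒟, Mor D P f := by
  constructor
  · rintro ⟨φ, ⟨h1, h2⟩, e⟩
    exact ⟨⟨φ, h1, e⟩, fun D hD => ⟨φ, h2 D hD, e⟩⟩
  · rintro ⟨⟨φ, h1, e⟩, h2⟩
    exact ⟨φ, ⟨h1, fun D hD => (h2 D hD).mem_hom e⟩, e⟩

theorem interSystem_le (F : FusionSystem S) (𝒟 : Set (FusionSystem S)) : interSystem F 𝒟 ≤ F :=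
  fun _ _ h => h.1

theorem interSystem_le_of_mem (F : FusionSystem S) {𝒟 : Set (FusionSystem S)} {D : FusionSystem S}
    (hD : D ∈ 𝒟) : interSystem F 𝒟 ≤ D := fun _ _ h => h.2 D hD

/-- The subsystem of `D` generated by its maps with source in `ℋ`. -/
def genPart (D : FusionSystem S) (ℋ : Set (Subgroup Ω)) : FusionSystem S :=
  interSystem D {E' | ∀ P ∈ ℋ, D.Hom P ⊆ E'.Hom P}

theorem genPart_le (D : FusionSystem S) (ℋ : Set (Subgroup Ω)) : genPart D ℋ ≤ D :=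
  interSystem_le D _

theorem genPart_hom_eq (D : FusionSystem S) {ℋ : Set (Subgroup Ω)} {P : Subgroup Ω} (hP : P ∈ ℋ) :
    (genPart D ℋ).Hom P = D.Hom P :=
  Set.Subset.antisymm (genPart_le D ℋ P) (fun _ hφ => ⟨hφ, fun _ hE' => hE' P hP hφ⟩)

theorem mor_genPart_iff (D : FusionSystem S) {ℋ : Set (Subgroup Ω)} {P : Subgroup Ω} (hP : P ∈ ℋ)
    (f : Ω → Ω) : Mor (genPart D ℋ) P f ↔ Mor D P f := by
  unfold Mor
  rw [genPart_hom_eq D hP]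

theorem genPart_gen (D : FusionSystem S) (ℋ : Set (Subgroup Ω)) (E' : FusionSystem S)
    (h : ∀ P ∈ ℋ, (genPart D ℋ).Hom P ⊆ E'.Hom P) : genPart D ℋ ≤ E' :=
  interSystem_le_of_mem D (fun P hP => by rw [← genPart_hom_eq D hP]; exact h P hP)

theorem Mor.of_le {D E : FusionSystem S} (h : D ≤ E) {P : Subgroup Ω} {f : Ω → Ω}
    (hf : Mor D P f) : Mor E P f := by
  obtain ⟨φ, hφ, e⟩ := hf
  exact ⟨φ, h P hφ, e⟩

end Cfsg.Agent.Lib.Helper87
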