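import Cfsg.Agent.Lib.Helper87.PrimeSat
import Cfsg.Agent.Lib.Helper87.GenSystem

set_option autoImplicit false

namespace Cfsg.Agent.Lib.Helper87

open Cfsg Cfsg.FusionSystem

variable {Ω : Type*} [Group Ω] {S : Subgroup Ω}

theorem centric_fullyCentralized [Finite S] {F : FusionSystem S} {P : Subgroup Ω}
    (hP : F.IsCentric P) : F.IsFullyCentralized P := by
  refine ⟨hP.1, fun Q hQ => ?_⟩
  obtain ⟨f, hf⟩ := (isConj_iff F Q P).1 (isConj_symm hQ)
  exact hf.mor.card_le (hP.2 Q hQ) (centralizerIn_le S P) (fun c hc =>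
    hf.mor.map_mem_centralizerIn le_rfl hf.2 (hP.2 Q hQ hc) ((mem_centralizerIn_iff S Q c).1 hc).2)

/-- A saturated subsystem with the same centric subgroups is closed under extending restrictions of elements of
`Aut_F(S)` from centric subgroups. -/
theorem closed_of_saturated [Finite S] {p : ℕ} [Fact p.Prime] (hS : IsPGroup p S)
    {F D : FusionSystem S} (hF : F.IsSaturated p) (hD : D.IsSaturated p)
    (hDF : D.IsSubsystemOf F) (hcen : ∀ P, F.IsCentric P → D.IsCentric P) {a : Ω → Ω}
    (ha : Iso F S S a) : ∀ (m : ℕ) (R : Subgroup Ω), F.IsCentric R → Mor D R a →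
      Nat.card S - Nat.card R = m → Mor D S a := by
  intro m
  induction m using Nat.strong_induction_on with
  | _ m ih =>
  intro R hR haR hm
  by_cases hRS : R = S
  · exact hRS ▸ haR
  have hlt : R < S := lt_of_le_of_ne hR.1 hRS
  have hiso := haR.iso_img
  have hisoF : Iso F R (img R a) a := ⟨haR.of_subsystem hDF, hiso.2⟩
  have hrec : D.IsReceptive (img R a) :=
    fullyCentralized_receptive hS hD
      (centric_fullyCentralized (hcen _ (centric_conj hR hisoF.isConj)))
  obtain ⟨b, hb, eb⟩ := receptive_extend hrec hiso (normalizerIn S R) (normalizerIn_le S R)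
    inf_le_right (fun g hg => ⟨a g, ha.map_mem hg.1, fun x hx => ha.mor.map_conj hg.1 (hR.1 hx)⟩)
  rw [sup_eq_right.2 (le_normalizerIn hR.1)] at hb
  obtain ⟨z, hz, -, e⟩ := agree_on_normal_centric hS hF (le_normalizerIn hR.1) inf_le_right hR
    (hb.of_subsystem hDF) (ha.mor.mono (normalizerIn_le S R)) eb
  have hRN := le_normalizerIn hR.1
  have haN : Mor D (normalizerIn S R) a := by
    have hc : Mor D (normalizerIn S R) (fun y => z * y * z⁻¹) :=
      mor_conj D (normalizerIn_le S R) (hR.1 hz)
    refine (hc.comp hb (fun y hy => ?_)).congr (fun y hy => (e y hy).symm)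
    exact Subgroup.mul_mem _ (Subgroup.mul_mem _ (hRN hz) hy) (Subgroup.inv_mem _ (hRN hz))
  obtain ⟨g, hg, hgR⟩ := exists_mem_normalizerIn_not_mem hS le_rfl hlt
  have hcard : Nat.card R < Nat.card (normalizerIn S R) :=
    card_lt_of_le_ne (normalizerIn_le S R) hRN (fun h => hgR (h ▸ hg))
  have hle : Nat.card (normalizerIn S R) ≤ Nat.card S := Subgroup.card_le_of_le (normalizerIn_le S R)
  exact ih (Nat.card S - Nat.card (normalizerIn S R)) (by omega) _
    (centric_of_le hR hRN (normalizerIn_le S R)) haN rfl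

/-- The family of "closed" subsystems of index prime to `p`. -/
def closedFam (F : FusionSystem S) (p : ℕ) : Set (FusionSystem S) :=
  {D | D ≤ F ∧ (∀ P, F.IsCentric P → OpP F p P ≤ D.autGroup P) ∧
    ∀ a, Iso F S S a → ∀ R, F.IsCentric R → Mor D R a → Mor D S a}

/-- The candidate for `O^{p'}(F)`. -/
def residualSystem (F : FusionSystem S) (p : ℕ) : FusionSystem S :=
  genPart (interSystem F (closedFam F p)) {P | F.IsCentric P}

theorem centric_top (F : FusionSystem S) [Finite S] : F.IsCentric S := by
  refine ⟨le_rfl, fun Q hQ => ?_⟩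
  rw [eq_of_le_of_card_le'' le_rfl (isConj_le' hQ) (isConj_card hQ).le]
  exact centralizerIn_le S S

section

variable {F : FusionSystem S} {p : ℕ}

theorem residualSystem_le (F : FusionSystem S) (p : ℕ) : residualSystem F p ≤ F :=
  fun P _ h => interSystem_le F _ P (genPart_le _ _ P h)

theorem mor_residualSystem_iff {P : Subgroup Ω} (hP : F.IsCentric P) (f : Ω → Ω) :
    Mor (residualSystem F p) P f ↔ Mor F P f ∧ ∀ D ∈ closedFam F p, Mor D P f := by
  unfold residualSystem
  rw [mor_genPart_iff _ (show P ∈ {P | F.IsCentric P} from hP), mor_interSystem_iff]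

theorem OpP_le_residualSystem {P : Subgroup Ω} (hP : F.IsCentric P) :
    OpP F p P ≤ (residualSystem F p).autGroup P := by
  intro α hα
  rw [mem_autGroup_iff _ hP.1, mor_residualSystem_iff hP]
  exact ⟨(mem_autGroup_iff F hP.1 α).1 (OpP_le F p P hα),
    fun D hD => (mem_autGroup_iff D hP.1 α).1 (hD.2.1 P hP hα)⟩

theorem residualSystem_closed [Finite S] {a : Ω → Ω} (ha : Iso F S S a) {R : Subgroup Ω}
    (hR : F.IsCentric R) (h : Mor (residualSystem F p) R a) : Mor (residualSystem F p) S a := by
  rw [mor_residualSystem_iff hR] at h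
  rw [mor_residualSystem_iff (centric_top F)]
  exact ⟨ha.mor, fun D hD => hD.2.2 a ha R hR (h.2 D hD)⟩

theorem residualSystem_frat [Finite S] [Fact p.Prime] (hS : IsPGroup p S) (hF : F.IsSaturated p) :
    FratS (residualSystem F p) F :=
  frattini_family hS hF (ℋ := {P | F.IsCentric P}) (fun _ hP _ hQ => centric_conj hP hQ)
    (fun _ hP => hP.1) (fun _ hP => OpP_le_residualSystem hP) (fun _ hU hU' => absurd hU hU')

theorem residualSystem_saturated [Finite S] [Fact p.Prime] (hS : IsPGroup p S)
    (hF : F.IsSaturated p) : (residualSystem F p).IsSaturated p :=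
  saturated_of_family hS hF (residualSystem_le F p) (ℋ := {P | F.IsCentric P})
    (fun _ hP _ hQ => centric_conj hP hQ) (fun _ hP => hP.1) (residualSystem_frat hS hF)
    (fun _ ha _ hR h => residualSystem_closed ha hR h) (genPart_gen _ _)
    (fun _ hU hU' => absurd hU hU')

theorem isPPrimeResidual_residualSystem [Finite S] [Fact p.Prime] (hS : IsPGroup p S)
    (hF : F.IsSaturated p) : F.IsPPrimeResidual p (residualSystem F p) := by
  refine ⟨residualSystem_saturated hS hF, ⟨residualSystem_le F p, fun P hP => ?_⟩,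
    fun D hD hDF => ?_⟩
  · rw [OpP_eq]
    exact OpP_le_of_frat hF (residualSystem_frat hS hF) hP
  · have h1 : ∀ P, F.IsCentric P → OpP F p P ≤ D.autGroup P := by
      intro P hP
      rw [← OpP_eq]
      exact hDF.2 P hP.1
    have hmem : D ∈ closedFam F p := by
      refine ⟨hDF.1, h1, fun a ha R hR h => ?_⟩
      exact closed_of_saturated hS hF hD hDF.1
        (fun P hP => (centric_iff_of_prime_index hS hF hDF.1 h1 P).2 hP) ha _ R hR h rfl
    exact fun P φ hφ => interSystem_le_of_mem F hmem P (genPart_le _ _ P hφ)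

end

end Cfsg.Agent.Lib.Helper87
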