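import Cfsg.Agent.Lib.Helper87.Craven4
import Cfsg.Agent.Lib.Helper87.PPrimeResidual

set_option autoImplicit false

namespace Cfsg.Agent.Lib.Helper87

open Cfsg Cfsg.FusionSystem

variable {Ω : Type*} [Group Ω] {S T : Subgroup Ω}

section

variable [Finite S] {p : ℕ} [hp : Fact p.Prime] (hS : IsPGroup p S) {F : FusionSystem S}
  (hF : F.IsSaturated p) {E : FusionSystem T} (hT : F.StronglyClosed T) (hinv : InvF E F)
  (hfrat : FratF E F)

include hS hF hT hinv hfrat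

/-- **Step C for elements of order prime to `p`.** -/
theorem good_top_of_coprime {α : MulAut T} (hα : α ∈ F.autGroup T)
    (hcop : (orderOf α).Coprime p) {R : Subgroup Ω} (hR : E.IsCentric R)
    (hgood : GoodX F T R (autFun α)) : GoodX F T T (autFun α) := by
  have hTS := hT.1
  have hTfin : Finite T := finite_of_le hTS
  have hrec := fullyNormalized_receptive hS hF
    (fullyNormalized_of_normal F hTS (StronglyClosed.le_normalizer hT))
  have hαi : Iso F T T (autFun α) := iso_autFun ((mem_autGroup_iff F hTS α).1 hα)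
  obtain ⟨f', hf', ef, hfc⟩ := receptive_extend_centralizer hrec hαi
  have hTQ : T ≤ T ⊔ centralizerIn S T := le_sup_left
  have hCQ : centralizerIn S T ≤ T ⊔ centralizerIn S T := le_sup_right
  have hQ : T ⊔ centralizerIn S T ≤ S := sup_le hTS (centralizerIn_le S T)
  have hQfin : Finite (T ⊔ centralizerIn S T : Subgroup Ω) := finite_of_le hQ
  have hmap : ∀ x ∈ T ⊔ centralizerIn S T, f' x ∈ T ⊔ centralizerIn S T :=
    hf'.map_sup_mem (fun x hx => hTQ (by rw [ef x hx]; exact autFun_mem α hx))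
      (fun c hc => hCQ (hfc c hc))
  obtain ⟨B₀, hB₀, eB₀⟩ := (hf'.iso_self hmap).exists_aut
  obtain ⟨j, hj, hαj⟩ := exists_pow_coprime hcop (orderOf_pos B₀)
  have hagT := autFun_pow_agree hTQ (α := α) (β := B₀)
    (fun x hx => by rw [autFun_apply B₀ (hTQ hx), eB₀, ef x hx]) j
  rw [hαj] at hagT
  set B := B₀ ^ j with hBdef
  have hBF : B ∈ F.autGroup (T ⊔ centralizerIn S T) := Subgroup.pow_mem _ hB₀ j
  have hBm : Mor F (T ⊔ centralizerIn S T) (autFun B) := (mem_autGroup_iff F hQ B).1 hBF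
  have hBK : ∀ c ∈ centralizerIn S T, autFun B c ∈ centralizerIn S T := by
    intro c hc
    refine hBm.map_mem_centralizerIn hTQ (fun y => ?_) (hCQ hc)
      ((mem_centralizerIn_iff S T c).1 hc).2
    rw [hαi.2 y]
    constructor
    · rintro ⟨x, hx, rfl⟩
      exact ⟨x, hx, hagT x hx⟩
    · rintro ⟨x, hx, rfl⟩
      exact ⟨x, hx, (hagT x hx).symm⟩
  -- the good extension on `R`
  obtain ⟨χ, hχ, eχ, hχT⟩ := hgood
  have hRT := hR.1
  have hR'iso : Iso F R (img R χ) χ := (hχ.mono le_sup_left).iso_img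
  have hχiso := good_iso hT hinv hfrat hR hχ hχT hR'iso.2
  obtain ⟨χ', hχ', hχ'χ, hχχ'⟩ := hχiso.symm
  have hRQ : R ⊔ centralizerIn S T ≤ T ⊔ centralizerIn S T := sup_le_sup_right hRT _
  have hBR : Mor F (R ⊔ centralizerIn S T) (autFun B) := hBm.mono hRQ
  have hBmap : ∀ x ∈ R ⊔ centralizerIn S T, autFun B x ∈ img R χ ⊔ centralizerIn S T :=
    hBR.map_sup_mem (fun x hx => (le_sup_left : img R χ ≤ _) (by
      rw [hagT x (hRT hx), ← eχ x hx]
      exact hR'iso.map_mem hx)) (fun c hc => (le_sup_right : _ ≤ img R χ ⊔ _) (hBK c hc))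
  have hθm : Mor F (R ⊔ centralizerIn S T) (χ' ∘ autFun B) := hBR.comp hχ'.mor hBmap
  have hRfin : Finite (R ⊔ centralizerIn S T : Subgroup Ω) := finite_of_le hθm.le
  obtain ⟨Θ₀, hΘ₀, eΘ₀⟩ := (hθm.iso_self (fun x hx => hχ'.map_mem (hBmap x hx))).exists_aut
  have eΘ₀' : ∀ x ∈ R ⊔ centralizerIn S T, autFun Θ₀ x = χ' (autFun B x) :=
    fun x hx => by rw [autFun_apply Θ₀ hx, eΘ₀]; rfl
  have hΘfix : ∀ x ∈ R, autFun Θ₀ x = x := by
    intro x hx
    rw [eΘ₀' x ((le_sup_left : R ≤ _) hx), hagT x (hRT hx), ← eχ x hx,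
      hχ'χ x ((le_sup_left : R ≤ _) hx)]
  -- `Θ₀` and `B` agree modulo `T`
  have hmodK : ∀ c ∈ centralizerIn S T, (autFun Θ₀ c)⁻¹ * autFun B c ∈ T := by
    intro c hc
    rw [eΘ₀' c ((le_sup_right : _ ≤ R ⊔ centralizerIn S T) hc)]
    set c' := autFun B c with hc'
    have hc'K : c' ∈ centralizerIn S T := hBK c hc
    obtain ⟨x, hx, e⟩ := good_diff_mem hT hinv hfrat hR hχ hχT hc'K
    have hxK : x ∈ R ⊔ centralizerIn S T := (le_sup_left : R ≤ _) hx
    have hcK : c' ∈ R ⊔ centralizerIn S T := (le_sup_right : _ ≤ R ⊔ centralizerIn S T) hc'K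
    have h4 : c' = χ (c' * x⁻¹) := by
      rw [hχ.map_mul hcK (Subgroup.inv_mem _ hxK), hχ.map_inv hxK, e]
      group
    have h5 : χ' c' = c' * x⁻¹ := by
      conv_lhs => rw [h4]
      exact hχ'χ _ (Subgroup.mul_mem _ hcK (Subgroup.inv_mem _ hxK))
    rw [h5]
    have h6 : (c' * x⁻¹)⁻¹ * c' = x := by group
    rw [h6]
    exact hRT hx
  have hmod : ∀ y : (R ⊔ centralizerIn S T : Subgroup Ω),
      ((Θ₀ y : (R ⊔ centralizerIn S T : Subgroup Ω)) : Ω)⁻¹ * autFun B y ∈ T := by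
    intro y
    rw [← autFun_coe]
    refine agree_mod_sup hT ((mem_autGroup_iff F hθm.le Θ₀).1 hΘ₀) hBR (fun x hx => ?_) hmodK y y.2
    rw [hΘfix x hx, hagT x (hRT hx)]
    exact T.mul_mem (T.inv_mem (hRT hx)) (autFun_mem α (hRT hx))
  obtain ⟨i, hi, hBi⟩ := exists_pow_coprime hj (orderOf_pos Θ₀)
  have hmodi := pow_agree_mod hRQ hTQ (α := Θ₀) (β := B)
    (fun t ht => by rw [hagT t ht]; exact autFun_mem α ht) hmod i
  rw [hBi] at hmodi
  have hfixi : ∀ x ∈ R, autFun (Θ₀ ^ i) x = x := by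
    intro x hx
    have h1 := autFun_pow_agree (le_sup_left : R ≤ R ⊔ centralizerIn S T) (α := (1 : MulAut R))
      (β := Θ₀) (fun x hx => by rw [hΘfix x hx, autFun_one hx]) i x hx
    rw [h1, one_pow, autFun_one hx]
  obtain ⟨ω, hω, hωT, hωK⟩ := extend_fix hS hF hT hinv hfrat _ R hR rfl (Θ₀ ^ i)
    (Subgroup.pow_mem _ hΘ₀ i) hi hfixi
  obtain ⟨ω', hω', hω'ω, hωω'⟩ := hω.symm
  refine ⟨autFun B ∘ ω', hω'.mor.comp hBm (fun x hx => hω'.map_mem hx), fun x hx => ?_,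
    fun c hc => ?_⟩
  · show autFun B (ω' x) = _
    have h1 : ω' x = x := by
      conv_lhs => rw [← hωT x hx]
      exact hω'ω x (hTQ hx)
    rw [h1, hagT x hx]
  · show c⁻¹ * autFun B (ω' c) ∈ T
    have hc₁ : ω' c ∈ centralizerIn S T := by
      refine hω'.mor.map_mem_centralizerIn hTQ (fun y => ⟨fun hy => ⟨y, hy, ?_⟩, ?_⟩) (hCQ hc)
        ((mem_centralizerIn_iff S T c).1 hc).2
      · conv_lhs => rw [← hωT y hy]
        exact hω'ω y (hTQ hy)
      · rintro ⟨x, hx, rfl⟩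
        have h1 : ω' x = x := by
          conv_lhs => rw [← hωT x hx]
          exact hω'ω x (hTQ hx)
        rw [h1]
        exact hx
    have h2 := hmodi ⟨ω' c, (le_sup_right : _ ≤ R ⊔ centralizerIn S T) hc₁⟩
    rw [← autFun_coe, ← hωK _ hc₁, hωω' c (hCQ hc)] at h2
    exact h2

end

end Cfsg.Agent.Lib.Helper87
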