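import Cfsg.Agent.Lib.Helper87.PrimeIndex

set_option autoImplicit false

namespace Cfsg.Agent.Lib.Helper87

open Cfsg Cfsg.FusionSystem

variable {Ω : Type*} [Group Ω]

/-- The intersection of two fusion systems over the same subgroup. -/
def infSystem {T : Subgroup Ω} (E E' : FusionSystem T) : FusionSystem T where
  Hom P := E.Hom P ∩ E'.Hom P
  le_of_mem h := E.le_of_mem h.1
  injective_of_mem h := E.injective_of_mem h.1
  conj_mem hP hg := ⟨E.conj_mem hP hg, E'.conj_mem hP hg⟩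
  comp_mem hφ hψ h := ⟨E.comp_mem hφ.1 hψ.1 h, E'.comp_mem hφ.2 hψ.2 h⟩
  inv_mem := by
    intro P φ hφ
    obtain ⟨ψ, hψ, e⟩ := E.inv_mem hφ.1
    obtain ⟨ψ', hψ', e'⟩ := E'.inv_mem hφ.2
    have : ψ = ψ' := by
      ext ⟨_, x, rfl⟩
      rw [e, e']
    exact ⟨ψ, ⟨hψ, this ▸ hψ'⟩, e⟩

theorem mor_infSystem_iff {T : Subgroup Ω} (E E' : FusionSystem T) (P : Subgroup Ω) (f : Ω → Ω) :
    Mor (infSystem E E') P f ↔ Mor E P f ∧ Mor E' P f := by
  constructor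
  · rintro ⟨φ, ⟨h1, h2⟩, e⟩
    exact ⟨⟨φ, h1, e⟩, ⟨φ, h2, e⟩⟩
  · rintro ⟨⟨φ, h1, e⟩, h2⟩
    exact ⟨φ, ⟨h1, h2.mem_hom e⟩, e⟩

/-- **A weakly normal subsystem is determined by `T` and `Aut_E(T)`** (one inclusion). Let `E` be a saturated
subsystem of `F` over `T`, and `E'` a system over `T` satisfying the Frattini condition in `F`, with
`Aut_E(T) ⊆ Aut_{E'}(T)`. Then `E ⊆ E'`. -/
theorem subsystem_of_autT_le {S T : Subgroup Ω} [Finite T] {p : ℕ} [Fact p.Prime]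
    (hT : IsPGroup p T) {F : FusionSystem S} {E E' : FusionSystem T} (hEs : E.IsSaturated p)
    (hEF : E.IsSubsystemOf F) (hfrat : FratF E' F)
    (hAut : ∀ a, Iso E T T a → Mor E' T a) :
    ∀ (P : Subgroup Ω) (f : Ω → Ω), Mor E P f → Mor E' P f := by
  have hkey : ∀ P : Subgroup Ω, P ≤ T → OpP E p P ≤ (infSystem E E').autGroup P := by
    intro P hP
    refine (Subgroup.closure_le _).2 ?_
    rintro β ⟨hβ, k, hk⟩
    have : Finite P := finite_of_le hP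
    obtain ⟨Q, hPQ, hQa, -⟩ := hEs P hP
    obtain ⟨f₁, hf₁⟩ := (isConj_iff E P Q).1 hPQ
    have hAp : IsPGroup p (Subgroup.zpowers β) := by
      rw [IsPGroup.iff_card]
      exact ⟨k, by rw [Nat.card_zpowers, hk]⟩
    obtain ⟨f, hf, hconj⟩ := exists_iso_conj_into hQa hf₁ (Subgroup.zpowers β)
      ((Subgroup.zpowers_le).2 hβ) hAp
    obtain ⟨s, hs, es⟩ := hconj β (Subgroup.mem_zpowers β)
    obtain ⟨a, f₀, ha, hf₀, e⟩ := hfrat P f hP (hf.mor.of_subsystem hEF)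
    obtain ⟨a', ha', ha'a, haa'⟩ := ha.symm
    obtain ⟨g₀, hg₀, hg₀f, -⟩ := hf₀.iso_img.symm
    have key : ∀ x : P, f₀ (β x : P) = a' s * f₀ x * (a' s)⁻¹ := by
      intro x
      have h1 := es x
      rw [e _ (Subtype.prop _), e x x.2] at h1
      have h2 := congrArg a' h1
      rw [ha'a _ (hf₀.mem (Subtype.prop _)), ha'.mor.map_conj hs (ha.map_mem (hf₀.mem x.2)),
        ha'a _ (hf₀.mem x.2)] at h2
      exact h2
    show β ∈ (infSystem E E').autGroup P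
    rw [mem_autGroup_iff _ hP, mor_infSystem_iff]
    refine ⟨(mem_autGroup_iff E hP β).1 hβ, ?_⟩
    have h1 : Mor E' P ((fun y => a' s * y * (a' s)⁻¹) ∘ f₀) :=
      hf₀.comp (mor_conj E' hf₀.img_le (ha'.map_mem hs)) (fun x hx => hf₀.iso_img.map_mem hx)
    have h2 : Mor E' P (g₀ ∘ ((fun y => a' s * y * (a' s)⁻¹) ∘ f₀)) := by
      refine h1.comp hg₀.mor (fun x hx => ?_)
      show a' s * f₀ x * (a' s)⁻¹ ∈ _
      rw [← key ⟨x, hx⟩]
      exact hf₀.iso_img.map_mem (Subtype.prop _)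
    refine h2.congr (fun x hx => ?_)
    show g₀ (a' s * f₀ x * (a' s)⁻¹) = _
    rw [← key ⟨x, hx⟩, hg₀f _ (Subtype.prop _), autFun_apply β hx]
  intro P f hf
  obtain ⟨a, f₀, ha, hf₀, e⟩ := frattini_prime_index (E := infSystem E E') hT hEs
    (fun P hP => hkey P hP.1) P f hf
  have h1 := ((mor_infSystem_iff E E' P f₀).1 hf₀.mor).2
  exact (h1.comp (hAut a ha) (fun x hx => h1.mem hx)).congr (fun x hx => (e x hx).symm)

end Cfsg.Agent.Lib.Helper87
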