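import Cfsg.Agent.Lib.Helper87.PPowerExt
import Cfsg.Agent.Lib.Helper87.NormCentSat
import Cfsg.Agent.Lib.Helper87.NormalCrit
import Cfsg.Agent.S5097

set_option autoImplicit false

namespace Cfsg.Agent.Lib.Helper87

open Cfsg Cfsg.FusionSystem

variable {Ω : Type*} [Group Ω] {S : Subgroup Ω}

/-- The full subsystem on a strongly closed subgroup `S₁` with `S = S₁ C_S(S₁)` is saturated. -/
theorem full_subsystem_saturated {p : ℕ} {F : FusionSystem S}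
    (hF : F.IsSaturated p) {S₁ : Subgroup Ω} (h₁ : F.StronglyClosed S₁)
    (hprod : ∀ s ∈ S, ∃ a ∈ S₁, ∃ b ∈ centralizerIn S S₁, s = a * b) {R : FusionSystem S₁}
    (hR : ∀ P f, Mor R P f ↔ P ≤ S₁ ∧ Mor F P f) : R.IsSaturated p := by
  intro P hP
  obtain ⟨Q, hPQ, hQa, hQr⟩ := hF P (hP.trans h₁.1)
  obtain ⟨f, hf⟩ := (isConj_iff F P Q).1 hPQ
  have hQ₁ : Q ≤ S₁ := by
    intro y hy
    obtain ⟨x, hx, rfl⟩ := hf.surj hy
    exact StronglyClosed.map_mem h₁ hf.mor hx (hP hx)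
  refine ⟨Q, (isConj_iff R P Q).2 ⟨f, (hR _ _).2 ⟨hP, hf.mor⟩, hf.2⟩, ?_, ?_⟩
  · have e1 : R.autGroup Q = F.autGroup Q := by
      ext α
      rw [mem_autGroup_iff R hQ₁, mem_autGroup_iff F hQa.1, hR]
      exact ⟨fun h => h.2, fun h => ⟨hQ₁, h⟩⟩
    have e2 : autInducedBy S₁ Q = autInducedBy S Q := by
      ext α
      rw [mem_autInducedBy_iff, mem_autInducedBy_iff]
      constructor
      · rintro ⟨g, hg, e⟩
        exact ⟨g, h₁.1 hg, e⟩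
      · rintro ⟨g, hg, e⟩
        obtain ⟨a, ha, b, hb, rfl⟩ := hprod g hg
        refine ⟨a, ha, fun x => ?_⟩
        have h2 := ((mem_centralizerIn_iff S S₁ b).1 hb).2 x (hQ₁ x.2)
        rw [e x]
        calc a * b * x * (a * b)⁻¹ = a * (b * x) * b⁻¹ * a⁻¹ := by group
          _ = a * x * a⁻¹ := by rw [← h2]; group
    rw [fullyAutomized_iff R p hQ₁, e1, e2]
    exact (fullyAutomized_iff F p hQa.1).1 hQa
  · refine receptive_of hQ₁ (fun P' f' hf' N hN => ?_)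
    have hf'F : Iso F P' Q f' := ⟨((hR _ _).1 hf'.mor).2, hf'.2⟩
    have hN₁ : N ≤ S₁ := fun g hg => ((hN g).1 hg).1
    obtain ⟨f'', hf'', e⟩ := receptive_extend hQr hf'F N (hN₁.trans h₁.1)
      (fun g hg => ((hN g).1 hg).2.1) (fun g hg => by
        obtain ⟨k, hk, e⟩ := ((hN g).1 hg).2.2
        exact ⟨k, h₁.1 hk, e⟩)
    exact ⟨f'', (hR _ _).2 ⟨hN₁, hf''.mono le_sup_right⟩, e⟩

theorem extension_of_extGood {F : FusionSystem S} {T : Subgroup Ω} {α : MulAut T}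
    (h : α ∈ ExtGood F T) : ∃ β ∈ F.autGroup (T ⊔ centralizerIn S T),
      (∀ x : T, ((β (Subgroup.inclusion le_sup_left x) : ↥(T ⊔ centralizerIn S T)) : Ω) =
        ((α x : T) : Ω)) ∧
      ∀ c : ↥(T ⊔ centralizerIn S T), (c : Ω) ∈ centralizerIn S T →
        (c : Ω)⁻¹ * ((β c : ↥(T ⊔ centralizerIn S T)) : Ω) ∈
          T ⊓ Subgroup.centralizer (T : Set Ω) := by
  obtain ⟨β, hβ, e1, e2⟩ := h
  refine ⟨β, hβ, fun x => ?_, fun c hc => ?_⟩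
  · rw [← autFun_coe β, ← autFun_coe α]
    exact e1 x x.2
  · rw [← autFun_coe β]
    exact e2 c hc

/-- Over `T` itself the extension condition is automatic. -/
theorem mem_extGood_self [Finite S] (R : FusionSystem S) {α : MulAut S} (hα : α ∈ R.autGroup S) :
    α ∈ ExtGood R S := by
  have hm := (mem_autGroup_iff R le_rfl α).1 hα
  have hEq : S ⊔ centralizerIn S S = S := sup_eq_left.2 (centralizerIn_le S S)
  have hm' : Mor R (S ⊔ centralizerIn S S) (autFun α) := by rw [hEq]; exact hm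
  have hfin : Finite (S ⊔ centralizerIn S S : Subgroup Ω) := by rw [hEq]; infer_instance
  obtain ⟨β, hβ, e⟩ := (hm'.iso_self (fun x hx => by
    rw [hEq] at hx ⊢
    exact autFun_mem α hx)).exists_aut
  refine ⟨β, hβ, fun x hx => ?_, fun c hc => ?_⟩
  · rw [autFun_apply β ((le_sup_left : S ≤ S ⊔ centralizerIn S S) hx), e]
  · rw [autFun_apply β ((le_sup_right : _ ≤ S ⊔ centralizerIn S S) hc), e]
    have hc' : c ∈ S ⊓ Subgroup.centralizer (S : Set Ω) := hc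
    exact Subgroup.mul_mem _ (Subgroup.inv_mem _ hc') (aut_center_mem α hc')

/-- The setting of a fusion system over an internal direct product of two strongly closed subgroups. -/
structure DP (F : FusionSystem S) (S₁ S₂ : Subgroup Ω) : Prop where
  prod : IsInternalDirectProduct S₁ S₂ S
  h₁ : F.StronglyClosed S₁
  h₂ : F.StronglyClosed S₂

namespace DP

variable {F : FusionSystem S} {S₁ S₂ : Subgroup Ω}

theorem symm (h : DP F S₁ S₂) : DP F S₂ S₁ :=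
  ⟨⟨h.prod.2.1, h.prod.1, fun a ha b hb => (h.prod.2.2.1 b hb a ha).symm,
    by rw [inf_comm]; exact h.prod.2.2.2.1, by rw [sup_comm]; exact h.prod.2.2.2.2⟩, h.h₂, h.h₁⟩

theorem sup_eq (h : DP F S₁ S₂) : S₁ ⊔ S₂ = S := h.prod.2.2.2.2

theorem comm (h : DP F S₁ S₂) {a b : Ω} (ha : a ∈ S₁) (hb : b ∈ S₂) : a * b = b * a :=
  h.prod.2.2.1 a ha b hb

theorem decomp (h : DP F S₁ S₂) {s : Ω} (hs : s ∈ S) : ∃ a ∈ S₁, ∃ b ∈ S₂, s = a * b := by
  rw [← h.sup_eq] at hs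
  refine mem_sup_of_normalizes (fun a ha b hb => ?_) hs
  rw [h.comm ha hb]
  simpa using hb

theorem le_cent (h : DP F S₁ S₂) : S₂ ≤ centralizerIn S S₁ := fun b hb =>
  (mem_centralizerIn_iff S S₁ b).2 ⟨h.prod.2.1 hb, fun x hx => h.comm hx hb⟩

theorem ext [Finite S] {p : ℕ} [Fact p.Prime] (h : DP F S₁ S₂) (hS : IsPGroup p S)
    (hF : F.IsSaturated p) {P : Subgroup Ω} {f : Ω → Ω} (hP : P ≤ S₁) (hf : Mor F P f) :
    ∃ f', Mor F (P ⊔ S₂) f' ∧ ∀ x ∈ P, f' x = f x := by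
  obtain ⟨f', hf', e⟩ := exists_lift_mod hS hF h.h₂ P f hf
  refine ⟨f', hf', fun x hx => ?_⟩
  have h1 : (f x)⁻¹ * f' x ∈ S₁ ⊓ S₂ :=
    ⟨S₁.mul_mem (S₁.inv_mem (StronglyClosed.map_mem h.h₁ hf hx (hP hx)))
      (StronglyClosed.map_mem h.h₁ hf' ((le_sup_left : P ≤ P ⊔ S₂) hx) (hP hx)), e x hx⟩
  rw [h.prod.2.2.2.1, Subgroup.mem_bot, inv_mul_eq_one] at h1
  exact h1.symm

variable [Finite S] {p : ℕ} [Fact p.Prime] {R' : FusionSystem S₁}

theorem invF (h : DP F S₁ S₂) (hS : IsPGroup p S) (hF : F.IsSaturated p)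
    (hR' : ∀ P f, Mor R' P f ↔ P ≤ S₁ ∧ ExtC F S₂ P f) : InvF R' F := by
  intro P f hf a ha X hX
  obtain ⟨hP, fh, hfh, e1, e2⟩ := (hR' P f).1 hf
  obtain ⟨ah, hah, eah⟩ := h.ext hS hF le_rfl ha.mor
  have hfin : Finite (S₁ ⊔ S₂ : Subgroup Ω) := by rw [h.sup_eq]; infer_instance
  have hiso : Iso F (S₁ ⊔ S₂) (S₁ ⊔ S₂) ah := hah.iso_self (fun x hx => by
    rw [h.sup_eq]
    exact hah.mem hx)
  obtain ⟨ah', hah', k1, k2⟩ := hiso.symm
  have hXS : X ≤ S₁ := by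
    intro y hy
    obtain ⟨x, hx, rfl⟩ := (hX y).1 hy
    exact ha.map_mem (hP hx)
  have hX2 : X ⊔ S₂ ≤ S₁ ⊔ S₂ := sup_le_sup_right hXS S₂
  have hS1 : S₁ ≤ S₁ ⊔ S₂ := le_sup_left
  have hS2 : S₂ ≤ S₁ ⊔ S₂ := le_sup_right
  have hm1 := hah'.mor.mono hX2
  have hXP : ∀ x ∈ P, ah' (a x) = x := fun x hx => by
    rw [← eah x (hP hx), k1 x (hS1 (hP hx))]
  have hmap1 : ∀ y ∈ X ⊔ S₂, ah' y ∈ P ⊔ S₂ := by
    refine hm1.map_sup_mem (fun y hy => ?_) (fun y hy => ?_)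
    · obtain ⟨x, hx, rfl⟩ := (hX y).1 hy
      rw [hXP x hx]
      exact (le_sup_left : P ≤ P ⊔ S₂) hx
    · exact (le_sup_right : S₂ ≤ P ⊔ S₂) (StronglyClosed.map_mem h.h₂ hah'.mor (hS2 hy) hy)
  have hm2 := (hm1.comp hfh hmap1).comp hah (fun y hy => by
    rw [h.sup_eq]
    exact hfh.mem (hmap1 y hy))
  refine ⟨_, (hR' _ _).2 ⟨hXS, _, hm2, fun _ _ => rfl, fun y hy => ?_⟩, fun x hx => ?_⟩
  · show ah (fh (ah' y)) = y
    rw [e2 _ (StronglyClosed.map_mem h.h₂ hah'.mor (hS2 hy) hy), k2 y (hS2 hy)]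
  · show ah (fh (ah' (a x))) = a (f x)
    rw [hXP x hx, e1 x hx, eah _ (hf.mem hx)]

theorem fratF (h : DP F S₁ S₂) (hS : IsPGroup p S) (hF : F.IsSaturated p)
    (hR' : ∀ P f, Mor R' P f ↔ P ≤ S₁ ∧ ExtC F S₂ P f) : FratF R' F := by
  intro P f hP hf
  obtain ⟨fh, hfh, e⟩ := h.ext hS hF hP hf
  obtain ⟨bh, hbh, eb⟩ := h.symm.ext hS hF le_rfl (hfh.mono (le_sup_right : S₂ ≤ P ⊔ S₂))
  have hfin : Finite (S₂ ⊔ S₁ : Subgroup Ω) := by rw [h.symm.sup_eq]; infer_instance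
  have hiso : Iso F (S₂ ⊔ S₁) (S₂ ⊔ S₁) bh := hbh.iso_self (fun x hx => by
    rw [h.symm.sup_eq]
    exact hbh.mem hx)
  obtain ⟨bh', hbh', k1, k2⟩ := hiso.symm
  have hfin1 : Finite S₁ := finite_of_le h.h₁.1
  have hS1 : S₁ ≤ S₂ ⊔ S₁ := le_sup_right
  have hS2 : S₂ ≤ S₂ ⊔ S₁ := le_sup_left
  have ha : Iso F S₁ S₁ bh := (hbh.mono hS1).iso_self
    (fun x hx => StronglyClosed.map_mem h.h₁ hbh (hS1 hx) hx)
  have hm := hfh.comp hbh'.mor (fun y hy => by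
    rw [h.symm.sup_eq]
    exact hfh.mem hy)
  refine ⟨bh, bh' ∘ f, ha, (hR' _ _).2 ⟨hP, _, hm, fun x hx => ?_, fun y hy => ?_⟩, fun x hx => ?_⟩
  · show bh' (fh x) = bh' (f x)
    rw [e x hx]
  · show bh' (fh y) = y
    rw [← eb y hy, k1 y (hS2 hy)]
  · show f x = bh (bh' (f x))
    rw [k2 _ (by rw [h.symm.sup_eq]; exact hf.mem hx)]

theorem extGood (h : DP F S₁ S₂)
    (hR' : ∀ P f, Mor R' P f ↔ P ≤ S₁ ∧ ExtC F S₂ P f) {α : MulAut S₁}
    (hα : α ∈ R'.autGroup S₁) : α ∈ ExtGood F S₁ := by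
  obtain ⟨-, fh, hfh, e1, e2⟩ := (hR' _ _).1 ((mem_autGroup_iff R' le_rfl α).1 hα)
  have hEq : S₁ ⊔ centralizerIn S S₁ = S₁ ⊔ S₂ := by
    refine le_antisymm ?_ (sup_le_sup_left h.le_cent S₁)
    rw [h.sup_eq]
    exact sup_le h.h₁.1 (centralizerIn_le S S₁)
  rw [← hEq] at hfh
  have hfin : Finite (S₁ ⊔ centralizerIn S S₁ : Subgroup Ω) := by
    rw [hEq, h.sup_eq]; infer_instance
  obtain ⟨β, hβ, e⟩ := (hfh.iso_self (fun x hx => by
    rw [hEq, h.sup_eq]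
    exact hfh.mem hx)).exists_aut
  have hS1 : S₁ ≤ S₁ ⊔ centralizerIn S S₁ := le_sup_left
  refine ⟨β, hβ, fun x hx => ?_, fun c hc => ?_⟩
  · rw [autFun_apply β (hS1 hx), e, e1 x hx]
  · rw [autFun_apply β ((le_sup_right : _ ≤ S₁ ⊔ centralizerIn S S₁) hc), e]
    obtain ⟨a, ha, b, hb, rfl⟩ := h.decomp ((centralizerIn_le S S₁) hc)
    have hbC := h.le_cent hb
    have haZ : a ∈ S₁ ⊓ Subgroup.centralizer (S₁ : Set Ω) := by
      refine ⟨ha, ?_⟩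
      have h1 : a = a * b * b⁻¹ := by group
      rw [h1]
      exact Subgroup.mul_mem _ (Subgroup.mem_inf.1 hc).2
        (Subgroup.inv_mem _ (Subgroup.mem_inf.1 hbC).2)
    show (a * b)⁻¹ * fh (a * b) ∈ _
    rw [hfh.map_mul (hS1 ha) ((le_sup_right : _ ≤ S₁ ⊔ centralizerIn S S₁) hbC), e1 a ha, e2 b hb]
    have h2 : (a * b)⁻¹ * (autFun α a * b) = a⁻¹ * autFun α a := by
      have h3 := h.comm (S₁.mul_mem (S₁.inv_mem ha) (autFun_mem α ha)) hb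
      calc (a * b)⁻¹ * (autFun α a * b) = b⁻¹ * (a⁻¹ * autFun α a * b) := by group
        _ = a⁻¹ * autFun α a := by rw [h3]; group
    rw [h2]
    exact Subgroup.mul_mem _ (Subgroup.inv_mem _ haZ) (aut_center_mem α haZ)

end DP

end Cfsg.Agent.Lib.Helper87
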