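import Cfsg.Agent.Lib.Helper87.SurjTools
import Cfsg.Agent.Lib.Helper87.Solvable
import Cfsg.Agent.Lib.Helper87.PPowerExt
import Cfsg.Agent.Lib.Helper87.DirectProd

set_option autoImplicit false

namespace Cfsg.Agent.Lib.Helper87

open Cfsg Cfsg.FusionSystem

variable {Ω : Type*} [Group Ω] {S T : Subgroup Ω} {Ω' : Type*} [Group Ω'] {S' T' : Subgroup Ω'}

/-- Function form of the extension condition. -/
def ExtF (E : FusionSystem T) (F : FusionSystem S) : Prop :=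
  ∀ a : Ω → Ω, Iso E T T a → ∃ b, Iso F (T ⊔ centralizerIn S T) (T ⊔ centralizerIn S T) b ∧
    (∀ x ∈ T, b x = a x) ∧
    ∀ c ∈ centralizerIn S T, c⁻¹ * b c ∈ T ⊓ Subgroup.centralizer (T : Set Ω)

theorem isNormalIn_iff (E : FusionSystem T) (F : FusionSystem S) (p : ℕ) :
    E.IsNormalIn F p ↔ E.IsSaturated p ∧ F.IsSaturated p ∧ E.IsSubsystemOf F ∧
      F.StronglyClosed T ∧ InvF E F ∧ FratF E F ∧ ExtF E F := by
  constructor
  · rintro ⟨⟨h1, h2, h3⟩, h4⟩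
    obtain ⟨h5, h6, h7, h8⟩ := (isInvariantIn_iff E F).1 h3
    refine ⟨h1, h2, h5, h6, h7, h8, fun a ha => ?_⟩
    obtain ⟨α, hα, e⟩ := ha.exists_aut
    obtain ⟨β, hβ, e1, e2⟩ := h4 α hα
    have hA : T ⊔ centralizerIn S T ≤ S := sup_le h6.1 inf_le_left
    refine ⟨autFun β, iso_autFun ((mem_autGroup_iff F hA β).1 hβ), fun x hx => ?_, fun c hc => ?_⟩
    · rw [autFun_apply β ((le_sup_left : T ≤ T ⊔ centralizerIn S T) hx), ← e ⟨x, hx⟩]
      exact e1 ⟨x, hx⟩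
    · rw [autFun_apply β ((le_sup_right : _ ≤ T ⊔ centralizerIn S T) hc)]
      exact e2 ⟨c, _⟩ hc
  · rintro ⟨h1, h2, h5, h6, h7, h8, h9⟩
    refine ⟨⟨h1, h2, (isInvariantIn_iff E F).2 ⟨h5, h6, h7, h8⟩⟩, fun α hα => ?_⟩
    obtain ⟨b, hb, e1, e2⟩ := h9 (autFun α) (iso_autFun ((mem_autGroup_iff E le_rfl α).1 hα))
    obtain ⟨β, hβ, e⟩ := hb.exists_aut
    refine ⟨β, hβ, fun x => ?_, fun c hc => ?_⟩
    · rw [e]
      show b x = _
      rw [e1 x x.2, autFun_coe]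
    · rw [e]
      exact e2 c hc

section Transport

variable {F : FusionSystem S} {F' : FusionSystem S'} {E : FusionSystem T} {E' : FusionSystem T'}
  {θ : Ω → Ω'}

theorem SurjMor.push_iso (h : SurjMor F F' θ) {P Q : Subgroup Ω} {f : Ω → Ω} (hf : Iso F P Q f)
    {P' Q' : Subgroup Ω'} (hP' : ∀ y, y ∈ P' ↔ ∃ x ∈ P, θ x = y)
    (hQ' : ∀ y, y ∈ Q' ↔ ∃ x ∈ Q, θ x = y) :
    ∃ f', Iso F' P' Q' f' ∧ ∀ x ∈ P, f' (θ x) = θ (f x) := by
  obtain ⟨f', hf', e⟩ := h.push P f hf.1 P' hP'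
  refine ⟨f', ⟨hf', fun y => ?_⟩, e⟩
  rw [hQ']
  constructor
  · rintro ⟨z, hz, rfl⟩
    obtain ⟨x, hx, rfl⟩ := hf.surj hz
    exact ⟨θ x, (hP' _).2 ⟨x, hx, rfl⟩, e x hx⟩
  · rintro ⟨z, hz, rfl⟩
    obtain ⟨x, hx, rfl⟩ := (hP' z).1 hz
    exact ⟨f x, hf.map_mem hx, (e x hx).symm⟩

/-- Lifting isomorphisms along an injective surjective morphism. -/
theorem SurjMor.lift_iso (h : SurjMor F F' θ) (hinj : ∀ x ∈ S, ∀ y ∈ S, θ x = θ y → x = y)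
    {P Q : Subgroup Ω} (hP : P ≤ S) (hQ : Q ≤ S) {P' Q' : Subgroup Ω'} {f' : Ω' → Ω'}
    (hf' : Iso F' P' Q' f') (hP' : ∀ y, y ∈ P' ↔ ∃ x ∈ P, θ x = y)
    (hQ' : ∀ y, y ∈ Q' ↔ ∃ x ∈ Q, θ x = y) :
    ∃ f, Iso F P Q f ∧ ∀ x ∈ P, f' (θ x) = θ (f x) := by
  obtain ⟨f, hf, e⟩ := h.lift P' f' hf'.1 P (fun x => by
    constructor
    · intro hx
      exact ⟨hP hx, (hP' _).2 ⟨x, hx, rfl⟩⟩
    · rintro ⟨hx, hx'⟩
      obtain ⟨z, hz, ez⟩ := (hP' _).1 hx'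
      rw [← hinj z (hP hz) x hx ez]
      exact hz)
  refine ⟨f, ⟨hf, fun y => ?_⟩, e⟩
  constructor
  · intro hy
    obtain ⟨z', hz', ez'⟩ := hf'.surj ((hQ' _).2 ⟨y, hy, rfl⟩)
    obtain ⟨x, hx, rfl⟩ := (hP' z').1 hz'
    rw [e x hx] at ez'
    exact ⟨x, hx, hinj _ (hf.mem hx) _ (hQ hy) ez'⟩
  · rintro ⟨x, hx, rfl⟩
    have h1 := hf'.map_mem ((hP' _).2 ⟨x, hx, rfl⟩)
    rw [e x hx] at h1
    obtain ⟨z, hz, ez⟩ := (hQ' _).1 h1
    rw [← hinj z (hQ hz) _ (hf.mem hx) ez]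
    exact hz

theorem SurjMor.lift_mor (h : SurjMor F F' θ) (hinj : ∀ x ∈ S, ∀ y ∈ S, θ x = θ y → x = y)
    {P : Subgroup Ω} (hP : P ≤ S) {P' : Subgroup Ω'} {f' : Ω' → Ω'}
    (hf' : Mor F' P' f') (hP' : ∀ y, y ∈ P' ↔ ∃ x ∈ P, θ x = y) :
    ∃ f, Mor F P f ∧ ∀ x ∈ P, f' (θ x) = θ (f x) :=
  h.lift P' f' hf' P (fun x => by
    constructor
    · intro hx
      exact ⟨hP hx, (hP' _).2 ⟨x, hx, rfl⟩⟩
    · rintro ⟨hx, hx'⟩
      obtain ⟨z, hz, ez⟩ := (hP' _).1 hx'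
      rw [← hinj z (hP hz) x hx ez]
      exact hz)

/-- Transport of normal subsystems along an isomorphism of fusion systems. -/
theorem isNormalIn_transport [Finite S] {p : ℕ} [Fact p.Prime] (hS : IsPGroup p S)
    (h : SurjMor F F' θ) (hinj : ∀ x ∈ S, ∀ y ∈ S, θ x = θ y → x = y) (hE : SurjMor E E' θ)
    (hn : E.IsNormalIn F p) : E'.IsNormalIn F' p := by
  obtain ⟨h1, h2, h3, h4, h5, h6, h7⟩ := (isNormalIn_iff E F p).1 hn
  have hTS : T ≤ S := h4.1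
  have hfinT : Finite T := finite_of_le hTS
  have hinjT : ∀ x ∈ T, ∀ y ∈ T, θ x = θ y → x = y := fun x hx y hy => hinj x (hTS hx) y (hTS hy)
  have hT' : ∀ y, y ∈ T' ↔ ∃ x ∈ T, θ x = y :=
    fun y => ⟨fun hy => hE.surj y hy, by rintro ⟨x, hx, rfl⟩; exact hE.mem x hx⟩
  have hT'eq : T' = h.image T hTS := by
    ext y
    rw [hT', h.mem_image]
  have hT'S : T' ≤ S' := by
    rw [hT'eq]
    exact h.image_le hTS
  -- preimages of subgroups of `T'`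
  have hpre : ∀ P' : Subgroup Ω', P' ≤ T' → ∀ y, y ∈ P' ↔ ∃ x ∈ hE.preimage P', θ x = y := by
    intro P' hP' y
    constructor
    · intro hy
      obtain ⟨x, hx, rfl⟩ := hE.surj y (hP' hy)
      exact ⟨x, (hE.mem_preimage _ _).2 ⟨hx, hy⟩, rfl⟩
    · rintro ⟨x, hx, rfl⟩
      exact ((hE.mem_preimage _ _).1 hx).2
  rw [isNormalIn_iff]
  refine ⟨hE.saturated_target (hS.to_le hTS) h1, h.saturated_target hS h2, ?_, ?_, ?_, ?_, ?_⟩
  · refine isSubsystemOf_of_mor (fun P' f' hf' => ?_)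
    have hP' := hpre P' hf'.le
    obtain ⟨f, hf, e⟩ := hE.lift_mor hinjT (hE.preimage_le P') hf' hP'
    obtain ⟨f'', hf'', e''⟩ := h.push _ f (hf.of_subsystem h3) P' hP'
    refine hf''.congr (fun y hy => ?_)
    obtain ⟨x, hx, rfl⟩ := (hP' y).1 hy
    rw [e'' x hx, e x hx]
  · rw [hT'eq]
    exact h.stronglyClosed_image h4
  · intro P' f' hf' a' ha' X' hX'
    have hP' := hpre P' hf'.le
    obtain ⟨f, hf, e⟩ := hE.lift_mor hinjT (hE.preimage_le P') hf' hP'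
    obtain ⟨a, ha, ea⟩ := h.lift_iso hinj hTS hTS ha' hT' hT'
    have haP := (ha.1.mono (hE.preimage_le P')).iso_img
    obtain ⟨χ, hχ, hc⟩ := h5 _ f hf a ha _ haP.2
    obtain ⟨χ', hχ', ec⟩ := hE.push _ χ hχ X' (fun y => by
      rw [hX']
      constructor
      · rintro ⟨z, hz, rfl⟩
        obtain ⟨x, hx, rfl⟩ := (hP' z).1 hz
        exact ⟨a x, haP.map_mem hx, (ea x (hE.preimage_le P' hx)).symm⟩
      · rintro ⟨z, hz, rfl⟩
        obtain ⟨x, hx, rfl⟩ := haP.surj hz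
        exact ⟨θ x, (hP' _).2 ⟨x, hx, rfl⟩, ea x (hE.preimage_le P' hx)⟩)
    refine ⟨χ', hχ', fun y hy => ?_⟩
    obtain ⟨x, hx, rfl⟩ := (hP' y).1 hy
    rw [ea x (hE.preimage_le P' hx), ec _ (haP.map_mem hx), hc x hx, e x hx, ea _ (hf.mem hx)]
  · intro P' f' hP'T hf'
    have hP' := hpre P' hP'T
    obtain ⟨f, hf, e⟩ := h.lift_mor hinj ((hE.preimage_le P').trans hTS) hf' hP'
    obtain ⟨a, f₀, ha, hf₀, e₀⟩ := h6 _ f (hE.preimage_le P') hf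
    obtain ⟨a', ha', ea⟩ := h.push_iso ha hT' hT'
    obtain ⟨f₀', hf₀', ef⟩ := hE.push _ f₀ hf₀ P' hP'
    refine ⟨a', f₀', ha', hf₀', fun y hy => ?_⟩
    obtain ⟨x, hx, rfl⟩ := (hP' y).1 hy
    rw [e x hx, e₀ x hx, ef x hx, ea _ (hf₀.mem hx)]
  · intro a' ha'
    obtain ⟨a, ha, ea⟩ := hE.lift_iso hinjT le_rfl le_rfl ha' hT' hT'
    obtain ⟨b, hb, e1, e2⟩ := h7 a ha
    have hC : ∀ y, y ∈ centralizerIn S' T' ↔ ∃ x ∈ centralizerIn S T, θ x = y := by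
      intro y
      constructor
      · rintro ⟨hy, hy'⟩
        obtain ⟨x, hx, rfl⟩ := h.surj y hy
        refine ⟨x, ⟨hx, Subgroup.mem_centralizer_iff.2 (fun t ht => ?_)⟩, rfl⟩
        apply hinj _ (S.mul_mem (hTS ht) hx) _ (S.mul_mem hx (hTS ht))
        rw [h.map_mul _ (hTS ht) _ hx, h.map_mul _ hx _ (hTS ht)]
        exact (Subgroup.mem_centralizer_iff.1 hy') _ (hE.mem t ht)
      · rintro ⟨x, hx, rfl⟩
        refine ⟨h.mem x hx.1, Subgroup.mem_centralizer_iff.2 (fun t' ht' => ?_)⟩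
        obtain ⟨t, ht, rfl⟩ := (hT' t').1 ht'
        rw [← h.map_mul _ (hTS ht) _ hx.1, ← h.map_mul _ hx.1 _ (hTS ht),
          (Subgroup.mem_centralizer_iff.1 hx.2) t ht]
    have hCS : centralizerIn S T ≤ S := inf_le_left
    have hA : ∀ y, y ∈ T' ⊔ centralizerIn S' T' ↔ ∃ x ∈ T ⊔ centralizerIn S T, θ x = y := by
      have e3 : T' = h.image T hTS := hT'eq
      have e4 : centralizerIn S' T' = h.image (centralizerIn S T) hCS := by
        ext y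
        rw [hC, h.mem_image]
      intro y
      rw [e4, e3]
      exact h.image_sup hTS hCS y
    obtain ⟨b', hb', eb⟩ := h.push_iso hb hA hA
    refine ⟨b', hb', fun y hy => ?_, fun c' hc' => ?_⟩
    · obtain ⟨x, hx, rfl⟩ := (hT' y).1 hy
      rw [eb x ((le_sup_left : T ≤ _) hx), e1 x hx, ea x hx]
    · obtain ⟨c, hc, rfl⟩ := (hC c').1 hc'
      have hcA : c ∈ T ⊔ centralizerIn S T := (le_sup_right : centralizerIn S T ≤ _) hc
      have hbS : b c ∈ S := hb.1.mem hcA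
      rw [eb c hcA, ← h.map_inv hc.1, ← h.map_mul _ (S.inv_mem hc.1) _ hbS]
      have h8 := e2 c hc
      refine ⟨hE.mem _ h8.1, Subgroup.mem_centralizer_iff.2 (fun t' ht' => ?_)⟩
      obtain ⟨t, ht, rfl⟩ := (hT' t').1 ht'
      rw [← h.map_mul _ (hTS ht) _ (hTS h8.1), ← h.map_mul _ (hTS h8.1) _ (hTS ht),
        (Subgroup.mem_centralizer_iff.1 h8.2) t ht]

/-- The image system of a saturated system along a map injective on it. -/
theorem exists_image_system [Finite T] {p : ℕ} [Fact p.Prime] (hT : IsPGroup p T)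
    (hEs : E.IsSaturated p) (hmul : ∀ x ∈ T, ∀ y ∈ T, θ (x * y) = θ x * θ y)
    (hinj : ∀ x ∈ T, θ x = 1 → x = 1) (hT' : ∀ y, y ∈ T' ↔ ∃ x ∈ T, θ x = y) :
    ∃ E' : FusionSystem T', SurjMor E E' θ := by
  let θ₀ : T →* Ω' := MonoidHom.mk' (fun x : T => θ x) (fun x y => hmul x x.2 y y.2)
  have hker : ∀ s : T, θ₀ s = 1 ↔ (s : Ω) ∈ (⊥ : Subgroup Ω) := by
    intro s
    rw [Subgroup.mem_bot]
    constructor
    · intro h
      exact hinj s s.2 h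
    · intro h
      have : s = 1 := Subtype.ext h
      rw [this, map_one]
  have hrange : θ₀.range = T' := by
    ext y
    rw [hT']
    constructor
    · rintro ⟨x, rfl⟩
      exact ⟨x, x.2, rfl⟩
    · rintro ⟨x, hx, rfl⟩
      exact ⟨⟨x, hx⟩, rfl⟩
  have hfac := isFactorSystem_factorSystem E (stronglyClosed_bot E) θ₀ hker hrange
  have hsm := surjMor_of (Cfsg.Agent.S5134.result p hT E hEs ⊥ (stronglyClosed_bot E) θ₀ _ hfac)
  exact ⟨_, hsm.congr (fun x hx => tf_apply θ₀ hx)⟩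

end Transport

end Cfsg.Agent.Lib.Helper87
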