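import Cfsg.Agent.Lib.Helper87.KProduct2
import Cfsg.Agent.Lib.Helper87.NormalTransport
import Cfsg.Agent.Lib.Helper87.DetByAutT
import Cfsg.Agent.Lib.Helper87.HypAct

set_option autoImplicit false

namespace Cfsg.Agent.Lib.Helper87

open Cfsg Cfsg.FusionSystem

variable {Ω : Type*} [Group Ω] {S T : Subgroup Ω}

/-- The invariant part of `D` in `F`, as a fusion system. -/
def invPart (D F : FusionSystem S) : FusionSystem S :=
  mkSystem S (InvE D F)
    (fun hf e => hf.congr e)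
    (fun hf => hf.1.le)
    (fun hf _ hx => hf.1.mem hx)
    (fun hf _ hx _ hy hxy => hf.1.inj hx hy hxy)
    (by
      intro P g hP hg
      refine ⟨mor_conj F hP hg, fun a ha X hX => ⟨_, mor_conj D ?_ (ha.map_mem hg), fun x hx => ?_⟩⟩
      · intro y hy
        obtain ⟨x, hx, rfl⟩ := (hX y).1 hy
        exact ha.map_mem (hP hx)
      · exact (ha.mor.map_conj hg (hP hx)).symm)
    (fun hf hg hPQ => hf.comp hg hPQ)
    (by
      intro P Q f hf _ hQ
      have hiso : Iso F P Q f := ⟨hf.1, hQ⟩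
      obtain ⟨g, hg, hgf, -⟩ := hiso.symm
      exact ⟨g, hf.inv hiso hg hgf, hgf⟩)

/-- The full subsystem of `D` on a strongly closed subgroup. -/
def resSystem (D : FusionSystem S) (hT : D.StronglyClosed T) : FusionSystem T :=
  mkSystem T (fun P f => P ≤ T ∧ Mor D P f)
    (fun hf e => ⟨hf.1, hf.2.congr e⟩)
    (fun hf => hf.1)
    (fun hf _ hx => StronglyClosed.map_mem hT hf.2 hx (hf.1 hx))
    (fun hf _ hx _ hy hxy => hf.2.inj hx hy hxy)
    (fun hP hg => ⟨hP, mor_conj D (hP.trans hT.1) (hT.1 hg)⟩)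
    (fun hf hg hPQ => ⟨hf.1, hf.2.comp hg.2 hPQ⟩)
    (by
      intro P Q f hf _ hQ
      have hiso : Iso D P Q f := ⟨hf.2, hQ⟩
      obtain ⟨g, hg, hgf, -⟩ := hiso.symm
      refine ⟨g, ⟨fun y hy => ?_, hg.mor⟩, hgf⟩
      obtain ⟨x, hx, rfl⟩ := hiso.surj hy
      exact StronglyClosed.map_mem hT hf.2 hx (hf.1 hx))

theorem mor_resSystem_iff (D : FusionSystem S) (hT : D.StronglyClosed T) (P : Subgroup Ω)
    (f : Ω → Ω) : Mor (resSystem D hT) P f ↔ P ≤ T ∧ Mor D P f :=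
  mor_mkSystem_iff T _ _ _ _ _ _ _ _ (fun hf _ hx _ hy => hf.2.map_mul hx hy) P f

theorem StronglyClosed.of_le {D F : FusionSystem S} (hT : F.StronglyClosed T)
    (hDF : D.IsSubsystemOf F) : D.StronglyClosed T :=
  ⟨hT.1, fun R hR φ hφ x => hT.2 R hR φ (hDF R hφ) x⟩

/-- The extension condition is automatic for subsystems over `S`. -/
theorem extF_top {D F : FusionSystem S} (hDF : D.IsSubsystemOf F) : ExtF D F := by
  intro a ha
  have haF : Iso F S S a := ⟨ha.mor.of_subsystem hDF, ha.2⟩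
  refine ⟨a, ?_, fun _ _ => rfl, fun c hc => ?_⟩
  · rw [sup_eq_left.2 (centralizerIn_le S S)]
    exact haF
  · exact Subgroup.mul_mem _ (Subgroup.inv_mem _ hc)
      (haF.mor.map_mem_centralizerIn le_rfl haF.2 hc.1 ((mem_centralizerIn_iff S S c).1 hc).2)

/-- `T C_S(T)` is centric for `T` strongly closed. -/
theorem centric_sup_centralizer [Finite S] {F : FusionSystem S} (hT : F.StronglyClosed T) :
    F.IsCentric (T ⊔ centralizerIn S T) := by
  have : Finite T := finite_of_le hT.1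
  refine ⟨sup_le hT.1 (centralizerIn_le S T), fun Q hQ => ?_⟩
  obtain ⟨f, hf⟩ := (isConj_iff F _ Q).1 hQ
  have hfT : Iso F T T f := (hf.mor.mono le_sup_left).iso_self
    (fun x hx => StronglyClosed.map_mem hT hf.mor ((le_sup_left : T ≤ _) hx) hx)
  have hTQ : T ≤ Q := by
    intro y hy
    obtain ⟨x, hx, rfl⟩ := hfT.surj hy
    exact hf.map_mem ((le_sup_left : T ≤ _) hx)
  have hsurj := hf.mor.surj_of_card_le (A := centralizerIn S T) (B := centralizerIn S T) le_sup_right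
    (centralizerIn_le S T) (fun c hc => hf.mor.map_mem_centralizerIn le_sup_left hfT.2
      ((le_sup_right : _ ≤ T ⊔ centralizerIn S T) hc) ((mem_centralizerIn_iff S T c).1 hc).2) le_rfl
  intro c hc
  obtain ⟨x, hx, rfl⟩ := hsurj c (centralizerIn_anti S hTQ hc)
  exact hf.map_mem ((le_sup_right : _ ≤ T ⊔ centralizerIn S T) hx)

namespace KData

variable {E : FusionSystem T} {F : FusionSystem S} {p : ℕ} {𝒦 : Subgroup (MulAut T)}
variable [Finite S] [Fact p.Prime] (hS : IsPGroup p S) (h : KData E F p 𝒦)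

theorem mor_sys_iff {P : Subgroup Ω} (hP : P ∈ fam E F) (f : Ω → Ω) :
    Mor (h.sys hS) P f ↔ Mor F P f ∧ Mor h.kSystem (P ⊓ T) f := by
  unfold sys
  rw [mor_genPart_iff _ hP, mor_bigSystem_iff]

theorem mor_sys_big {P : Subgroup Ω} {f : Ω → Ω} (hf : Mor (h.sys hS) P f) :
    Mor F P f ∧ Mor h.kSystem (P ⊓ T) f :=
  (h.mor_bigSystem_iff hS P f).1 (hf.of_le (genPart_le _ _))

theorem sys_le : (h.sys hS).IsSubsystemOf F := by
  intro P φ hφ
  exact (h.mor_sys_big hS (Mor.of_hom hφ)).1.mem_hom (fun x => (ext_coe φ x).symm)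

theorem OpP_le_sys {P : Subgroup Ω} (hP : P ∈ fam E F) : OpP F p P ≤ (h.sys hS).autGroup P := by
  refine (Subgroup.closure_le _).2 ?_
  rintro β ⟨hβ, k, hk⟩
  show β ∈ (h.sys hS).autGroup P
  rw [mem_autGroup_iff _ hP.1.1, h.mor_sys_iff hS hP]
  have hβm := (mem_autGroup_iff F hP.1.1 β).1 hβ
  refine ⟨hβm, ?_⟩
  have : Finite (P ⊓ T : Subgroup Ω) := finite_of_le (inf_le_left.trans hP.1.1)
  obtain ⟨b, hb, eb, hord⟩ := restrict_aut hP.1.1 inf_le_left hβ
    (fun t ht => ⟨autFun_mem β ht.1, StronglyClosed.map_mem h.sc hβm ht.1 ht.2⟩)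
  have hbp : b ^ (p ^ k) = 1 := by
    rw [← hk]
    exact orderOf_dvd_iff_pow_eq_one.1 hord
  exact (h.mor_of_pow hS inf_le_right hb hbp).congr (fun x hx => by rw [autFun_apply b hx, eb])

omit [Finite S] [Fact p.Prime] in
include h in
theorem iso_T {a : Ω → Ω} (ha : Iso F S S a) : Iso F T T a := by
  have := StronglyClosed.iso_inf h.sc ha
  rwa [inf_eq_right.2 h.sc.1] at this

theorem mor_sys_top_iff (a : Ω → Ω) :
    Mor (h.sys hS) S a ↔ Mor F S a ∧ Mor h.kSystem T a := by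
  rw [h.mor_sys_iff hS h.top_mem_fam, inf_eq_right.2 h.sc.1]

theorem sys_closed {a : Ω → Ω} (ha : Iso F S S a) {R : Subgroup Ω} (hR : R ∈ fam E F)
    (hm : Mor (h.sys hS) R a) : Mor (h.sys hS) S a := by
  rw [h.mor_sys_iff hS hR] at hm
  rw [h.mor_sys_top_iff hS]
  exact ⟨ha.mor, h.closed hS _ (R ⊓ T) a hR.2 (h.iso_T ha) hm.2 rfl⟩

include hS h in
theorem not_rad {U : Subgroup Ω} (hU : F.IsCentric U) (hU' : U ∉ fam E F) :
    ¬ (OpAut F p U ≤ Inn U) :=
  not_OpAut_le_inn_of_not_centric hS h.satF h.sc h.sub hU (fun hc => hU' ⟨hU, hc⟩)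

theorem sys_frat : FratS (h.sys hS) F :=
  frattini_family hS h.satF (ℋ := fam E F) (fun _ hP _ hQ => h.fam_conj hP hQ)
    (fun _ hP => hP.1.1) (fun _ hP => h.OpP_le_sys hS hP) (fun _ hU hU' => h.not_rad hS hU hU')

theorem sys_saturated : (h.sys hS).IsSaturated p :=
  saturated_of_family hS h.satF (h.sys_le hS) (ℋ := fam E F)
    (fun _ hP _ hQ => h.fam_conj hP hQ) (fun _ hP => hP.1.1) (h.sys_frat hS)
    (fun _ ha _ hR hm => h.sys_closed hS ha hR hm) (genPart_gen _ _)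
    (fun _ hU hU' => h.not_rad hS hU hU')

theorem sys_primeIndex : (h.sys hS).HasPrimeToPIndexIn F p := by
  refine ⟨h.sys_le hS, fun P hP => ?_⟩
  rw [OpP_eq]
  exact OpP_le_of_frat h.satF (h.sys_frat hS) hP

theorem sys_invE {P : Subgroup Ω} {f : Ω → Ω} (hf : Mor (h.sys hS) P f) :
    InvE (h.sys hS) F P f := by
  have hle : h.sys hS ≤ invPart (h.sys hS) F := by
    refine genPart_gen _ _ _ (fun P hP φ hφ => ?_)
    show InvE (h.sys hS) F P (ext φ)
    have hm : Mor (h.sys hS) P (ext φ) := Mor.of_hom hφ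
    set f := ext φ
    have hm' := (h.mor_sys_iff hS hP f).1 hm
    refine ⟨hm'.1, fun a ha X hX => ?_⟩
    have hiso : Iso F P X a := ⟨ha.mor.mono hP.1.1, hX⟩
    have hXf : X ∈ fam E F := h.fam_conj hP hiso.isConj
    obtain ⟨a', ha', ha'a, haa'⟩ := hiso.symm
    obtain ⟨χ', hχ', hc⟩ := h.invF (P ⊓ T) f hm'.2 a (h.iso_T ha) (X ⊓ T)
      (StronglyClosed.iso_inf h.sc hiso).2
    refine ⟨a ∘ f ∘ a', (h.mor_sys_iff hS hXf _).2 ⟨(ha'.mor.comp hm'.1
      (fun y hy => ha'.map_mem hy)).comp ha.mor (fun y hy => hm'.1.mem (ha'.map_mem hy)),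
      hχ'.congr (fun y hy => ?_)⟩, fun x hx => ?_⟩
    · obtain ⟨x, hx, rfl⟩ := (StronglyClosed.iso_inf h.sc hiso).surj hy
      show χ' (a x) = a (f (a' (a x)))
      rw [hc x hx, ha'a x hx.1]
    · show a (f (a' (a x))) = a (f x)
      rw [ha'a x hx]
  obtain ⟨φ, hφ, e⟩ := hf
  have h1 : InvE (h.sys hS) F P (ext φ) := hle P hφ
  exact h1.congr (fun x hx => by rw [ext_apply φ hx, e])

theorem sys_normal : (h.sys hS).IsNormalIn F p := by
  refine (isNormalIn_iff _ F p).2 ⟨h.sys_saturated hS, h.satF, h.sys_le hS, stronglyClosed_top F,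
    fun P f hf a ha X hX => (h.sys_invE hS hf).2 a ha X hX, fun P f _ hf => ?_,
    extF_top (h.sys_le hS)⟩
  obtain ⟨a, f₀, ha, hf₀, e⟩ := h.sys_frat hS P f hf
  exact ⟨a, f₀, ha, hf₀.mor, e⟩

theorem E_le_sys (hext : ExtF E F) : E.IsSubsystemOf (h.sys hS) := by
  have : Finite T := finite_of_le h.sc.1
  have hT : IsPGroup p T := hS.to_le h.sc.1
  have hsc : (h.sys hS).StronglyClosed T := StronglyClosed.of_le h.sc (h.sys_le hS)
  have hfrat : FratF (resSystem (h.sys hS) hsc) F := by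
    intro P f hP hf
    obtain ⟨a, f₀, ha, hf₀, e⟩ := h.sys_frat hS P f hf
    exact ⟨a, f₀, h.iso_T ha, (mor_resSystem_iff _ hsc P f₀).2 ⟨hP, hf₀.mor⟩, e⟩
  have hAut : ∀ a, Iso E T T a → Mor (resSystem (h.sys hS) hsc) T a := by
    intro a ha
    obtain ⟨b, hb, e1, -⟩ := hext a ha
    have hA : T ⊔ centralizerIn S T ∈ fam E F := by
      refine ⟨centric_sup_centralizer h.sc, ?_⟩
      rw [inf_eq_right.2 le_sup_left]
      exact centric_top E
    have hbD : Mor (h.sys hS) (T ⊔ centralizerIn S T) b := by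
      rw [h.mor_sys_iff hS hA, inf_eq_right.2 le_sup_left]
      exact ⟨hb.mor, (h.mor_of_E ha.mor).congr (fun x hx => (e1 x hx).symm)⟩
    exact (mor_resSystem_iff _ hsc T a).2 ⟨le_rfl, (hbD.mono le_sup_left).congr e1⟩
  intro P φ hφ
  have h1 := subsystem_of_autT_le hT h.sat h.sub hfrat hAut P (ext φ) (Mor.of_hom hφ)
  exact ((mor_resSystem_iff _ hsc P _).1 h1).2.mem_hom (fun x => (ext_coe φ x).symm)

theorem mem_autGroup_sys_iff (α : MulAut S) :
    α ∈ (h.sys hS).autGroup S ↔ α ∈ F.autGroup S ∧ ∃ κ ∈ 𝒦, ∀ x ∈ T, autFun α x = autFun κ x := by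
  have : Finite T := finite_of_le h.sc.1
  rw [mem_autGroup_iff _ le_rfl, h.mor_sys_top_iff hS, mem_autGroup_iff F le_rfl, h.mor_top_iff]

theorem sys_ne {β : MulAut T} (hβ : β ∈ F.autGroup T) (hβK : β ∉ 𝒦) :
    ¬ (∀ P : Subgroup Ω, (h.sys hS).Hom P = F.Hom P) := by
  have : Finite T := finite_of_le h.sc.1
  intro hall
  have h1 : Mor F T (autFun β) := (mem_autGroup_iff F h.sc.1 β).1 hβ
  have h2 : Mor (h.sys hS) T (autFun β) := by
    obtain ⟨φ, hφ, e⟩ := h1
    exact ⟨φ, (hall T).symm ▸ hφ, e⟩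
  have h3 := (h.mor_sys_big hS h2).2
  rw [inf_idem] at h3
  obtain ⟨κ, hκ, e⟩ := (h.mor_top_iff _).1 h3
  apply hβK
  have : β = κ := by
    ext x
    have := e x x.2
    rwa [autFun_coe, autFun_coe] at this
  rw [this]
  exact hκ

end KData

end Cfsg.Agent.Lib.Helper87
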