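import Cfsg.Agent.Lib.Helper87.Craven5
import Cfsg.Agent.Lib.Helper87.KProduct3

set_option autoImplicit false

namespace Cfsg.Agent.Lib.Helper87

open Cfsg Cfsg.FusionSystem

variable {Ω : Type*} [Group Ω] {S T : Subgroup Ω}

/-- The decomposition of an element of finite order into its `p`-part and its `p'`-part. -/
theorem exists_p_decomp {G : Type*} [Group G] [Finite G] {p : ℕ} [hp : Fact p.Prime] (α : G) :
    ∃ (n : ℕ) (k : ℕ), (orderOf (α ^ n)).Coprime p ∧ orderOf (α * (α ^ n)⁻¹) = p ^ k := by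
  obtain ⟨e, m, hm, ho⟩ := Nat.exists_eq_pow_mul_and_not_dvd (orderOf_pos α).ne' p hp.out.ne_one
  have hx : (α ^ (p ^ e)) ^ m = 1 := by
    rw [← pow_mul, ← ho]
    exact pow_orderOf_eq_one α
  have hmc : m.Coprime p := ((Nat.Prime.coprime_iff_not_dvd hp.out).2 hm).symm
  have hxo : (orderOf (α ^ (p ^ e))).Coprime p :=
    Nat.Coprime.coprime_dvd_left (orderOf_dvd_of_pow_eq_one hx) hmc
  obtain ⟨i, hi⟩ := exists_pow_eq_self_of_coprime (Nat.Coprime.pow_right e hxo).symm
  have h1 : (orderOf (α ^ (p ^ e * i))).Coprime p := by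
    rw [pow_mul]
    exact Nat.Coprime.coprime_dvd_left (orderOf_pow_dvd i) hxo
  have hcomm : Commute α (α ^ (p ^ e * i))⁻¹ := ((Commute.refl α).pow_right _).inv_right
  have h2 : (α * (α ^ (p ^ e * i))⁻¹) ^ (p ^ e) = 1 := by
    rw [hcomm.mul_pow, inv_pow, ← pow_mul, mul_comm (p ^ e) i, mul_assoc, mul_comm i, pow_mul,
      pow_mul, hi, mul_inv_cancel]
  obtain ⟨k, -, hk⟩ := (Nat.dvd_prime_pow hp.out).1 (orderOf_dvd_of_pow_eq_one h2)
  exact ⟨p ^ e * i, k, h1, hk⟩

section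

variable [Finite S] {p : ℕ} [hp : Fact p.Prime] (hS : IsPGroup p S) {F : FusionSystem S}
  (hF : F.IsSaturated p) {E : FusionSystem T} (hE : E.IsSaturated p) (hsub : E.IsSubsystemOf F)
  (hT : F.StronglyClosed T) (hinv : InvF E F) (hfrat : FratF E F)

include hS hF hE hsub hT hinv hfrat

/-- **Step C.** -/
theorem good_top_of_good {a : Ω → Ω} (ha : Iso E T T a) {R : Subgroup Ω} (hR : E.IsCentric R)
    (hg : GoodX F T R a) : GoodX F T T a := by
  have hTfin : Finite T := finite_of_le hT.1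
  obtain ⟨α, hα, eα⟩ := ha.exists_aut
  have eα' : ∀ x ∈ T, autFun α x = a x := fun x hx => by rw [autFun_apply α hx, eα]
  obtain ⟨n, k, hcop, hk⟩ := exists_p_decomp (p := p) α
  set α' := α ^ n with hα'
  set δ := α * α'⁻¹ with hδ
  have hα'E : α' ∈ E.autGroup T := Subgroup.pow_mem _ hα n
  have hδE : δ ∈ E.autGroup T := Subgroup.mul_mem _ hα (Subgroup.inv_mem _ hα'E)
  have hcT := centric_top E
  have hgδ : GoodX F T T (autFun δ) := good_of_pElement hS hF hE hsub hT hinv hfrat hcT hδE hk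
  have hgδi : GoodX F T T (autFun δ⁻¹) :=
    good_of_pElement hS hF hE hsub hT hinv hfrat hcT (Subgroup.inv_mem _ hδE)
      (by rw [orderOf_inv]; exact hk)
  have h1 : GoodX F T R (autFun α') := by
    refine (GoodX.comp hT hinv hfrat hR hg hgδi le_rfl
      (fun x hx => ha.map_mem (hR.1 hx))).congr (fun x hx => ?_)
    show autFun δ⁻¹ (a x) = _
    rw [← eα' x (hR.1 hx), ← autFun_mul _ _ (hR.1 hx)]
    congr 2
    rw [hδ]
    group
  have hα'F : α' ∈ F.autGroup T := by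
    rw [mem_autGroup_iff F hT.1]
    exact ((mem_autGroup_iff E le_rfl α').1 hα'E).of_subsystem hsub
  have h2 := good_top_of_coprime hS hF hT hinv hfrat hα'F hcop hR h1
  refine (GoodX.comp hT hinv hfrat hcT h2 hgδ le_rfl (fun x hx => autFun_mem α' hx)).congr
    (fun x hx => ?_)
  show autFun δ (autFun α' x) = _
  rw [← autFun_mul _ _ hx, ← eα' x hx]
  congr 2
  rw [hδ]
  group

theorem goodSystem_mem_closedFam : goodSystem hT hinv hfrat ∈ closedFam E p := by
  refine ⟨fun P φ hφ => ?_, fun P hP => ?_, fun a ha R hR h => ?_⟩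
  · exact ((mor_goodSystem_iff hT hinv hfrat P _).1 (Mor.of_hom hφ)).1.mem_hom
      (fun x => (ext_coe φ x).symm)
  · refine (Subgroup.closure_le _).2 ?_
    rintro β ⟨hβ, k, hk⟩
    show β ∈ (goodSystem hT hinv hfrat).autGroup P
    rw [mem_autGroup_iff _ hP.1, mor_goodSystem_iff]
    exact ⟨(mem_autGroup_iff E hP.1 β).1 hβ,
      fun _ => good_of_pElement hS hF hE hsub hT hinv hfrat hP hβ hk⟩
  · rw [mor_goodSystem_iff] at h ⊢
    exact ⟨ha.mor, fun _ => good_top_of_good hS hF hE hsub hT hinv hfrat ha hR (h.2 hR)⟩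

/-- The extension condition for `O^{p'}(E)`. -/
theorem extF_residualSystem : ExtF (residualSystem E p) F := by
  have hTfin : Finite T := finite_of_le hT.1
  intro a ha
  have h1 := ((mor_residualSystem_iff (centric_top E) a).1 ha.mor).2 _
    (goodSystem_mem_closedFam hS hF hE hsub hT hinv hfrat)
  obtain ⟨f', hf', ef, hfT⟩ := ((mor_goodSystem_iff hT hinv hfrat T a).1 h1).2 (centric_top E)
  have hQ : ∀ y, y ∈ T ↔ ∃ x ∈ T, f' x = y := by
    intro y
    rw [ha.2 y]
    constructor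
    · rintro ⟨x, hx, rfl⟩
      exact ⟨x, hx, ef x hx⟩
    · rintro ⟨x, hx, rfl⟩
      exact ⟨x, hx, (ef x hx).symm⟩
  refine ⟨f', good_iso hT hinv hfrat (centric_top E) hf' hfT hQ, ef, fun c hc => ⟨hfT c hc, ?_⟩⟩
  have h2 := hf'.map_mem_centralizerIn (le_sup_left : T ≤ T ⊔ centralizerIn S T) hQ
    ((le_sup_right : _ ≤ T ⊔ centralizerIn S T) hc) ((mem_centralizerIn_iff S T c).1 hc).2
  exact Subgroup.mul_mem _ (Subgroup.inv_mem _ hc.2) h2.2

end

end Cfsg.Agent.Lib.Helper87
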