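import Cfsg.Agent.Lib.Helper87.Craven6

set_option autoImplicit false

namespace Cfsg.Agent.Lib.Helper87

open Cfsg Cfsg.FusionSystem

variable {Ω : Type*} [Group Ω] {S T : Subgroup Ω}

theorem congr_mem_autGroup_of_strong {F : FusionSystem S} {E : FusionSystem T}
    (hst : StrongInvF E F) {R U : Subgroup Ω} {ρ : Ω → Ω} (hρ : Iso F R U ρ) (hR : R ≤ T)
    (hU : U ≤ T) {β : MulAut R} (hβ : β ∈ E.autGroup R) :
    MulAut.congr hρ.toMulEquiv β ∈ E.autGroup U := by
  obtain ⟨χ, hχ, hc⟩ := hst R R _ _ le_rfl hR ((mem_autGroup_iff E hR β).1 hβ)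
    (fun x hx => autFun_mem β hx) hρ.mor U hρ.2
  rw [mem_autGroup_iff E hU]
  refine hχ.congr (fun y hy => ?_)
  obtain ⟨x, hx, rfl⟩ := hρ.surj hy
  rw [hc x hx, autFun_congr hρ β hx]

theorem congr_mem_OpP_of_strong {F : FusionSystem S} {E : FusionSystem T} {p : ℕ}
    (hst : StrongInvF E F) {R U : Subgroup Ω} {ρ : Ω → Ω} (hρ : Iso F R U ρ) (hR : R ≤ T)
    (hU : U ≤ T) {β : MulAut R} (hβ : β ∈ OpP E p R) :
    MulAut.congr hρ.toMulEquiv β ∈ OpP E p U := by
  induction hβ using Subgroup.closure_induction with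
  | mem x hx =>
    refine Subgroup.subset_closure ⟨congr_mem_autGroup_of_strong hst hρ hR hU hx.1, ?_⟩
    obtain ⟨k, hk⟩ := hx.2
    refine ⟨k, ?_⟩
    rw [← hk]
    exact orderOf_injective (MulAut.congr hρ.toMulEquiv).toMonoidHom
      (MulAut.congr hρ.toMulEquiv).injective x
  | one => rw [map_one]; exact Subgroup.one_mem _
  | mul a b _ _ iha ihb => rw [map_mul]; exact Subgroup.mul_mem _ iha ihb
  | inv a _ iha => rw [map_inv]; exact Subgroup.inv_mem _ iha

theorem mor_invPart_iff (D F : FusionSystem S) (P : Subgroup Ω) (f : Ω → Ω) :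
    Mor (invPart D F) P f ↔ InvE D F P f :=
  mor_mkSystem_iff S _ _ _ _ _ _ _ _ (fun hf _ hx _ hy => hf.1.map_mul hx hy) P f

section

variable [Finite S] {p : ℕ} [hp : Fact p.Prime] (hS : IsPGroup p S) {F : FusionSystem S}
  {E : FusionSystem T} (hE : E.IsSaturated p) (hsub : E.IsSubsystemOf F)
  (hT : F.StronglyClosed T) (hinv : InvF E F) (hfrat : FratF E F)

include hsub hT hinv hfrat in
theorem invPart_mem_closedFam :
    invPart (residualSystem E p) (resSystem F hT) ∈ closedFam E p := by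
  have hTfin : Finite T := finite_of_le hT.1
  have hst := strongInvF_of_invariant hinv hfrat
  have hisoF : ∀ {a : Ω → Ω}, Iso (resSystem F hT) T T a → Iso F T T a :=
    fun ha => ⟨((mor_resSystem_iff F hT T _).1 ha.mor).2, ha.2⟩
  refine ⟨fun P φ hφ => ?_, fun P hP β hβ => ?_, fun a₀ ha₀ R hR h => ?_⟩
  · exact (((mor_invPart_iff _ _ P _).1 (Mor.of_hom hφ)).mor.of_le
      (residualSystem_le E p)).mem_hom (fun x => (ext_coe φ x).symm)
  · rw [mem_autGroup_iff _ hP.1, mor_invPart_iff]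
    refine ⟨(mor_resSystem_iff F hT P _).2 ⟨hP.1,
      ((mem_autGroup_iff E hP.1 β).1 (OpP_le E p P hβ)).of_subsystem hsub⟩, fun a ha X hX => ?_⟩
    have hiso : Iso F P X a := ⟨(hisoF ha).mor.mono hP.1, hX⟩
    have hXc : E.IsCentric X := centric_of_iso_F hinv hfrat hP hiso
    have h1 := OpP_le_residualSystem hXc (congr_mem_OpP_of_strong hst hiso hP.1 hXc.1 hβ)
    exact ⟨_, (mem_autGroup_iff _ hXc.1 _).1 h1, fun x hx => autFun_congr hiso β hx⟩
  · rw [mor_invPart_iff] at h ⊢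
    refine ⟨(mor_resSystem_iff F hT T _).2 ⟨le_rfl, ha₀.mor.of_subsystem hsub⟩,
      fun a ha X hX => ?_⟩
    have haF := hisoF ha
    have hXT : X = T := by
      ext y
      rw [hX y, haF.2 y]
    subst hXT
    obtain ⟨χ, hχ, hc⟩ := hinv X a₀ ha₀.mor a haF X hX
    have hχi : Iso E X X χ := hχ.iso_self (fun y hy => hχ.mem hy)
    have hisoR : Iso F R (img R a) a := (haF.mor.mono hR.1).iso_img
    obtain ⟨χR, hχR, hcR⟩ := h.2 a ha (img R a) hisoR.2
    refine ⟨χ, residualSystem_closed hχi (centric_of_iso_F hinv hfrat hR hisoR)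
      (hχR.congr (fun y hy => ?_)), hc⟩
    obtain ⟨x, hx, rfl⟩ := hisoR.surj hy
    rw [hcR x hx, hc x (hR.1 hx)]

include hsub hT hinv hfrat in
theorem invF_residualSystem : InvF (residualSystem E p) F := by
  have hle : residualSystem E p ≤ invPart (residualSystem E p) (resSystem F hT) := by
    refine genPart_gen _ _ _ (fun P hP φ hφ => ?_)
    have h1 : Mor (residualSystem E p) P (ext φ) := Mor.of_hom hφ
    exact (((mor_residualSystem_iff hP _).1 h1).2 _
      (invPart_mem_closedFam hsub hT hinv hfrat)).mem_hom (fun x => (ext_coe φ x).symm)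
  intro P f hf a ha X hX
  exact ((mor_invPart_iff _ _ P f).1 (hf.of_le hle)).2 a
    ⟨(mor_resSystem_iff F hT T a).2 ⟨le_rfl, ha.mor⟩, ha.2⟩ X hX

include hS hE hsub hT hfrat in
theorem fratF_residualSystem : FratF (residualSystem E p) F := by
  have hTfin : Finite T := finite_of_le hT.1
  intro P f hP hf
  obtain ⟨a, f₀, ha, hf₀, e⟩ := hfrat P f hP hf
  obtain ⟨a₁, f₁, ha₁, hf₁, e₁⟩ := residualSystem_frat (hS.to_le hT.1) hE P f₀ hf₀
  refine ⟨a ∘ a₁, f₁, Iso.trans ⟨ha₁.mor.of_subsystem hsub, ha₁.2⟩ ha, hf₁.mor, fun x hx => ?_⟩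
  rw [e x hx, e₁ x hx]
  rfl

include hS hE hsub hT hinv hfrat in
/-- **Craven's theorem**: `O^{p'}` of a weakly normal subsystem is normal. -/
theorem residual_normal_of_weaklyNormal (hF : F.IsSaturated p) {D : FusionSystem T}
    (hD : E.IsPPrimeResidual p D) : D.IsNormalIn F p := by
  have hTfin : Finite T := finite_of_le hT.1
  have hTp : IsPGroup p T := hS.to_le hT.1
  have hres := isPPrimeResidual_residualSystem hTp hE
  have h1 : D.IsSubsystemOf (residualSystem E p) := hD.2.2 _ hres.1 hres.2.1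
  have h2 : (residualSystem E p).IsSubsystemOf D := hres.2.2 _ hD.1 hD.2.1
  have hiff : ∀ (P : Subgroup Ω) (f : Ω → Ω), Mor D P f ↔ Mor (residualSystem E p) P f :=
    fun P f => ⟨fun h => h.of_subsystem h1, fun h => h.of_subsystem h2⟩
  refine (isNormalIn_iff D F p).2 ⟨hD.1, hF, fun P φ hφ => hsub P (hD.2.1.1 P hφ), hT, ?_, ?_, ?_⟩
  · intro P f hf a ha X hX
    obtain ⟨χ, hχ, hc⟩ := invF_residualSystem hsub hT hinv hfrat P f ((hiff P f).1 hf) a ha X hX
    exact ⟨χ, (hiff X χ).2 hχ, hc⟩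
  · intro P f hP hf
    obtain ⟨a, f₀, ha, hf₀, e⟩ := fratF_residualSystem hS hE hsub hT hfrat P f hP hf
    exact ⟨a, f₀, ha, (hiff P f₀).2 hf₀, e⟩
  · intro a ha
    exact extF_residualSystem hS hF hE hsub hT hinv hfrat a ⟨(hiff T a).1 ha.mor, ha.2⟩

end

end Cfsg.Agent.Lib.Helper87
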