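import Cfsg.Agent.Lib.Helper87.Hyperfocal
import Cfsg.Agent.Lib.Helper87.NormalSubgroupSystem
import Cfsg.Agent.Lib.Helper2.Hyperfocal
import Cfsg.Agent.S5092

set_option autoImplicit false

namespace Cfsg.Agent.Lib.Helper87.HG

open Cfsg.Agent.Lib.Helper87

open Cfsg Cfsg.FusionSystem
open scoped commutatorElement

variable {G : Type*} [Group G]

theorem aut_pow_apply {P : Subgroup G} {α : MulAut P} {g : G}
    (e : ∀ x : P, ((α x : P) : G) = g * x * g⁻¹) (n : ℕ) (x : P) :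
    (((α ^ n) x : P) : G) = g ^ n * x * (g ^ n)⁻¹ := by
  induction n generalizing x with
  | zero => simp
  | succ n ih =>
    rw [pow_succ', MulAut.mul_apply, e, ih, pow_succ']
    group

/-- An automorphism of order prime to `p` induced by conjugation is induced by an element of order prime
to `p`. -/
theorem exists_coprime_inducing [Finite G] {p : ℕ} [hp : Fact p.Prime] {P : Subgroup G}
    {α : MulAut P} (hα : Nat.Coprime (orderOf α) p) {g : G}
    (e : ∀ x : P, ((α x : P) : G) = g * x * g⁻¹) :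
    ∃ g' : G, Nat.Coprime (orderOf g') p ∧ ∀ x : P, ((α x : P) : G) = g' * x * g'⁻¹ := by
  obtain ⟨a, m, hm, hgm⟩ := Nat.exists_eq_pow_mul_and_not_dvd (orderOf_pos g).ne' p hp.out.ne_one
  have hcop : Nat.Coprime (p ^ a) (orderOf α) := (Nat.Coprime.pow_right a hα).symm
  obtain ⟨j, hj⟩ := exists_pow_eq_self_of_coprime hcop
  refine ⟨(g ^ (p ^ a)) ^ j, ?_, fun x => ?_⟩
  · have h1 : (g ^ (p ^ a)) ^ m = 1 := by
      rw [← pow_mul, ← hgm]
      exact pow_orderOf_eq_one g
    have h2 : orderOf ((g ^ (p ^ a)) ^ j) ∣ m :=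
      (orderOf_pow_dvd j).trans (orderOf_dvd_of_pow_eq_one h1)
    exact Nat.Coprime.coprime_dvd_left h2 ((Nat.Prime.coprime_iff_not_dvd hp.out).2 hm).symm
  · conv_lhs => rw [← hj]
    rw [← pow_mul, ← pow_mul]
    exact aut_pow_apply e _ x

theorem hyperfocal_group_le [Finite G] {p : ℕ} [Fact p.Prime] (S : Subgroup G) :
    (groupFusionSystem S).hyperfocalSubgroup p ≤ S ⊓ pResidual p G := by
  refine le_inf (hyperfocal_le _ p) ?_
  unfold FusionSystem.hyperfocalSubgroup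
  rw [Subgroup.closure_le]
  rintro _ ⟨P, α, x, hP, hα, rfl⟩
  have hn : (pResidual p G).Normal := inferInstance
  have key : ∀ α ∈ pResidual p ((groupFusionSystem S).autGroup P), ∀ x : P,
      (x : G)⁻¹ * ((α : MulAut P) x : P) ∈ pResidual p G := by
    intro α hα
    induction hα using Subgroup.closure_induction with
    | mem β hβ =>
      intro x
      obtain ⟨-, g, hg⟩ := (mor_group_iff S P _).1 ((mem_autGroup_iff _ hP β.1).1 β.2)
      have hβ' : Nat.Coprime (orderOf (β : MulAut P)) p := by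
        rw [Subgroup.orderOf_coe]
        exact hβ
      obtain ⟨g', hg', e⟩ := exists_coprime_inducing hβ' (g := g)
        (fun x => by rw [← autFun_coe]; exact (hg x x.2).1)
      rw [e]
      have h1 : g' ∈ pResidual p G := Subgroup.subset_closure hg'
      have h2 : (x : G)⁻¹ * (g' * x * g'⁻¹) = ((x : G)⁻¹ * g' * (x : G)⁻¹⁻¹) * g'⁻¹ := by group
      rw [h2]
      exact Subgroup.mul_mem _ (hn.conj_mem _ h1 _) (Subgroup.inv_mem _ h1)
    | one => intro x; simp
    | mul a b _ _ iha ihb =>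
      intro x
      have h1 : (x : G)⁻¹ * (((a * b : (groupFusionSystem S).autGroup P) : MulAut P) x : P) =
          ((x : G)⁻¹ * ((b : MulAut P) x : P)) *
            ((((b : MulAut P) x : P) : G)⁻¹ * ((a : MulAut P) ((b : MulAut P) x) : P)) := by
        rw [Subgroup.coe_mul, MulAut.mul_apply]
        group
      rw [h1]
      exact Subgroup.mul_mem _ (ihb x) (iha _)
    | inv a _ iha =>
      intro x
      have h1 := iha ((a : MulAut P)⁻¹ x)
      rw [MulAut.apply_inv_self] at h1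
      have h2 : (x : G)⁻¹ * (((a⁻¹ : (groupFusionSystem S).autGroup P) : MulAut P) x : P) =
          (((((a : MulAut P)⁻¹ x : P) : G))⁻¹ * x)⁻¹ := by
        rw [Subgroup.coe_inv]
        group
      rw [h2]
      exact Subgroup.inv_mem _ h1
  exact key α hα x

/-- A finite `p`-group generated by a normal subgroup together with its derived subgroup equals that normal
subgroup. -/
theorem le_of_le_sup_commutator {p : ℕ} [Fact p.Prime] {T H : Subgroup G} [Finite T]
    (hT : IsPGroup p T) (hn : ∀ t ∈ T, ∀ h ∈ H, t * h * t⁻¹ ∈ H)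
    (h : T ≤ H ⊔ ⁅T, T⁆) : T ≤ H := by
  have hN : (H.subgroupOf T).Normal :=
    ⟨fun x hx t => Subgroup.mem_subgroupOf.2 (hn t t.2 x (Subgroup.mem_subgroupOf.1 hx))⟩
  have hnil : Group.IsNilpotent T := hT.isNilpotent
  have hsol : Group.IsSolvable (↥T ⧸ H.subgroupOf T) := inferInstance
  by_contra hcon
  have hnt : Nontrivial (↥T ⧸ H.subgroupOf T) := by
    obtain ⟨t, ht, htH⟩ := SetLike.not_le_iff_exists.1 hcon
    refine ⟨(QuotientGroup.mk ⟨t, ht⟩ : ↥T ⧸ H.subgroupOf T), 1, fun h1 => htH ?_⟩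
    exact Subgroup.mem_subgroupOf.1 ((QuotientGroup.eq_one_iff _).1 h1)
  have hlt := Group.IsSolvable.commutator_lt_top_of_nontrivial (↥T ⧸ H.subgroupOf T)
  refine hlt.ne (eq_top_iff.2 ?_)
  have key2 : ∀ g ∈ ⁅T, T⁆, ∃ hg : g ∈ T,
      (QuotientGroup.mk ⟨g, hg⟩ : ↥T ⧸ H.subgroupOf T) ∈ commutator (↥T ⧸ H.subgroupOf T) := by
    intro g hg
    induction hg using Subgroup.closure_induction with
    | mem x hx =>
      obtain ⟨a, ha, b, hb, rfl⟩ := hx
      refine ⟨T.mul_mem (T.mul_mem (T.mul_mem ha hb) (T.inv_mem ha)) (T.inv_mem hb), ?_⟩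
      exact Subgroup.commutator_mem_commutator
        (Subgroup.mem_top (QuotientGroup.mk ⟨a, ha⟩ : ↥T ⧸ H.subgroupOf T))
        (Subgroup.mem_top (QuotientGroup.mk ⟨b, hb⟩ : ↥T ⧸ H.subgroupOf T))
    | one => exact ⟨T.one_mem, Subgroup.one_mem _⟩
    | mul a b _ _ iha ihb =>
      obtain ⟨ha, ha'⟩ := iha
      obtain ⟨hb, hb'⟩ := ihb
      exact ⟨T.mul_mem ha hb, Subgroup.mul_mem _ ha' hb'⟩
    | inv a _ iha =>
      obtain ⟨ha, ha'⟩ := iha
      exact ⟨T.inv_mem ha, Subgroup.inv_mem _ ha'⟩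
  have key : ∀ g ∈ H ⊔ ⁅T, T⁆, g ∈ T → ∃ hg : g ∈ T,
      (QuotientGroup.mk ⟨g, hg⟩ : ↥T ⧸ H.subgroupOf T) ∈ commutator (↥T ⧸ H.subgroupOf T) := by
    intro g hg hgT
    have hcn : ∀ a ∈ ⁅T, T⁆, ∀ b ∈ H, a * b * a⁻¹ ∈ H := fun a ha b hb =>
      hn a (key2 a ha).1 b hb
    rw [sup_comm] at hg
    obtain ⟨a, ha, b, hb, rfl⟩ := mem_sup_of_normalizes hcn hg
    obtain ⟨haT, ha'⟩ := key2 a ha
    have hbT : b ∈ T := by
      have : b = a⁻¹ * (a * b) := by group
      rw [this]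
      exact T.mul_mem (T.inv_mem haT) hgT
    refine ⟨hgT, ?_⟩
    have h1 : (QuotientGroup.mk ⟨a * b, hgT⟩ : ↥T ⧸ H.subgroupOf T) =
        QuotientGroup.mk ⟨a, haT⟩ * QuotientGroup.mk ⟨b, hbT⟩ := rfl
    have h2 : (QuotientGroup.mk ⟨b, hbT⟩ : ↥T ⧸ H.subgroupOf T) = 1 :=
      (QuotientGroup.eq_one_iff _).2 (Subgroup.mem_subgroupOf.2 hb)
    rw [h1, h2, mul_one]
    exact ha'
  intro q _
  obtain ⟨t, rfl⟩ := QuotientGroup.mk_surjective q
  obtain ⟨_, h3⟩ := key t (h t.2) t.2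
  exact h3

theorem mem_focal_of {Ω : Type*} [Group Ω] {S : Subgroup Ω} {F : FusionSystem S} {P : Subgroup Ω}
    {f : Ω → Ω} (hf : Mor F P f) {x : Ω} (hx : x ∈ P) : x⁻¹ * f x ∈ F.focalSubgroup := by
  obtain ⟨φ, hφ, e⟩ := hf
  exact Subgroup.subset_closure ⟨P, φ, ⟨x, hx⟩, hφ, by rw [e]⟩

/-- The hyperfocal subgroup of a subsystem is contained in that of the system. -/
theorem hyperfocal_mono {Ω : Type*} [Group Ω] {S T : Subgroup Ω} {F : FusionSystem S}
    {E : FusionSystem T} (hTS : T ≤ S) (hEF : E.IsSubsystemOf F) (p : ℕ) :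
    E.hyperfocalSubgroup p ≤ F.hyperfocalSubgroup p := by
  conv_lhs => unfold FusionSystem.hyperfocalSubgroup
  rw [Subgroup.closure_le]
  rintro _ ⟨P, α, x, hP, hα, rfl⟩
  have hle : E.autGroup P ≤ F.autGroup P := by
    intro β hβ
    rw [mem_autGroup_iff F (hP.trans hTS)]
    exact ((mem_autGroup_iff E hP β).1 hβ).of_subsystem hEF
  exact mem_hyperfocal_of (hP.trans hTS)
    (map_mem_pResidual p (Subgroup.inclusion hle) (Subgroup.inclusion_injective hle) hα) x

theorem inf_pResidual_le_hyperfocal [Finite G] {p : ℕ} [Fact p.Prime] (S : Sylow p G) :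
    (S : Subgroup G) ⊓ pResidual p G ≤
      (groupFusionSystem (S : Subgroup G)).hyperfocalSubgroup p := by
  set K := pResidual p G with hK
  have hsyl : IsSylIn p ((S : Subgroup G) ⊓ K) K := isSylIn_inf_normal S K
  set T := (S : Subgroup G) ⊓ K with hT
  set E := fusionSystemOfSubgroup K T inf_le_right with hE
  have hEs : E.IsSaturated p := saturated_subgroup hsyl
  have hTp : IsPGroup p T := hsyl.2.1
  -- `T` lies in the focal subgroup of `E`
  have h1 : T ≤ E.focalSubgroup := by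
    have hQ := Cfsg.Agent.Lib.Helper2.sylow_le_commutator_of_pResidual_eq_top
      (Cfsg.Agent.Lib.Helper2.pResidual_pResidual (G := G) p)
      (Cfsg.Agent.Lib.Helper2.sylowInfNormal S K)
    have hfoc := Subgroup.commutator_inf_eq_focalSubgroup (Cfsg.Agent.Lib.Helper2.sylowInfNormal S K)
    rw [inf_eq_right.2 hQ] at hfoc
    have key : ∀ k ∈ Subgroup.focalSubgroup
        ((Cfsg.Agent.Lib.Helper2.sylowInfNormal S K : Sylow p K) : Subgroup K),
        (k : G) ∈ E.focalSubgroup := by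
      intro k hk
      induction hk using Subgroup.closure_induction with
      | mem k hk =>
        obtain ⟨hkQ, x, hxQ, u, rfl⟩ := hk
        have hxS : (x : G) ∈ (S : Subgroup G) := Subgroup.mem_subgroupOf.1 hxQ
        have hkS : ((⁅x, u⁆ : K) : G) ∈ (S : Subgroup G) := Subgroup.mem_subgroupOf.1 hkQ
        have hxT : (x : G)⁻¹ ∈ T := T.inv_mem ⟨hxS, x.2⟩
        have hy : (u : G) * (x : G)⁻¹ * (u : G)⁻¹ ∈ T := by
          have h2 : (u : G) * (x : G)⁻¹ * (u : G)⁻¹ = (x : G)⁻¹ * ((⁅x, u⁆ : K) : G) := by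
            show _ = (x : G)⁻¹ * ((x : G) * u * (x : G)⁻¹ * (u : G)⁻¹)
            group
          rw [h2]
          exact T.mul_mem hxT ⟨hkS, Subtype.prop _⟩
        have hm : Mor E (Subgroup.zpowers (x : G)⁻¹) (fun z => (u : G) * z * (u : G)⁻¹) := by
          refine (mor_subgroup_iff _ _ _ _ _).2 ⟨(Subgroup.zpowers_le).2 hxT, u, u.2, fun z hz =>
            ⟨rfl, ?_⟩⟩
          obtain ⟨n, rfl⟩ := Subgroup.mem_zpowers_iff.1 hz
          have h3 : (u : G) * ((x : G)⁻¹) ^ n * (u : G)⁻¹ = ((u : G) * (x : G)⁻¹ * (u : G)⁻¹) ^ n :=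
            (conj_zpow).symm
          rw [h3]
          exact T.zpow_mem hy n
        have h4 := mem_focal_of hm (Subgroup.mem_zpowers (x : G)⁻¹)
        have h5 : ((⁅x, u⁆ : K) : G) = ((x : G)⁻¹)⁻¹ * ((u : G) * (x : G)⁻¹ * (u : G)⁻¹) := by
          show (x : G) * u * (x : G)⁻¹ * (u : G)⁻¹ = _
          group
        rw [h5]
        exact h4
      | one => exact Subgroup.one_mem _
      | mul a b _ _ iha ihb => exact Subgroup.mul_mem _ iha ihb
      | inv a _ iha => exact Subgroup.inv_mem _ iha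
    intro t ht
    have h2 : (⟨t, ht.2⟩ : K) ∈
        ((Cfsg.Agent.Lib.Helper2.sylowInfNormal S K : Sylow p K) : Subgroup K) :=
      Subgroup.mem_subgroupOf.2 ht.1
    rw [hfoc] at h2
    exact key _ h2
  rw [Cfsg.Agent.S5092.result p hTp E hEs] at h1
  have h2 : T ≤ E.hyperfocalSubgroup p :=
    le_of_le_sup_commutator hTp (fun t ht h hh => hyperfocal_conj_mem E p ht hh) h1
  refine h2.trans (hyperfocal_mono inf_le_left ?_ p)
  rintro P φ ⟨hP, hφ, g, -, hg⟩
  exact ⟨hP.trans inf_le_left, fun x => (hφ x).1, g, hg⟩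

end Cfsg.Agent.Lib.Helper87.HG
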