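import Cfsg.Agent.Lib.Helper87.KRad
import Cfsg.Agent.Lib.Helper87.PPrimeResidual
import Cfsg.Agent.Lib.Helper87.PPowerExt

set_option autoImplicit false

namespace Cfsg.Agent.Lib.Helper87

open Cfsg Cfsg.FusionSystem

variable {Ω : Type*} [Group Ω] {S T : Subgroup Ω}

/-- The data: an invariant saturated subsystem `E` of `F` over `T`, and a normal subgroup `𝒦` of `Aut_F(T)`
containing `Aut_E(T)` and all elements of `p`-power order. -/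
structure KData (E : FusionSystem T) (F : FusionSystem S) (p : ℕ) (𝒦 : Subgroup (MulAut T)) :
    Prop where
  sat : E.IsSaturated p
  satF : F.IsSaturated p
  sub : E.IsSubsystemOf F
  sc : F.StronglyClosed T
  inv : InvF E F
  frat : FratF E F
  le : 𝒦 ≤ F.autGroup T
  normal : ∀ α ∈ F.autGroup T, ∀ κ ∈ 𝒦, α * κ * α⁻¹ ∈ 𝒦
  autE : E.autGroup T ≤ 𝒦
  pel : ∀ α ∈ F.autGroup T, ∀ k : ℕ, α ^ (p ^ k) = 1 → α ∈ 𝒦

namespace KData

variable {E : FusionSystem T} {F : FusionSystem S} {p : ℕ} {𝒦 : Subgroup (MulAut T)}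

theorem iso (h : KData E F p 𝒦) {κ : MulAut T} (hκ : κ ∈ 𝒦) : Iso F T T (autFun κ) :=
  iso_autFun ((mem_autGroup_iff F h.sc.1 κ).1 (h.le hκ))

/-- The maps of the product system `𝒦 E`. -/
def M (E : FusionSystem T) (𝒦 : Subgroup (MulAut T)) (P : Subgroup Ω) (f : Ω → Ω) : Prop :=
  ∃ κ ∈ 𝒦, ∃ f₀, Mor E P f₀ ∧ ∀ x ∈ P, f x = autFun κ (f₀ x)

theorem M.morF (h : KData E F p 𝒦) {P : Subgroup Ω} {f : Ω → Ω} (hf : M E 𝒦 P f) : Mor F P f := by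
  obtain ⟨κ, hκ, f₀, hf₀, e⟩ := hf
  exact ((hf₀.of_subsystem h.sub).comp (h.iso hκ).mor (fun x hx => hf₀.mem hx)).congr
    (fun x hx => (e x hx).symm)

/-- The product system `𝒦 E` over `T`. -/
def kSystem (h : KData E F p 𝒦) : FusionSystem T :=
  mkSystem T (M E 𝒦)
    (by
      rintro P f g ⟨κ, hκ, f₀, hf₀, e⟩ hfg
      exact ⟨κ, hκ, f₀, hf₀, fun x hx => by rw [← hfg x hx, e x hx]⟩)
    (by
      rintro P f ⟨κ, hκ, f₀, hf₀, e⟩
      exact hf₀.le)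
    (by
      rintro P f ⟨κ, hκ, f₀, hf₀, e⟩ x hx
      rw [e x hx]
      exact autFun_mem κ (hf₀.mem hx))
    (by
      intro P f hf x hx y hy hxy
      exact (M.morF h hf).inj hx hy hxy)
    (by
      intro P g hP hg
      exact ⟨1, Subgroup.one_mem _, _, mor_conj E hP hg, fun x hx =>
        (autFun_one (T.mul_mem (T.mul_mem hg (hP hx)) (T.inv_mem hg))).symm⟩)
    (by
      rintro P Q f g ⟨κ, hκ, f₀, hf₀, e⟩ ⟨κ', hκ', g₀, hg₀, e'⟩ hPQ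
      have ha := h.iso (Subgroup.inv_mem _ hκ)
      obtain ⟨χ, hχ, hc⟩ := h.inv Q g₀ hg₀ _ ha (img Q (autFun κ⁻¹)) ((ha.mor.mono hg₀.le).mem_img)
      have h1 : ∀ x ∈ P, f₀ x = autFun κ⁻¹ (f x) := by
        intro x hx
        rw [e x hx, autFun_inv_autFun κ (hf₀.mem hx)]
      have h2 : ∀ x ∈ P, f₀ x ∈ img Q (autFun κ⁻¹) := fun x hx =>
        ((ha.mor.mono hg₀.le).mem_img _).2 ⟨f x, hPQ x hx, (h1 x hx).symm⟩
      refine ⟨κ' * κ, Subgroup.mul_mem _ hκ' hκ, χ ∘ f₀, hf₀.comp hχ h2, fun x hx => ?_⟩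
      show g (f x) = autFun (κ' * κ) (χ (f₀ x))
      rw [autFun_mul κ' κ (hχ.mem (h2 x hx)), h1 x hx, hc _ (hPQ x hx),
        autFun_autFun_inv κ (hg₀.mem (hPQ x hx)), e' _ (hPQ x hx)])
    (by
      rintro P Q f ⟨κ, hκ, f₀, hf₀, e⟩ - hQ
      obtain ⟨g₀, hg₀, hgf, -⟩ := hf₀.iso_img.symm
      obtain ⟨χ, hχ, hc⟩ := h.inv _ g₀ hg₀.mor _ (h.iso hκ) Q (fun y => by
        rw [hQ y]
        constructor
        · rintro ⟨x, hx, rfl⟩
          exact ⟨f₀ x, hf₀.iso_img.map_mem hx, (e x hx).symm⟩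
        · rintro ⟨z, hz, rfl⟩
          obtain ⟨x, hx, rfl⟩ := hf₀.iso_img.surj hz
          exact ⟨x, hx, e x hx⟩)
      refine ⟨autFun κ⁻¹ ∘ χ, ⟨κ⁻¹, Subgroup.inv_mem _ hκ, χ, hχ, fun _ _ => rfl⟩, fun x hx => ?_⟩
      show autFun κ⁻¹ (χ (f x)) = x
      rw [e x hx, hc _ (hf₀.iso_img.map_mem hx), hgf x hx, autFun_inv_autFun κ (hf₀.le hx)])

theorem mor_kSystem_iff (h : KData E F p 𝒦) (P : Subgroup Ω) (f : Ω → Ω) :
    Mor h.kSystem P f ↔ M E 𝒦 P f :=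
  mor_mkSystem_iff T (M E 𝒦) _ _ _ _ _ _ _ (fun hf _ hx _ hy => (M.morF h hf).map_mul hx hy) P f

theorem kSystem_sub (h : KData E F p 𝒦) : h.kSystem.IsSubsystemOf F := by
  intro P φ hφ
  exact (M.morF h ((h.mor_kSystem_iff P _).1 (Mor.of_hom hφ))).mem_hom (fun x => (ext_coe φ x).symm)

theorem mor_of_E (h : KData E F p 𝒦) {P : Subgroup Ω} {f : Ω → Ω} (hf : Mor E P f) :
    Mor h.kSystem P f :=
  (h.mor_kSystem_iff P f).2 ⟨1, Subgroup.one_mem _, f, hf, fun _ hx => (autFun_one (hf.mem hx)).symm⟩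

theorem mor_of_K (h : KData E F p 𝒦) {κ : MulAut T} (hκ : κ ∈ 𝒦) : Mor h.kSystem T (autFun κ) :=
  (h.mor_kSystem_iff T _).2 ⟨κ, hκ, id, mor_id E le_rfl, fun _ _ => rfl⟩

theorem mor_top_iff [Finite T] (h : KData E F p 𝒦) (a : Ω → Ω) :
    Mor h.kSystem T a ↔ ∃ κ ∈ 𝒦, ∀ x ∈ T, a x = autFun κ x := by
  constructor
  · intro ha
    obtain ⟨κ, hκ, f₀, hf₀, e⟩ := (h.mor_kSystem_iff T a).1 ha
    obtain ⟨α, hα, eα⟩ := (hf₀.iso_self (fun x hx => hf₀.mem hx)).exists_aut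
    refine ⟨κ * α, Subgroup.mul_mem _ hκ (h.autE hα), fun x hx => ?_⟩
    rw [autFun_mul κ α hx, autFun_apply α hx, eα, e x hx]
  · rintro ⟨κ, hκ, e⟩
    exact (h.mor_of_K hκ).congr (fun x hx => (e x hx).symm)

/-- Conjugation by elements of `S` belongs to `𝒦`. -/
theorem autS_le [Finite S] [Fact p.Prime] (hS : IsPGroup p S) (h : KData E F p 𝒦) :
    autInducedBy S T ≤ 𝒦 := by
  intro σ hσ
  obtain ⟨k, hk⟩ := isPGroup_autInducedBy hS T ⟨σ, hσ⟩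
  exact h.pel σ (autInducedBy_le_autGroup F h.sc.1 hσ) k (congrArg Subtype.val hk)

theorem mor_conj_S [Finite S] [Fact p.Prime] (hS : IsPGroup p S) (h : KData E F p 𝒦) {s : Ω}
    (hs : s ∈ S) : Mor h.kSystem T (fun x => s * x * s⁻¹) := by
  have hσ := h.autS_le hS (Subtype.prop (conjToAut S T ⟨s, hs, StronglyClosed.le_normalizer h.sc hs⟩))
  refine (h.mor_of_K hσ).congr (fun x hx => ?_)
  rw [autFun_apply _ hx]
  rfl

/-- `𝒦 E` is invariant under `Aut_F(T)`. -/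
theorem invF (h : KData E F p 𝒦) : InvF h.kSystem F := by
  intro P f hf a ha X hX
  obtain ⟨κ, hκ, f₀, hf₀, e⟩ := (h.mor_kSystem_iff P f).1 hf
  obtain ⟨α, hα, eα⟩ := ha.exists_aut
  obtain ⟨χ₀, hχ₀, hc⟩ := h.inv P f₀ hf₀ a ha X hX
  refine ⟨autFun (α * κ * α⁻¹) ∘ χ₀, (h.mor_kSystem_iff X _).2
    ⟨_, h.normal α hα κ hκ, χ₀, hχ₀, fun _ _ => rfl⟩, fun x hx => ?_⟩
  show autFun (α * κ * α⁻¹) (χ₀ (a x)) = a (f x)
  have h1 : f₀ x ∈ T := hf₀.mem hx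
  have h2 : a (f₀ x) = autFun α (f₀ x) := by rw [autFun_apply α h1, eα]
  rw [hc x hx, h2, autFun_mul _ _ (autFun_mem α h1), autFun_inv_autFun α h1, autFun_mul _ _ h1,
    e x hx, autFun_apply α (autFun_mem κ h1), eα]

/-- Elements of `p`-power order of `Aut_F(P)`, `P ≤ T`, lie in `𝒦 E`. -/
theorem mor_of_pow [Finite S] [Fact p.Prime] (hS : IsPGroup p S) (h : KData E F p 𝒦)
    {P : Subgroup Ω} (hP : P ≤ T) {β : MulAut P} (hβ : β ∈ F.autGroup P) {k : ℕ}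
    (hk : β ^ (p ^ k) = 1) : Mor h.kSystem P (autFun β) := by
  have hPS := hP.trans h.sc.1
  have : Finite P := finite_of_le hPS
  obtain ⟨Q, hPQ, hQa, -⟩ := h.satF P hPS
  obtain ⟨f₁, hf₁⟩ := (isConj_iff F P Q).1 hPQ
  have hAp : IsPGroup p (Subgroup.zpowers β) := by
    rintro ⟨γ, hγ⟩
    obtain ⟨i, rfl⟩ := Subgroup.mem_zpowers_iff.1 hγ
    refine ⟨k, Subtype.ext ?_⟩
    show (β ^ i) ^ (p ^ k) = 1
    rw [← zpow_natCast, ← zpow_mul, mul_comm, zpow_mul, zpow_natCast, hk, one_zpow]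
  obtain ⟨f, hf, hconj⟩ := exists_iso_conj_into hQa hf₁ (Subgroup.zpowers β)
    ((Subgroup.zpowers_le).2 hβ) hAp
  obtain ⟨s, hs, es⟩ := hconj β (Subgroup.mem_zpowers β)
  obtain ⟨a, f₀, ha, hf₀, e⟩ := h.frat P f hP hf.mor
  obtain ⟨a', ha', ha'a, haa'⟩ := ha.symm
  obtain ⟨g₀, hg₀, hg₀f, -⟩ := hf₀.iso_img.symm
  have key : ∀ x : P, f₀ (β x : P) = a' (s * a (f₀ x) * s⁻¹) := by
    intro x
    have h1 := es x
    rw [e _ (Subtype.prop _), e x x.2] at h1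
    have h2 := congrArg a' h1
    rw [ha'a _ (hf₀.mem (Subtype.prop _))] at h2
    exact h2
  -- the automorphism `a' c_s a` of `T` lies in `𝒦 E`
  obtain ⟨χ, hχ, hc⟩ := h.invF T _ (h.mor_conj_S hS hs) a' ha' T (fun y =>
    ⟨fun hy => ha'.surj hy, by rintro ⟨x, hx, rfl⟩; exact ha'.map_mem hx⟩)
  have hχ' : ∀ y ∈ T, χ y = a' (s * a y * s⁻¹) := by
    intro y hy
    have := hc (a y) (ha.map_mem hy)
    rwa [ha'a y hy] at this
  have h1 : Mor h.kSystem P (χ ∘ f₀) := (h.mor_of_E hf₀).comp hχ (fun x hx => hf₀.mem hx)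
  have h2 : Mor h.kSystem P (g₀ ∘ (χ ∘ f₀)) := by
    refine h1.comp (h.mor_of_E hg₀.mor) (fun x hx => ?_)
    show χ (f₀ x) ∈ _
    rw [hχ' _ (hf₀.mem hx), ← key ⟨x, hx⟩]
    exact hf₀.iso_img.map_mem (Subtype.prop _)
  refine h2.congr (fun x hx => ?_)
  show g₀ (χ (f₀ x)) = _
  rw [hχ' _ (hf₀.mem hx), ← key ⟨x, hx⟩, hg₀f _ (Subtype.prop _), autFun_apply β hx]

end KData

end Cfsg.Agent.Lib.Helper87
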