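import Cfsg.Agent.Lib.Helper87.KProduct

set_option autoImplicit false

namespace Cfsg.Agent.Lib.Helper87

open Cfsg Cfsg.FusionSystem

variable {Ω : Type*} [Group Ω] {S T : Subgroup Ω}

namespace KData

variable {E : FusionSystem T} {F : FusionSystem S} {p : ℕ} {𝒦 : Subgroup (MulAut T)}

/-- **Closure.** An element of `Aut_F(T)` whose restriction to a centric subgroup of `E` lies in `𝒦 E` lies in
`𝒦`. -/
theorem closed [Finite S] [Fact p.Prime] (hS : IsPGroup p S) (h : KData E F p 𝒦) :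
    ∀ (m : ℕ) (R : Subgroup Ω) (b : Ω → Ω), E.IsCentric R → Iso F T T b → Mor h.kSystem R b →
      Nat.card T - Nat.card R = m → Mor h.kSystem T b := by
  have hTS := h.sc.1
  have : Finite T := finite_of_le hTS
  have hT : IsPGroup p T := hS.to_le hTS
  intro m
  induction m using Nat.strong_induction_on with
  | _ m ih =>
  intro R b₁ hR hb₁ hbR hm
  obtain ⟨κ, hκ, f₀, hf₀, e₁⟩ := (h.mor_kSystem_iff R b₁).1 hbR
  -- strip `κ`
  have hb : Iso F T T (autFun κ⁻¹ ∘ b₁) := hb₁.trans (h.iso (Subgroup.inv_mem _ hκ))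
  set b := autFun κ⁻¹ ∘ b₁ with hbdef
  have e : ∀ x ∈ R, b x = f₀ x := by
    intro x hx
    show autFun κ⁻¹ (b₁ x) = f₀ x
    rw [e₁ x hx, autFun_inv_autFun κ (hf₀.mem hx)]
  suffices hsuff : Mor h.kSystem T b by
    refine (hsuff.comp (h.mor_of_K hκ) (fun x hx => hb.map_mem hx)).congr (fun x hx => ?_)
    show autFun κ (autFun κ⁻¹ (b₁ x)) = b₁ x
    rw [autFun_autFun_inv κ (hb₁.map_mem hx)]
  by_cases hRT : R = T
  · subst hRT
    exact h.mor_of_E (hf₀.congr (fun x hx => (e x hx).symm))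
  have hlt : R < T := lt_of_le_of_ne hR.1 hRT
  have hiso := hf₀.iso_img
  have hrec : E.IsReceptive (img R f₀) :=
    fullyCentralized_receptive hT h.sat (centric_fullyCentralized (centric_conj hR hiso.isConj))
  obtain ⟨ε, hε, eε⟩ := receptive_extend hrec hiso (normalizerIn T R) (normalizerIn_le T R)
    inf_le_right (fun g hg => ⟨b g, hb.map_mem hg.1, fun x hx => by
      rw [← e x hx, ← e _ ((Subgroup.mem_normalizer_iff.1 hg.2 x).1 hx)]
      exact hb.mor.map_conj hg.1 (hR.1 hx)⟩)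
  have hRN := le_normalizerIn hR.1
  rw [sup_eq_right.2 hRN] at hε
  set N := normalizerIn T R with hN
  have hNT : N ≤ T := normalizerIn_le T R
  have : Finite N := finite_of_le (hNT.trans hTS)
  obtain ⟨b', hb', hb'b, hbb'⟩ := hb.symm
  -- `γ = b⁻¹ ε` is an automorphism of `N`
  have hγF : Mor F N (b' ∘ ε) :=
    (hε.of_subsystem h.sub).comp hb'.mor (fun x hx => hε.mem hx)
  have hγid : ∀ x ∈ R, b' (ε x) = x := by
    intro x hx
    rw [eε x hx, ← e x hx, hb'b x (hR.1 hx)]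
  have hγN : ∀ x ∈ N, b' (ε x) ∈ N := by
    intro x hx
    have h1 : ε x ∈ normalizerIn T (img R f₀) :=
      hε.map_mem_normalizerIn hRN inf_le_right (fun y => by
        rw [hiso.2 y]
        constructor
        · rintro ⟨z, hz, rfl⟩
          exact ⟨z, hz, eε z hz⟩
        · rintro ⟨z, hz, rfl⟩
          exact ⟨z, hz, (eε z hz).symm⟩) hx
    have h2 : b' (ε x) ∈ normalizerIn S R :=
      (hb'.mor.mono (normalizerIn_le T (img R f₀))).map_mem_normalizerIn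
        (le_normalizerIn hiso.le') inf_le_right (fun y => by
          constructor
          · intro hy
            exact ⟨f₀ y, hiso.map_mem hy, by rw [← e y hy, hb'b y (hR.1 hy)]⟩
          · rintro ⟨z, hz, rfl⟩
            obtain ⟨y, hy, rfl⟩ := hiso.surj hz
            rw [← e y hy, hb'b y (hR.1 hy)]
            exact hy) h1
    exact ⟨hb'.map_mem (hε.mem hx), h2.2⟩
  have hγiso : Iso F N N (b' ∘ ε) := hγF.iso_self hγN
  obtain ⟨γ, hγ, eγ⟩ := hγiso.exists_aut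
  have hfix : ∀ x : N, (x : Ω) ∈ R → γ x = x := by
    intro x hx
    apply Subtype.ext
    rw [eγ]
    exact hγid x hx
  have hmove : ∀ x : N, (x : Ω)⁻¹ * (γ x : N) ∈ R := by
    intro x
    rw [eγ]
    show (x : Ω)⁻¹ * b' (ε x) ∈ R
    refine centric_self hR ((mem_centralizerIn_iff T R _).2
      ⟨T.mul_mem (T.inv_mem (hNT x.2)) (hNT (hγN x x.2)), fun r hr => ?_⟩)
    have hr' : (x : Ω) * r * (x : Ω)⁻¹ ∈ R := (Subgroup.mem_normalizer_iff.1 x.2.2 r).1 hr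
    have h1 : (b' ∘ ε) ((x : Ω) * r * (x : Ω)⁻¹) = (b' ∘ ε) x * (b' ∘ ε) r * ((b' ∘ ε) x)⁻¹ :=
      hγF.map_conj x.2 (hRN hr)
    simp only [Function.comp] at h1
    rw [hγid _ hr', hγid r hr] at h1
    calc r * ((x : Ω)⁻¹ * b' (ε x)) = (x : Ω)⁻¹ * ((x : Ω) * r * (x : Ω)⁻¹) * b' (ε x) := by group
      _ = (x : Ω)⁻¹ * (b' (ε x) * r * (b' (ε x))⁻¹) * b' (ε x) := by rw [h1]
      _ = (x : Ω)⁻¹ * b' (ε x) * r := by group
  obtain ⟨k, hk⟩ := IsPGroup.iff_card.1 (hT.to_le hNT)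
  have hγp : γ ^ (p ^ k) = 1 :=
    pow_eq_one_of_fix γ hfix hmove (fun x => by rw [← hk]; exact pow_card_eq_one')
  have hγK : Mor h.kSystem N (b' ∘ ε) :=
    (h.mor_of_pow hS hNT hγ hγp).congr (fun x hx => by rw [autFun_apply γ hx, eγ])
  obtain ⟨δ, hδ, -, hγδ⟩ := (hγK.iso_self hγN).symm
  have hbN : Mor h.kSystem N b := by
    refine (hδ.mor.comp (h.mor_of_E hε) (fun x hx => hδ.map_mem hx)).congr (fun x hx => ?_)
    show ε (δ x) = b x
    have h1 := hγδ x hx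
    simp only [Function.comp] at h1
    rw [← h1, hbb' _ (hε.mem (hδ.map_mem hx)), h1]
  obtain ⟨g, hg, hgR⟩ := exists_mem_normalizerIn_not_mem hS hTS hlt
  have hcard : Nat.card R < Nat.card N :=
    card_lt_of_le_ne (hNT.trans hTS) hRN (fun hh => hgR (hh ▸ hg))
  have hle : Nat.card N ≤ Nat.card T := Subgroup.card_le_of_le hNT
  exact ih (Nat.card T - Nat.card N) (by omega) N b (centric_of_le hR hRN hNT) hb hbN rfl

/-- Images of centric subgroups of `E` under `Aut_F(T)` are centric in `E`. -/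
theorem centric_img (h : KData E F p 𝒦) {R X : Subgroup Ω} (hR : E.IsCentric R) {a : Ω → Ω}
    (ha : Iso F T T a) (hX : ∀ y, y ∈ X ↔ ∃ x ∈ R, a x = y) : E.IsCentric X := by
  obtain ⟨a', ha', ha'a, haa'⟩ := ha.symm
  have hXT : X ≤ T := by
    intro y hy
    obtain ⟨x, hx, rfl⟩ := (hX y).1 hy
    exact ha.map_mem (hR.1 hx)
  refine ⟨hXT, fun Y hY => ?_⟩
  obtain ⟨f, hf⟩ := (isConj_iff E X Y).1 hY
  have hR' : ∀ y, y ∈ R ↔ ∃ x ∈ X, a' x = y := by
    intro y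
    constructor
    · intro hy
      exact ⟨a y, (hX _).2 ⟨y, hy, rfl⟩, ha'a y (hR.1 hy)⟩
    · rintro ⟨z, hz, rfl⟩
      obtain ⟨x, hx, rfl⟩ := (hX z).1 hz
      rw [ha'a x (hR.1 hx)]
      exact hx
  obtain ⟨χ, hχ, hc⟩ := h.inv X f hf.mor a' ha' R hR'
  have h1 := hR.2 _ hχ.iso_img.isConj
  intro c hcc
  obtain ⟨hcT, hcY⟩ := (mem_centralizerIn_iff T Y c).1 hcc
  have h2 : a' c ∈ centralizerIn T (img R χ) := by
    refine (mem_centralizerIn_iff T _ _).2 ⟨ha'.map_mem hcT, fun y hy => ?_⟩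
    obtain ⟨r, hr, rfl⟩ := (hχ.mem_img y).1 hy
    obtain ⟨x, hx, rfl⟩ := (hR' r).1 hr
    rw [hc x hx]
    have h3 := hcY (f x) (hf.map_mem hx)
    rw [← ha'.mor.map_mul (hf.mor.mem hx) hcT, ← ha'.mor.map_mul hcT (hf.mor.mem hx), h3]
  obtain ⟨r, hr, er⟩ := (hχ.mem_img _).1 (h1 h2)
  obtain ⟨x, hx, rfl⟩ := (hR' r).1 hr
  rw [hc x hx] at er
  have h5 : f x = c := ha'.mor.inj (hf.mor.mem hx) hcT er
  rw [← h5]
  exact hf.map_mem hx

/-- The family of subgroups: centric in `F`, meeting `T` in a centric subgroup of `E`. -/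
def fam (E : FusionSystem T) (F : FusionSystem S) : Set (Subgroup Ω) :=
  {P | F.IsCentric P ∧ E.IsCentric (P ⊓ T)}

theorem fam_conj (h : KData E F p 𝒦) {P Q : Subgroup Ω} (hP : P ∈ fam E F) (hPQ : F.IsConj P Q) :
    Q ∈ fam E F := by
  refine ⟨centric_conj hP.1 hPQ, ?_⟩
  obtain ⟨f, hf⟩ := (isConj_iff F P Q).1 hPQ
  have h1 := StronglyClosed.iso_inf h.sc hf
  obtain ⟨a, f₀, ha, hf₀, e⟩ := h.frat _ f inf_le_right h1.mor
  refine h.centric_img (centric_conj hP.2 hf₀.iso_img.isConj) ha (fun y => ?_)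
  rw [h1.2 y]
  constructor
  · rintro ⟨x, hx, rfl⟩
    exact ⟨f₀ x, hf₀.iso_img.map_mem hx, (e x hx).symm⟩
  · rintro ⟨z, hz, rfl⟩
    obtain ⟨x, hx, rfl⟩ := hf₀.iso_img.surj hz
    exact ⟨x, hx, e x hx⟩

theorem top_mem_fam [Finite S] (h : KData E F p 𝒦) : S ∈ fam E F := by
  have : Finite T := finite_of_le h.sc.1
  refine ⟨centric_top F, ?_⟩
  rw [inf_eq_right.2 h.sc.1]
  exact centric_top E

/-- The system of maps of `F` restricting to maps of `𝒦 E`. -/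
def bigSystem [Finite S] [Fact p.Prime] (hS : IsPGroup p S) (h : KData E F p 𝒦) : FusionSystem S :=
  mkSystem S (fun P f => Mor F P f ∧ Mor h.kSystem (P ⊓ T) f)
    (fun hf e => ⟨hf.1.congr e, hf.2.congr (fun x hx => e x hx.1)⟩)
    (fun hf => hf.1.le)
    (fun hf _ hx => hf.1.mem hx)
    (fun hf _ hx _ hy hxy => hf.1.inj hx hy hxy)
    (fun hP hg => ⟨mor_conj F hP hg, (h.mor_conj_S hS hg).mono inf_le_right⟩)
    (fun hf hg hPQ => ⟨hf.1.comp hg.1 hPQ, hf.2.comp hg.2 (fun x hx =>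
      ⟨hPQ x hx.1, StronglyClosed.map_mem h.sc hf.1 hx.1 hx.2⟩)⟩)
    (by
      intro P Q f hf _ hQ
      have hiso : Iso F P Q f := ⟨hf.1, hQ⟩
      obtain ⟨g, hg, hgf, -⟩ := hiso.symm
      have h1 : Iso h.kSystem (P ⊓ T) (Q ⊓ T) f := ⟨hf.2, (StronglyClosed.iso_inf h.sc hiso).2⟩
      obtain ⟨g', hg', hg'f, -⟩ := h1.symm
      refine ⟨g, ⟨hg.mor, hg'.mor.congr (fun y hy => ?_)⟩, hgf⟩
      obtain ⟨x, hx, rfl⟩ := h1.surj hy
      rw [hg'f x hx, hgf x hx.1])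

theorem mor_bigSystem_iff [Finite S] [Fact p.Prime] (hS : IsPGroup p S) (h : KData E F p 𝒦)
    (P : Subgroup Ω) (f : Ω → Ω) :
    Mor (h.bigSystem hS) P f ↔ Mor F P f ∧ Mor h.kSystem (P ⊓ T) f :=
  mor_mkSystem_iff S _ _ _ _ _ _ _ _ (fun hf _ hx _ hy => hf.1.map_mul hx hy) P f

/-- The subsystem `F₀`. -/
def sys [Finite S] [Fact p.Prime] (hS : IsPGroup p S) (h : KData E F p 𝒦) : FusionSystem S :=
  genPart (h.bigSystem hS) (fam E F)

end KData

end Cfsg.Agent.Lib.Helper87
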