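import Cfsg.Agent.Lib.Helper87.KProduct3

set_option autoImplicit false

namespace Cfsg.Agent.Lib.Helper87

open Cfsg Cfsg.FusionSystem

variable {Ω : Type*} [Group Ω] {S T : Subgroup Ω}

/-- Elements of `p`-power order of `Aut_E(P)` lie in every system over `T` with the Frattini property in `F`. -/
theorem OpP_le_infSystem [Finite T] {p : ℕ} [Fact p.Prime]
    {F : FusionSystem S} {E E' : FusionSystem T} (hEs : E.IsSaturated p)
    (hEF : E.IsSubsystemOf F) (hfrat : FratF E' F) {P : Subgroup Ω} (hP : P ≤ T) :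
    OpP E p P ≤ (infSystem E E').autGroup P := by
  refine (Subgroup.closure_le _).2 ?_
  rintro β ⟨hβ, k, hk⟩
  have : Finite P := finite_of_le hP
  obtain ⟨Q, hPQ, hQa, -⟩ := hEs P hP
  obtain ⟨f₁, hf₁⟩ := (isConj_iff E P Q).1 hPQ
  have hAp : IsPGroup p (Subgroup.zpowers β) := by
    rw [IsPGroup.iff_card]
    exact ⟨k, by rw [Nat.card_zpowers, hk]⟩
  obtain ⟨f, hf, hconj⟩ := exists_iso_conj_into hQa hf₁ (Subgroup.zpowers β)
    ((Subgroup.zpowers_le).2 hβ) hAp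
  obtain ⟨s, hs, es⟩ := hconj β (Subgroup.mem_zpowers β)
  obtain ⟨a, f₀, ha, hf₀, e⟩ := hfrat P f hP (hf.mor.of_subsystem hEF)
  obtain ⟨a', ha', ha'a, haa'⟩ := ha.symm
  obtain ⟨g₀, hg₀, hg₀f, -⟩ := hf₀.iso_img.symm
  have key : ∀ x : P, f₀ (β x : P) = a' s * f₀ x * (a' s)⁻¹ := by
    intro x
    have h1 := es x
    rw [e _ (Subtype.prop _), e x x.2] at h1
    have h2 := congrArg a' h1
    rw [ha'a _ (hf₀.mem (Subtype.prop _)), ha'.mor.map_conj hs (ha.map_mem (hf₀.mem x.2)),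
      ha'a _ (hf₀.mem x.2)] at h2
    exact h2
  show β ∈ (infSystem E E').autGroup P
  rw [mem_autGroup_iff _ hP, mor_infSystem_iff]
  refine ⟨(mem_autGroup_iff E hP β).1 hβ, ?_⟩
  have h1 : Mor E' P ((fun y => a' s * y * (a' s)⁻¹) ∘ f₀) :=
    hf₀.comp (mor_conj E' hf₀.img_le (ha'.map_mem hs)) (fun x hx => hf₀.iso_img.map_mem hx)
  have h2 : Mor E' P (g₀ ∘ ((fun y => a' s * y * (a' s)⁻¹) ∘ f₀)) := by
    refine h1.comp hg₀.mor (fun x hx => ?_)
    show a' s * f₀ x * (a' s)⁻¹ ∈ _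
    rw [← key ⟨x, hx⟩]
    exact hf₀.iso_img.map_mem (Subtype.prop _)
  refine h2.congr (fun x hx => ?_)
  show g₀ (a' s * f₀ x * (a' s)⁻¹) = _
  rw [← key ⟨x, hx⟩, hg₀f _ (Subtype.prop _), autFun_apply β hx]

/-- Every map of `E` is an element of `Aut_E(T)` composed with a map of `E ∩ E'`. -/
theorem decomp_aut_inf [Finite T] {p : ℕ} [Fact p.Prime] (hT : IsPGroup p T)
    {F : FusionSystem S} {E E' : FusionSystem T} (hEs : E.IsSaturated p)
    (hEF : E.IsSubsystemOf F) (hfrat : FratF E' F) {P : Subgroup Ω} {f : Ω → Ω} (hf : Mor E P f) :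
    ∃ a f₀, Iso E T T a ∧ Mor E' P f₀ ∧ Mor E P f₀ ∧ ∀ x ∈ P, f x = a (f₀ x) := by
  obtain ⟨a, f₀, ha, hf₀, e⟩ := frattini_prime_index (E := infSystem E E') hT hEs
    (fun P hP => OpP_le_infSystem hEs hEF hfrat hP.1) P f hf
  have h1 := (mor_infSystem_iff E E' P f₀).1 hf₀.mor
  exact ⟨a, f₀, ha, h1.2, h1.1, e⟩

/-- Powers of a product `κ e₀`. -/
theorem pow_decomp {F : FusionSystem S} {E : FusionSystem T} (hTS : T ≤ S) (hinv : InvF E F)
    {P : Subgroup Ω} {β : MulAut P} {κ : MulAut T} (hκ : κ ∈ F.autGroup T) {e₀ : Ω → Ω}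
    (he₀ : Mor E P e₀) (e : ∀ x ∈ P, autFun β x = autFun κ (e₀ x)) (m : ℕ) :
    ∃ eₘ, Mor E P eₘ ∧ ∀ x ∈ P, autFun (β ^ m) x = autFun (κ ^ m) (eₘ x) := by
  have hPT := he₀.le
  induction m with
  | zero =>
    refine ⟨id, mor_id E hPT, fun x hx => ?_⟩
    rw [pow_zero, pow_zero, autFun_one hx]
    exact (autFun_one (hPT hx)).symm
  | succ m ih =>
    obtain ⟨eₘ, heₘ, em⟩ := ih
    have hκm : (κ ^ m)⁻¹ ∈ F.autGroup T := Subgroup.inv_mem _ (Subgroup.pow_mem _ hκ m)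
    have ha : Iso F T T (autFun (κ ^ m)⁻¹) := iso_autFun ((mem_autGroup_iff F hTS _).1 hκm)
    obtain ⟨χ, hχ, hc⟩ := hinv P e₀ he₀ _ ha (img P (autFun (κ ^ m)⁻¹)) ((ha.mor.mono hPT).mem_img)
    have h1 : ∀ x ∈ P, eₘ x = autFun (κ ^ m)⁻¹ (autFun (β ^ m) x) := by
      intro x hx
      rw [em x hx, autFun_inv_autFun _ (heₘ.mem hx)]
    have h2 : ∀ x ∈ P, eₘ x ∈ img P (autFun (κ ^ m)⁻¹) := fun x hx =>
      ((ha.mor.mono hPT).mem_img _).2 ⟨_, autFun_mem (β ^ m) hx, (h1 x hx).symm⟩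
    refine ⟨χ ∘ eₘ, heₘ.comp hχ h2, fun x hx => ?_⟩
    show autFun (β ^ (m + 1)) x = autFun (κ ^ (m + 1)) (χ (eₘ x))
    have hbx := autFun_mem (β ^ m) hx
    rw [pow_succ', pow_succ', autFun_mul β _ hx, autFun_mul κ _ (hχ.mem (h2 x hx)), h1 x hx,
      hc _ hbx, autFun_autFun_inv _ (he₀.mem hbx), e _ hbx]

/-- An element of `p`-power order of the form `κ e₀`, where a power of `κ` prime to `p` lies in `Aut_E(T)`,
is a map of `E`. -/
theorem mor_of_pElement {F : FusionSystem S} {E : FusionSystem T} {p : ℕ}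
    (hTS : T ≤ S) (hinv : InvF E F)
    {P : Subgroup Ω} {β : MulAut P} {κ : MulAut T} (hκ : κ ∈ F.autGroup T) {e₀ : Ω → Ω}
    (he₀ : Mor E P e₀) (e : ∀ x ∈ P, autFun β x = autFun κ (e₀ x)) {k M : ℕ}
    (hβ : β ^ (p ^ k) = 1) (hM : M.Coprime p) (hκM : κ ^ M ∈ E.autGroup T) :
    Mor E P (autFun β) := by
  have hcop : Nat.Coprime M (orderOf β) := by
    have h1 : orderOf β ∣ p ^ k := orderOf_dvd_of_pow_eq_one hβ
    exact Nat.Coprime.coprime_dvd_right h1 (Nat.Coprime.pow_right k hM)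
  obtain ⟨j, hj⟩ := exists_pow_eq_self_of_coprime hcop
  obtain ⟨eₘ, heₘ, em⟩ := pow_decomp hTS hinv hκ he₀ e (M * j)
  have h1 : κ ^ (M * j) ∈ E.autGroup T := by
    rw [pow_mul]
    exact Subgroup.pow_mem _ hκM j
  have h2 := (mem_autGroup_iff E le_rfl _).1 h1
  refine (heₘ.comp h2 (fun x hx => heₘ.mem hx)).congr (fun x hx => ?_)
  show autFun (κ ^ (M * j)) (eₘ x) = autFun β x
  rw [← em x hx, pow_mul, hj]

/-- `Aut_E(T)` is normal in `Aut_F(T)`. -/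
theorem autGroup_normal_of_invF {F : FusionSystem S} {E : FusionSystem T} (hTS : T ≤ S)
    (hinv : InvF E F) {α κ : MulAut T} (hα : α ∈ F.autGroup T) (hκ : κ ∈ E.autGroup T) :
    α * κ * α⁻¹ ∈ E.autGroup T := by
  have ha : Iso F T T (autFun α) := iso_autFun ((mem_autGroup_iff F hTS α).1 hα)
  obtain ⟨χ, hχ, hc⟩ := hinv T _ ((mem_autGroup_iff E le_rfl κ).1 hκ) _ ha T ha.2
  rw [mem_autGroup_iff E le_rfl]
  refine hχ.congr (fun y hy => ?_)
  have h1 := hc _ (autFun_mem α⁻¹ hy)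
  rw [autFun_autFun_inv α hy] at h1
  rw [h1, autFun_mul _ _ hy, autFun_mul _ _ (autFun_mem α⁻¹ hy)]

theorem mul_pow_mem_of_normalizes {G : Type*} [Group G] {N : Subgroup G} {a d : G} (ha : a ∈ N)
    (hd : ∀ n ∈ N, d * n * d⁻¹ ∈ N) {M : ℕ} (hM : d ^ M ∈ N) : (a * d) ^ M ∈ N := by
  have h1 : ∀ k : ℕ, ∀ n ∈ N, d ^ k * n * (d ^ k)⁻¹ ∈ N := by
    intro k
    induction k with
    | zero => intro n hn; simpa using hn
    | succ k ih =>
      intro n hn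
      have := hd _ (ih n hn)
      have e : d ^ (k + 1) * n * (d ^ (k + 1))⁻¹ = d * (d ^ k * n * (d ^ k)⁻¹) * d⁻¹ := by
        rw [pow_succ']
        group
      rw [e]
      exact this
  have h2 : ∀ k : ℕ, (a * d) ^ k * (d ^ k)⁻¹ ∈ N := by
    intro k
    induction k with
    | zero => simp
    | succ k ih =>
      have e : (a * d) ^ (k + 1) * (d ^ (k + 1))⁻¹ =
          ((a * d) ^ k * (d ^ k)⁻¹) * (d ^ k * a * (d ^ k)⁻¹) := by
        rw [pow_succ, pow_succ]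
        group
      rw [e]
      exact N.mul_mem ih (h1 k a ha)
  have := N.mul_mem (h2 M) hM
  rwa [inv_mul_cancel_right] at this

/-- In a saturated system over `T`, a power prime to `p` of every automorphism of `T` is inner. -/
theorem exists_coprime_pow_mem_inn [Finite T] {p : ℕ} [hp : Fact p.Prime] (hT : IsPGroup p T)
    {D : FusionSystem T} (hD : D.IsSaturated p) {d : MulAut T} (hd : d ∈ D.autGroup T) :
    ∃ M : ℕ, M.Coprime p ∧ d ^ M ∈ autInducedBy T T := by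
  have hsyl := (fullyAutomized_iff D p le_rfl).1
    (fullyNormalized_fullyAutomized hT hD (fullyNormalized_top D))
  obtain ⟨a, m, hm, e⟩ := Nat.exists_eq_pow_mul_and_not_dvd (orderOf_pos d).ne' p hp.out.ne_one
  refine ⟨m, ((Nat.Prime.coprime_iff_not_dvd hp.out).2 hm).symm, ?_⟩
  have h1 : (d ^ m) ^ (p ^ a) = 1 := by
    rw [← pow_mul, mul_comm, ← e]
    exact pow_orderOf_eq_one d
  have hLp : IsPGroup p (Subgroup.zpowers (d ^ m)) := by
    rintro ⟨γ, hγ⟩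
    obtain ⟨i, rfl⟩ := Subgroup.mem_zpowers_iff.1 hγ
    refine ⟨a, Subtype.ext ?_⟩
    show ((d ^ m) ^ i) ^ (p ^ a) = 1
    rw [← zpow_natCast, ← zpow_mul, mul_comm, zpow_mul, zpow_natCast, h1, one_zpow]
  obtain ⟨g, -, hg⟩ := hsyl.exists_conj
    ((Subgroup.zpowers_le).2 (Subgroup.pow_mem _ hd m)) hLp
  have h2 := hg _ (Subgroup.mem_zpowers (d ^ m))
  obtain ⟨t, ht, et⟩ := (mem_autInducedBy_iff T T _).1 h2
  refine (mem_autInducedBy_iff T T _).2 ⟨((g⁻¹ ⟨t, ht⟩ : T) : Ω), Subtype.prop _, fun x => ?_⟩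
  have h3 := et (g x)
  have h4 : (g * d ^ m * g⁻¹) (g x) = g ((d ^ m) x) := by
    simp [MulAut.mul_apply]
  rw [h4] at h3
  have h5 : g ((d ^ m) x) = ⟨t, ht⟩ * g x * ⟨t, ht⟩⁻¹ := Subtype.ext h3
  have h6 : (d ^ m) x = g⁻¹ ⟨t, ht⟩ * x * (g⁻¹ ⟨t, ht⟩)⁻¹ := by
    have := congrArg (fun y => (g⁻¹ : MulAut T) y) h5
    rw [MulAut.inv_apply_self, map_mul, map_mul, map_inv, MulAut.inv_apply_self] at this
    exact this
  rw [h6]
  rfl

/-- Images of centric subgroups of `E` under `Aut_F(T)` are centric in `E`. -/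
theorem centric_img_of_invF {F : FusionSystem S} {E : FusionSystem T} (hinv : InvF E F)
    {R X : Subgroup Ω} (hR : E.IsCentric R) {a : Ω → Ω}
    (ha : Iso F T T a) (hX : ∀ y, y ∈ X ↔ ∃ x ∈ R, a x = y) : E.IsCentric X := by
  obtain ⟨a', ha', ha'a, haa'⟩ := ha.symm
  have hXT : X ≤ T := by
    intro y hy
    obtain ⟨x, hx, rfl⟩ := (hX y).1 hy
    exact ha.map_mem (hR.1 hx)
  refine ⟨hXT, fun Y hY => ?_⟩
  obtain ⟨f, hf⟩ := (isConj_iff E X Y).1 hY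
  have hR' : ∀ y, y ∈ R ↔ ∃ x ∈ X, a' x = y := by
    intro y
    constructor
    · intro hy
      exact ⟨a y, (hX _).2 ⟨y, hy, rfl⟩, ha'a y (hR.1 hy)⟩
    · rintro ⟨z, hz, rfl⟩
      obtain ⟨x, hx, rfl⟩ := (hX z).1 hz
      rw [ha'a x (hR.1 hx)]
      exact hx
  obtain ⟨χ, hχ, hc⟩ := hinv X f hf.mor a' ha' R hR'
  have h1 := hR.2 _ hχ.iso_img.isConj
  intro c hcc
  obtain ⟨hcT, hcY⟩ := (mem_centralizerIn_iff T Y c).1 hcc
  have h2 : a' c ∈ centralizerIn T (img R χ) := by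
    refine (mem_centralizerIn_iff T _ _).2 ⟨ha'.map_mem hcT, fun y hy => ?_⟩
    obtain ⟨r, hr, rfl⟩ := (hχ.mem_img y).1 hy
    obtain ⟨x, hx, rfl⟩ := (hR' r).1 hr
    rw [hc x hx]
    have h3 := hcY (f x) (hf.map_mem hx)
    rw [← ha'.mor.map_mul (hf.mor.mem hx) hcT, ← ha'.mor.map_mul hcT (hf.mor.mem hx), h3]
  obtain ⟨r, hr, er⟩ := (hχ.mem_img _).1 (h1 h2)
  obtain ⟨x, hx, rfl⟩ := (hR' r).1 hr
  rw [hc x hx] at er
  have h5 : f x = c := ha'.mor.inj (hf.mor.mem hx) hcT er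
  rw [← h5]
  exact hf.map_mem hx

/-- Centric subgroups of one invariant subsystem over `T` are centric in every subsystem of `F` over `T`. -/
theorem centric_of_centric_invariant {F : FusionSystem S} {E D : FusionSystem T}
    (hinv : InvF E F) (hfrat : FratF E F) (hDF : D.IsSubsystemOf F) {R : Subgroup Ω}
    (hR : E.IsCentric R) : D.IsCentric R := by
  refine ⟨hR.1, fun Q hQ => ?_⟩
  obtain ⟨f, hf⟩ := (isConj_iff D R Q).1 hQ
  obtain ⟨a, f₀, ha, hf₀, e⟩ := hfrat R f hR.1 (hf.mor.of_subsystem hDF)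
  refine centric_self (centric_img_of_invF hinv (centric_conj hR hf₀.iso_img.isConj) ha
    (fun y => ?_))
  rw [hf.2 y]
  constructor
  · rintro ⟨x, hx, rfl⟩
    exact ⟨f₀ x, hf₀.iso_img.map_mem hx, (e x hx).symm⟩
  · rintro ⟨z, hz, rfl⟩
    obtain ⟨x, hx, rfl⟩ := hf₀.iso_img.surj hz
    exact ⟨x, hx, e x hx⟩

end Cfsg.Agent.Lib.Helper87
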