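import Cfsg.Agent.Lib.Helper87.LeastNormal

set_option autoImplicit false

namespace Cfsg.Agent.Lib.Helper87

open Cfsg Cfsg.FusionSystem

variable {Ω : Type*} [Group Ω] {S T : Subgroup Ω}

/-- **Closure.** Let `E` and `D` be saturated invariant subsystems of `F` over `T`. An element of `Aut_E(T)` whose
restriction to a centric subgroup of `E` lies in `D` lies in `Aut_D(T)`. -/
theorem closed_of_two_invariant [Finite T] {p : ℕ} [Fact p.Prime] (hT : IsPGroup p T)
    {F : FusionSystem S} {E D : FusionSystem T} (hTS : T ≤ S) (hEs : E.IsSaturated p)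
    (hEF : E.IsSubsystemOf F) (hinv : InvF E F) (hfrat : FratF E F) (hDs : D.IsSaturated p)
    (hDF : D.IsSubsystemOf F) :
    ∀ (m : ℕ) (R : Subgroup Ω) (a : Ω → Ω), E.IsCentric R → Iso E T T a → Mor D R a →
      Nat.card T - Nat.card R = m → Mor D T a := by
  intro m
  induction m using Nat.strong_induction_on with
  | _ m ih =>
  intro R a hR ha haR hm
  by_cases hRT : R = T
  · subst hRT
    exact haR
  have hlt : R < T := lt_of_le_of_ne hR.1 hRT
  have hRD : D.IsCentric R := centric_of_centric_invariant hinv hfrat hDF hR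
  have hiso := haR.iso_img
  have hrec : D.IsReceptive (img R a) :=
    fullyCentralized_receptive hT hDs (centric_fullyCentralized (centric_conj hRD hiso.isConj))
  obtain ⟨ε, hε, eε⟩ := receptive_extend hrec hiso (normalizerIn T R) (normalizerIn_le T R)
    inf_le_right (fun g hg => ⟨a g, ha.map_mem hg.1, fun x hx => ha.mor.map_conj hg.1 (hR.1 hx)⟩)
  have hRN := le_normalizerIn hR.1
  rw [sup_eq_right.2 hRN] at hε
  set N := normalizerIn T R with hN
  have hNT : N ≤ T := normalizerIn_le T R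
  have : Finite N := finite_of_le hNT
  obtain ⟨a', ha', ha'a, haa'⟩ := ha.symm
  have ha'F : Mor F T a' := ha'.mor.of_subsystem hEF
  have hγF : Mor F N (a' ∘ ε) :=
    (hε.of_subsystem hDF).comp ha'F (fun x hx => hε.mem hx)
  have hγid : ∀ x ∈ R, a' (ε x) = x := by
    intro x hx
    rw [eε x hx, ha'a x (hR.1 hx)]
  have hγN : ∀ x ∈ N, a' (ε x) ∈ N := by
    intro x hx
    have h1 : ε x ∈ normalizerIn T (img R a) :=
      hε.map_mem_normalizerIn hRN inf_le_right (fun y => by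
        rw [hiso.2 y]
        constructor
        · rintro ⟨z, hz, rfl⟩
          exact ⟨z, hz, eε z hz⟩
        · rintro ⟨z, hz, rfl⟩
          exact ⟨z, hz, (eε z hz).symm⟩) hx
    exact (ha'.mor.mono (normalizerIn_le T (img R a))).map_mem_normalizerIn
        (le_normalizerIn hiso.le') inf_le_right (fun y => by
          constructor
          · intro hy
            exact ⟨a y, hiso.map_mem hy, ha'a y (hR.1 hy)⟩
          · rintro ⟨z, hz, rfl⟩
            obtain ⟨y, hy, rfl⟩ := hiso.surj hz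
            rw [ha'a y (hR.1 hy)]
            exact hy) h1
  have hγiso : Iso F N N (a' ∘ ε) := hγF.iso_self hγN
  obtain ⟨γ, hγ, eγ⟩ := hγiso.exists_aut
  have hfix : ∀ x : N, (x : Ω) ∈ R → γ x = x := by
    intro x hx
    apply Subtype.ext
    rw [eγ]
    exact hγid x hx
  have hmove : ∀ x : N, (x : Ω)⁻¹ * (γ x : N) ∈ R := by
    intro x
    rw [eγ]
    show (x : Ω)⁻¹ * a' (ε x) ∈ R
    refine centric_self hR ((mem_centralizerIn_iff T R _).2
      ⟨T.mul_mem (T.inv_mem (hNT x.2)) (hNT (hγN x x.2)), fun r hr => ?_⟩)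
    have hr' : (x : Ω) * r * (x : Ω)⁻¹ ∈ R := (Subgroup.mem_normalizer_iff.1 x.2.2 r).1 hr
    have h1 : (a' ∘ ε) ((x : Ω) * r * (x : Ω)⁻¹) = (a' ∘ ε) x * (a' ∘ ε) r * ((a' ∘ ε) x)⁻¹ :=
      hγF.map_conj x.2 (hRN hr)
    simp only [Function.comp] at h1
    rw [hγid _ hr', hγid r hr] at h1
    calc r * ((x : Ω)⁻¹ * a' (ε x)) = (x : Ω)⁻¹ * ((x : Ω) * r * (x : Ω)⁻¹) * a' (ε x) := by group
      _ = (x : Ω)⁻¹ * (a' (ε x) * r * (a' (ε x))⁻¹) * a' (ε x) := by rw [h1]
      _ = (x : Ω)⁻¹ * a' (ε x) * r := by group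
  obtain ⟨k, hk⟩ := IsPGroup.iff_card.1 (hT.to_le hNT)
  have hγp : γ ^ (p ^ k) = 1 :=
    pow_eq_one_of_fix γ hfix hmove (fun x => by rw [← hk]; exact pow_card_eq_one')
  -- decompose `ε`
  obtain ⟨d, ε₀, hd, hε₀E, -, ed⟩ := decomp_aut_inf hT hDs hDF hfrat hε
  obtain ⟨α', hα', eα'⟩ := ha'.exists_aut
  obtain ⟨δ, hδ, eδ⟩ := hd.exists_aut
  obtain ⟨M, hM, hδM⟩ := exists_coprime_pow_mem_inn hT hDs hδ
  have hδF : δ ∈ F.autGroup T := autGroup_mono hDF T hδ
  have hκM : (α' * δ) ^ M ∈ E.autGroup T :=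
    mul_pow_mem_of_normalizes hα' (fun n hn => autGroup_normal_of_invF hTS hinv hδF hn)
      (autInducedBy_le_autGroup E le_rfl hδM)
  have hγE : Mor E N (autFun γ) := by
    refine mor_of_pElement hTS hinv (Subgroup.mul_mem _ (autGroup_mono hEF T hα') hδF) hε₀E
      (fun x hx => ?_) hγp hM hκM
    have h1 : ε₀ x ∈ T := hε₀E.mem hx
    have h2 : d (ε₀ x) ∈ T := hd.map_mem h1
    rw [autFun_apply γ hx, eγ, autFun_mul _ _ h1, autFun_apply δ h1, eδ]
    show a' (ε x) = autFun α' (d (ε₀ x))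
    rw [autFun_apply α' h2, eα', ed x hx]
  have hγE' : Iso E N N (a' ∘ ε) :=
    ⟨hγE.congr (fun x hx => by rw [autFun_apply γ hx, eγ]), hγiso.2⟩
  obtain ⟨z, hz, -, ez⟩ := aut_id_on_centric hT hEs hRN inf_le_right hR hγE' hγid
  have hzN : z ∈ N := hRN hz
  have haN : Mor D N a := by
    have hc : Mor D N (fun y => z⁻¹ * y * z⁻¹⁻¹) := mor_conj D hNT (T.inv_mem (hR.1 hz))
    have hcN : ∀ y ∈ N, z⁻¹ * y * z⁻¹⁻¹ ∈ N := fun y hy =>
      N.mul_mem (N.mul_mem (N.inv_mem hzN) hy) (N.inv_mem (N.inv_mem hzN))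
    refine (hc.comp hε hcN).congr (fun y hy => ?_)
    show ε (z⁻¹ * y * z⁻¹⁻¹) = a y
    have h1 := ez _ (hcN y hy)
    simp only [Function.comp] at h1
    have h2 : z * (z⁻¹ * y * z⁻¹⁻¹) * z⁻¹ = y := by group
    rw [h2] at h1
    conv_rhs => rw [← h1]
    rw [haa' _ (hε.mem (hcN y hy))]
  obtain ⟨g, hg, hgR⟩ := exists_mem_normalizerIn_not_mem hT le_rfl hlt
  have hcard : Nat.card R < Nat.card N :=
    card_lt_of_le_ne hNT hRN (fun hh => hgR (hh ▸ hg))
  have hle : Nat.card N ≤ Nat.card T := Subgroup.card_le_of_le hNT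
  exact ih (Nat.card T - Nat.card N) (by omega) N a (centric_of_le hR hRN hNT) ha haN rfl

/-- `O^{p'}(E)` is contained in every saturated invariant subsystem of `F` over `T`. -/
theorem residual_le_of_invariant [Finite T] {p : ℕ} [Fact p.Prime] (hT : IsPGroup p T)
    {F : FusionSystem S} {E D D' : FusionSystem T} (hTS : T ≤ S) (hEs : E.IsSaturated p)
    (hEF : E.IsSubsystemOf F) (hinv : InvF E F) (hfrat : FratF E F) (hDs : D'.IsSaturated p)
    (hDF : D'.IsSubsystemOf F) (hfratD : FratF D' F) (hD : E.IsPPrimeResidual p D) :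
    D.IsSubsystemOf D' := by
  have hmem : infSystem E D' ∈ closedFam E p := by
    refine ⟨fun P φ h => h.1, fun P hP => OpP_le_infSystem hEs hEF hfratD hP.1,
      fun a ha R hR h => ?_⟩
    exact (mor_infSystem_iff E D' T a).2 ⟨ha.mor, closed_of_two_invariant hT hTS hEs hEF hinv hfrat
      hDs hDF _ R a hR ha ((mor_infSystem_iff E D' R a).1 h).2 rfl⟩
  have h1 := hD.2.2 _ (residualSystem_saturated hT hEs) (isPPrimeResidual_residualSystem hT hEs).2.1
  intro P φ hφ
  exact (interSystem_le_of_mem E hmem P (genPart_le _ _ P (h1 P hφ))).2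

end Cfsg.Agent.Lib.Helper87
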