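import Cfsg.Agent.Lib.Helper87.Saturated
import Cfsg.Agent.Lib.Helper87.KNorm
import Cfsg.Agent.Lib.Helper87.HypAct
import Cfsg.Agent.Lib.Helper87.PPowerExt

set_option autoImplicit false

namespace Cfsg.Agent.Lib.Helper87

open Cfsg Cfsg.FusionSystem

variable {Ω : Type*} [Group Ω] {S : Subgroup Ω}

/-- Automorphisms of `D` stabilizing `P`. -/
def stabAut (D P : Subgroup Ω) : Subgroup (MulAut D) where
  carrier := {l | ∀ x : D, (x : Ω) ∈ P ↔ ((l x : D) : Ω) ∈ P}
  mul_mem' := by
    intro a b ha hb x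
    rw [hb x, ha (b x)]
    rfl
  one_mem' := fun _ => Iff.rfl
  inv_mem' := by
    intro a ha x
    rw [ha (a⁻¹ x), MulAut.apply_inv_self]

/-- Automorphisms of `D` fixing `P` elementwise. -/
def fixAut (D P : Subgroup Ω) : Subgroup (MulAut D) where
  carrier := {l | ∀ x : D, (x : Ω) ∈ P → l x = x}
  mul_mem' := by
    intro a b ha hb x hx
    rw [MulAut.mul_apply, hb x hx, ha x hx]
  one_mem' := fun _ _ => rfl
  inv_mem' := by
    intro a ha x hx
    conv_lhs => rw [← ha x hx]
    rw [MulAut.inv_apply_self]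

theorem fixAut_le_stabAut (D P : Subgroup Ω) : fixAut D P ≤ stabAut D P := by
  intro l hl x
  constructor
  · intro hx
    rw [hl x hx]
    exact hx
  · intro hx
    have h1 := hl (l x) hx
    rw [← l.injective h1]
    exact hx

/-- A subgroup `P` of a receptive subgroup `D`, all of whose isomorphisms extend to `D`, is fully
automized and receptive as soon as `Aut_S(D)` contains a Sylow subgroup of the stabilizer of `P`. -/
theorem fa_rec_of_sub [Finite S] {p : ℕ} [Fact p.Prime] (hS : IsPGroup p S) {F : FusionSystem S}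
    {D P : Subgroup Ω} (hD : F.IsReceptive D) (hPD : P ≤ D)
    (hsyl : IsSylIn p (ASt S D (stabAut D P) id) (stabAut D P ⊓ F.autGroup D))
    (H1 : normalizerIn S P ≤ Subgroup.normalizer (D : Set Ω))
    (H2 : ∀ (R₀ : Subgroup Ω) (f : Ω → Ω), Iso F R₀ P f → ∃ (R : Subgroup Ω) (f' : Ω → Ω),
      Iso F R D f' ∧ R₀ ≤ R ∧ (∀ x ∈ R₀, f' x = f x) ∧
        normalizerIn S R₀ ≤ Subgroup.normalizer (R : Set Ω))
    (H3 : ∀ f : Ω → Ω, Iso F P P f → ∃ f', Iso F D D f' ∧ ∀ x ∈ P, f' x = f x) :
    F.IsFullyAutomized p P ∧ F.IsReceptive P := by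
  have hDS : D ≤ S := hD.1
  have hPS : P ≤ S := hPD.trans hDS
  have hfinD : Finite D := finite_of_le hDS
  have hfinP : Finite P := finite_of_le hPS
  -- conjugation by elements of `N_S(P)` on `D`
  have hconjD : ∀ k ∈ normalizerIn S P, ∃ σ ∈ ASt S D (stabAut D P) id,
      ∀ x : D, ((σ x : D) : Ω) = k * x * k⁻¹ := by
    intro k hk
    refine ⟨(conjToAut S D ⟨k, hk.1, H1 hk⟩ : autInducedBy S D), ⟨fun x => ?_, k, hk.1, fun x => rfl⟩,
      fun x => rfl⟩
    exact Subgroup.mem_normalizer_iff.1 hk.2 x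
  constructor
  · -- fully automized
    have r : ∀ l : ↥(stabAut D P ⊓ F.autGroup D), ∃ b ∈ F.autGroup P,
        ∀ t : P, ((b t : P) : Ω) = autFun l.1 t := by
      intro l
      obtain ⟨b, hb, e, -⟩ := restrict_aut (F := F) hDS hPD l.2.2 (fun t ht => by
        rw [autFun_apply _ (hPD ht)]
        exact (l.2.1 ⟨t, hPD ht⟩).1 ht)
      exact ⟨b, hb, e⟩
    let res : ↥(stabAut D P ⊓ F.autGroup D) →* ↥(F.autGroup P) :=
      MonoidHom.mk' (fun l => ⟨(r l).choose, (r l).choose_spec.1⟩) (by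
        intro a b
        apply Subtype.ext
        apply MulEquiv.ext
        intro t
        apply Subtype.ext
        show (((r (a * b)).choose t : P) : Ω) = (((r a).choose ((r b).choose t) : P) : Ω)
        rw [(r (a * b)).choose_spec.2 t, (r a).choose_spec.2, (r b).choose_spec.2 t]
        exact autFun_mul _ _ (hPD t.2))
    have hres : ∀ (l : ↥(stabAut D P ⊓ F.autGroup D)) (t : P),
        ((((res l : F.autGroup P) : MulAut P) t : P) : Ω) = autFun l.1 t :=
      fun l t => (r l).choose_spec.2 t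
    have hsurj : Function.Surjective res := by
      rintro ⟨β, hβ⟩
      obtain ⟨f', hf', e⟩ := H3 _ (iso_autFun ((mem_autGroup_iff F hPS β).1 hβ))
      obtain ⟨l, hl, el⟩ := hf'.exists_aut
      have hst : l ∈ stabAut D P := by
        intro x
        rw [el x]
        constructor
        · intro hx
          rw [e x hx]
          exact autFun_mem β hx
        · intro hx
          have h1 : f' (autFun β⁻¹ (f' x)) = f' x := by
            rw [e _ (autFun_mem _ hx), autFun_autFun_inv β hx]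
          have h2 := hf'.1.inj (hPD (autFun_mem β⁻¹ hx)) x.2 h1
          rw [← h2]
          exact autFun_mem _ hx
      refine ⟨⟨l, hst, hl⟩, ?_⟩
      apply Subtype.ext
      apply MulEquiv.ext
      intro t
      apply Subtype.ext
      rw [hres, autFun_apply _ (hPD t.2), el, e t t.2, autFun_coe]
    refine ⟨hPS, hsyl.toSylow.mapSurjective hsurj, ?_⟩
    ext β
    rw [Subgroup.mem_subgroupOf]
    constructor
    · rintro ⟨l, hl, rfl⟩
      obtain ⟨-, n, hn, e⟩ := (Subgroup.mem_subgroupOf.1 hl : (l : MulAut D) ∈ ASt S D _ id)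
      refine (mem_autInducedBy_iff S P _).2 ⟨n, hn, fun t => ?_⟩
      rw [hres, autFun_apply _ (hPD t.2)]
      exact (e ⟨t, hPD t.2⟩).symm
    · intro hβ
      obtain ⟨n, hn, e⟩ := (mem_autInducedBy_iff S P _).1 hβ
      obtain ⟨σ, hσ, eσ⟩ := hconjD n ⟨hn, mem_normalizer_of_induces e⟩
      have hσK := hsyl.1 hσ
      refine ⟨⟨σ, hσK⟩, Subgroup.mem_subgroupOf.2 hσ, ?_⟩
      apply Subtype.ext
      apply MulEquiv.ext
      intro t
      apply Subtype.ext
      rw [hres, autFun_apply _ (hPD t.2), eσ, e]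
  · -- receptive
    refine receptive_of hPS (fun R₀ f hf N hN => ?_)
    obtain ⟨R, f', hf', hR₀R, ef, hnorm⟩ := H2 R₀ f hf
    obtain ⟨ψ, hψ, hψf, hfψ⟩ := hf'.symm
    have hNS : N ≤ S := fun g hg => ((hN g).1 hg).1
    have himg : img D (id : Ω → Ω) = D := (Iso.refl F hDS).img_eq
    have hL : fixAut D P ⊓ F.autGroup D ≤ stabAut D P ⊓ F.autGroup D :=
      inf_le_inf_right _ (fixAut_le_stabAut D P)
    obtain ⟨χ, hχ, ρ, hρ, eρ⟩ := extend_marked (F := F) (X := D) (K := stabAut D P) (φ := id) hS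
      (mor_id F hDS) (himg.symm ▸ hD) hsyl (fixAut D P ⊓ F.autGroup D) hL (by
        intro σ hσ l hl
        have hσK := hsyl.1 hσ
        refine ⟨fun x hx => ?_, Subgroup.mul_mem _ (Subgroup.mul_mem _ hσK.2 hl.2)
          (Subgroup.inv_mem _ hσK.2)⟩
        have h1 : ((σ⁻¹ x : D) : Ω) ∈ P := ((Subgroup.inv_mem _ hσK.1) x).1 hx
        show σ (l (σ⁻¹ x)) = x
        rw [hl.1 _ h1, MulAut.apply_inv_self]) hψ.1 N hNS (by
        intro n hn
        obtain ⟨hnS, hnn, k, hk, ek⟩ := (hN n).1 hn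
        have hnR : n ∈ Subgroup.normalizer (R : Set Ω) := hnorm ⟨hnS, hnn⟩
        -- the transported automorphism
        have hc : Iso F R R (fun x => n * x * n⁻¹) := by
          have : Finite R := finite_of_le hf'.le
          exact (mor_conj F hf'.le hnS).iso_self
            (fun x hx => (Subgroup.mem_normalizer_iff.1 hnR x).1 hx)
        obtain ⟨κ, hκ, eκ⟩ := ((hψ.trans hc).trans hf').exists_aut
        have eκ' : ∀ x : D, ((κ x : D) : Ω) = f' (n * ψ x * n⁻¹) := eκ
        -- `k` normalizes `P`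
        have hkP : k ∈ normalizerIn S P := by
          refine ⟨hk, ?_⟩
          have hle : ∀ y ∈ P, k * y * k⁻¹ ∈ P := by
            intro y hy
            obtain ⟨x, hx, rfl⟩ := hf.surj hy
            rw [← ek x hx]
            exact hf.map_mem ((Subgroup.mem_normalizer_iff.1 hnn x).1 hx)
          have hiso := (mor_conj F hPS hk).iso_self hle
          obtain ⟨β, -, eβ⟩ := hiso.exists_aut
          exact mem_normalizer_of_induces eβ
        obtain ⟨σ, hσ, eσ⟩ := hconjD k hkP
        have hσK := hsyl.1 hσ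
        refine ⟨κ, ?_, fun x => ?_⟩
        · have h1 : κ = σ * (σ⁻¹ * κ) := by group
          rw [h1]
          refine Subgroup.mul_mem_sup hσ ⟨fun x hx => ?_, Subgroup.mul_mem _
            (Subgroup.inv_mem _ hσK.2) hκ⟩
          show σ⁻¹ (κ x) = x
          have h2 : κ x = σ x := by
            apply Subtype.ext
            obtain ⟨r, hr, er⟩ := hf.surj hx
            rw [eκ', eσ, ← er, ← ef r hr, hψf r (hR₀R hr),
              ef _ ((Subgroup.mem_normalizer_iff.1 hnn r).1 hr), ek r hr, ef r hr]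
          rw [h2, MulAut.inv_apply_self]
        · rw [eκ', hψf _ ((Subgroup.mem_normalizer_iff.1 hnR _).1 (hψ.map_mem x.2))])
    refine ⟨ρ, hρ.mono le_sup_right, fun x hx => ?_⟩
    have hfx : f x ∈ P := hf.map_mem hx
    have h1 := eρ ⟨f x, hPD hfx⟩
    have h2 : ψ (f x) = x := by rw [← ef x hx, hψf x (hR₀R hx)]
    rw [show ψ ((⟨f x, hPD hfx⟩ : D) : Ω) = x from h2, hχ.1 _ hfx] at h1
    exact h1

end Cfsg.Agent.Lib.Helper87
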