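import Cfsg.Agent.Lib.Helper87.KNormSat
import Cfsg.Agent.Lib.Helper87.SubReceptive

set_option autoImplicit false

namespace Cfsg.Agent.Lib.Helper87

open Cfsg Cfsg.FusionSystem

variable {Ω : Type*} [Group Ω] {S : Subgroup Ω}

/-- The saturation axioms hold for the conjugacy class of `X`. -/
def SatAt (F : FusionSystem S) (p : ℕ) (X : Subgroup Ω) : Prop :=
  ∃ Z, F.IsConj X Z ∧ F.IsFullyAutomized p Z ∧ F.IsReceptive Z

theorem SatAt.conj {F : FusionSystem S} {p : ℕ} {X Y : Subgroup Ω} (h : SatAt F p X)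
    (hXY : F.IsConj X Y) : SatAt F p Y := by
  obtain ⟨Z, hZ, h1, h2⟩ := h
  exact ⟨Z, isConj_trans (isConj_symm hXY) hZ, h1, h2⟩

theorem SatAt.receptive_of_fullyCentralized [Finite S] {p : ℕ} [Fact p.Prime] (hS : IsPGroup p S)
    {F : FusionSystem S} {P : Subgroup Ω} (hF : SatAt F p P) (hP : F.IsFullyCentralized P) :
    F.IsReceptive P := by
  obtain ⟨Q, hPQ, hQa, hQr⟩ := hF
  obtain ⟨φ, hφ, hQ, -⟩ := exists_mor_normalizer hS hQa hQr hPQ
  refine receptive_of_mor_normalizer hQr hφ hP.1 hQ (fun c hc => ?_)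
  obtain ⟨x, hx, e⟩ := hφ.surj_of_card_le (centralizerIn_le_normalizerIn S P) (centralizerIn_le S Q)
    (fun x hx => hφ.map_mem_centralizerIn (le_normalizerIn hP.1) hQ
      (centralizerIn_le_normalizerIn S P hx) ((mem_centralizerIn_iff S P x).1 hx).2)
    (hP.2 Q hPQ) c hc
  exact ⟨x, centralizerIn_le_normalizerIn S P hx, e⟩

section

variable {F : FusionSystem S} {X : Subgroup Ω} {K : Subgroup (MulAut X)} {φ : Ω → Ω}

theorem FNKt.propA' [Finite S] {p : ℕ} [Fact p.Prime] (hS : IsPGroup p S) (hF : SatAt F p X)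
    (h : FNKt F X K φ) :
    F.IsFullyCentralized (img X φ) ∧ IsSylIn p (ASt S X K φ) (K ⊓ F.autGroup X) := by
  obtain ⟨hφ, hmax⟩ := h
  have hX := hφ.le
  have : Finite X := finite_of_le hX
  obtain ⟨T, hT, hAT⟩ := exists_isSylIn_ge (ASt_le_autGroup (K := K) hφ le_rfl) (isPGroup_ASt hφ hS)
  obtain ⟨Z, hXZ, hZa, hZr⟩ := hF
  obtain ⟨ζ₀, hζ₀⟩ := (isConj_iff F X Z).1 hXZ
  obtain ⟨ζ, hζ, hζT⟩ := exists_iso_conj_into hZa hζ₀ T (hT.1.trans inf_le_right) hT.2.1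
  obtain ⟨g, hg, hgφ, hφg⟩ := hφ.iso_img.symm
  have hθ : Iso F (img X φ) Z (ζ ∘ g) := hg.trans hζ
  obtain ⟨ρ, hρ, hρθ⟩ := receptive_extend hZr hθ (NKt S X K φ) (NKt_le S X K φ)
    (NKt_le_normalizer hφ) (by
      rintro n ⟨hn, κ, hκ, e⟩
      obtain ⟨k, hk, hk'⟩ := hζT κ (hAT ⟨hκ, n, hn, e⟩)
      refine ⟨k, hk, fun y hy => ?_⟩
      obtain ⟨x, hx, rfl⟩ := (hφ.mem_img y).1 hy
      show ζ (g (n * φ x * n⁻¹)) = k * ζ (g (φ x)) * k⁻¹
      rw [e ⟨x, hx⟩, hgφ _ (Subtype.prop _), hgφ x hx, hk' ⟨x, hx⟩])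
  have hρφ : ∀ x ∈ X, ρ (φ x) = ζ x := fun x hx => by
    rw [hρθ _ (hφ.iso_img.map_mem hx)]
    show ζ (g (φ x)) = ζ x
    rw [hgφ x hx]
  have hYD : img X φ ≤ img X φ ⊔ NKt S X K φ := le_sup_left
  have hND : NKt S X K φ ≤ img X φ ⊔ NKt S X K φ := le_sup_right
  have hmap : ∀ n ∈ NKt S X K φ, ∀ κ : MulAut X, (∀ x : X, n * φ x * n⁻¹ = φ (κ x : X)) →
      ∀ x : X, ρ n * ζ x * (ρ n)⁻¹ = ζ (κ x : X) := by
    intro n hn κ e x
    rw [← hρφ x x.2, ← hρ.map_conj (hND hn) (hYD (hφ.iso_img.map_mem x.2)), e x,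
      hρφ _ (Subtype.prop _)]
  have hinto : ∀ n ∈ NKt S X K φ, ρ n ∈ NKt S X K ζ := by
    intro n hn
    obtain ⟨-, κ, hκ, e⟩ := id hn
    exact ⟨hρ.mem (hND hn), κ, hκ, hmap n hn κ e⟩
  have hsurj := hρ.surj_of_card_le hND (NKt_le S X K ζ) hinto (hmax ζ hζ.mor)
  have hZimg : img X ζ = Z := hζ.img_eq
  constructor
  · refine ⟨hφ.img_le, fun Y' hY' => ?_⟩
    have h1 : Nat.card (centralizerIn S Y') ≤ Nat.card (centralizerIn S Z) :=
      (receptive_fullyCentralized hZr).2 Y' (isConj_trans (isConj_symm hθ.isConj) hY')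
    refine h1.trans ?_
    obtain ⟨r, hr, hrρ, -⟩ := hρ.iso_img.symm
    have hcZ : centralizerIn S Z ≤ img (img X φ ⊔ NKt S X K φ) ρ := by
      intro c hc
      have hc' : c ∈ NKt S X K ζ := centralizerIn_le_NKt hζ.mor (hZimg.symm ▸ hc)
      obtain ⟨n, hn, rfl⟩ := hsurj c hc'
      exact hρ.iso_img.map_mem (hND hn)
    refine hr.mor.card_le hcZ (centralizerIn_le S _) (fun c hc => ?_)
    have hc' : c ∈ NKt S X K ζ := centralizerIn_le_NKt hζ.mor (hZimg.symm ▸ hc)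
    obtain ⟨n, hn, rfl⟩ := hsurj c hc'
    rw [hrρ n (hND hn)]
    refine (mem_centralizerIn_iff S _ n).2 ⟨hn.1, fun y hy => ?_⟩
    obtain ⟨-, hcc⟩ := (mem_centralizerIn_iff S _ _).1 hc
    have h2 := hcc (ρ y) (by rw [hρθ y hy]; exact hθ.map_mem hy)
    rw [← hρ.map_mul (hYD hy) (hND hn), ← hρ.map_mul (hND hn) (hYD hy)] at h2
    exact hρ.inj (Subgroup.mul_mem _ (hYD hy) (hND hn)) (Subgroup.mul_mem _ (hND hn) (hYD hy)) h2
  · have hTA : T ≤ ASt S X K φ := by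
      intro τ hτ
      obtain ⟨k, hk, hk'⟩ := hζT τ hτ
      have hkN : k ∈ NKt S X K ζ := ⟨hk, τ, (hT.1 hτ).1, fun x => (hk' x).symm⟩
      obtain ⟨n, hn, rfl⟩ := hsurj k hkN
      obtain ⟨hnS, κ, hκ, e⟩ := id hn
      have h3 : κ = τ := by
        apply MulEquiv.ext
        intro x
        have h4 := hmap n hn κ e x
        rw [← hk' x] at h4
        exact (Subtype.ext (hζ.mor.inj (Subtype.prop _) (Subtype.prop _) h4)).symm
      exact ⟨(hT.1 hτ).1, n, hnS, h3 ▸ e⟩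
    have : ASt S X K φ = T := le_antisymm hAT hTA
    rw [this]
    exact hT


theorem FNKt.props [Finite S] {p : ℕ} [Fact p.Prime] (hS : IsPGroup p S) (hF : SatAt F p X)
    (h : FNKt F X K φ) :
    F.IsReceptive (img X φ) ∧ IsSylIn p (ASt S X K φ) (K ⊓ F.autGroup X) := by
  obtain ⟨h1, h2⟩ := h.propA' hS hF
  exact ⟨(hF.conj h.1.iso_img.isConj).receptive_of_fullyCentralized hS h1, h2⟩

/-- Composing a fully normalized marking with a map defined on the relevant normalizer. -/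
theorem FNKt.comp [Finite S] (h : FNKt F X K φ) {N : Subgroup Ω} {t : Ω → Ω} (ht : Mor F N t)
    (h1 : img X φ ≤ N) (h2 : NKt S X K φ ≤ N) : FNKt F X K (t ∘ φ) := by
  have hm : Mor F X (t ∘ φ) := h.1.comp ht (fun x hx => h1 (h.1.iso_img.map_mem hx))
  refine ⟨hm, fun ψ hψ => (h.2 ψ hψ).trans ?_⟩
  refine ht.card_le h2 (NKt_le S X K _) (fun n hn => ?_)
  obtain ⟨-, κ, hκ, e⟩ := id hn
  refine ⟨ht.mem (h2 hn), κ, hκ, fun x => ?_⟩
  show t n * t (φ x) * (t n)⁻¹ = t (φ (κ x : X))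
  rw [← ht.map_conj (h2 hn) (h1 (h.1.iso_img.map_mem x.2)), e x]

end

end Cfsg.Agent.Lib.Helper87
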