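import Cfsg.Agent.Lib.Helper87.PPower
import Cfsg.Agent.Lib.Helper87.HypAct
import Cfsg.Agent.Lib.Helper87.SubnormalConstrained
import Cfsg.Agent.Lib.Helper71.Basic
import Cfsg.Prelude.Def_FusionReduction

set_option autoImplicit false

namespace Cfsg.Agent.Lib.Helper87

open Cfsg Cfsg.FusionSystem

variable {Ω : Type*} [Group Ω]

theorem coprime_mem_residual_map {A : Type*} [Group A] {p : ℕ} {K : Subgroup A} {a : A}
    (ha : a ∈ K) (hc : Nat.Coprime (orderOf a) p) : a ∈ (pResidual p K).map K.subtype := by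
  rw [Cfsg.Agent.Lib.Helper2.map_pResidual_subtype]
  exact Subgroup.subset_closure ⟨ha, hc⟩

theorem hyperfocal_mono {S T : Subgroup Ω} {E : FusionSystem T} {F : FusionSystem S}
    (hTS : T ≤ S) (hEF : E.IsSubsystemOf F) (p : ℕ) :
    E.hyperfocalSubgroup p ≤ F.hyperfocalSubgroup p := by
  refine (Subgroup.closure_le _).2 ?_
  rintro _ ⟨P, α, x, hP, hα, rfl⟩
  have h1 : (α : MulAut P) ∈ (pResidual p (F.autGroup P)).map (F.autGroup P).subtype :=
    residual_map_mono p (autGroup_mono hEF P) ⟨α, hα, rfl⟩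
  obtain ⟨β, hβ, e⟩ := h1
  have := mem_hyperfocal_of (hP.trans hTS) hβ x
  rw [show ((β : MulAut P)) = (α : MulAut P) from e] at this
  exact this

/-- A subsystem of `p`-power index has the same hyperfocal subgroup. -/
theorem hyperfocal_eq_of_pPowerIndex {S T : Subgroup Ω} [Finite S] {p : ℕ} [Fact p.Prime]
    (hS : IsPGroup p S) {F : FusionSystem S} (hT : F.StronglyClosed T) {E : FusionSystem T}
    (hE : E.HasPPowerIndexIn F p) : E.hyperfocalSubgroup p = F.hyperfocalSubgroup p := by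
  apply le_antisymm (hyperfocal_mono hT.1 hE.1 p)
  refine (Subgroup.closure_le _).2 ?_
  rintro _ ⟨P, α, x, hP, hα, rfl⟩
  have h1 : (pResidual p (F.autGroup P)).map (F.autGroup P).subtype ≤ autModT F P
      (E.hyperfocalSubgroup p) := by
    rw [Cfsg.Agent.Lib.Helper2.map_pResidual_subtype]
    refine (Subgroup.closure_le _).2 ?_
    rintro a ⟨ha, hc⟩
    refine ⟨ha, fun x => ?_⟩
    have hfinP : Finite P := finite_of_le hP
    have hfinP0 : Finite (P ⊓ T : Subgroup Ω) := finite_of_le (inf_le_left.trans hP)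
    have ham := (mem_autGroup_iff F hP a).1 ha
    obtain ⟨b, hb, eb, hbo⟩ := restrict_aut (F := F) (Q := P) (T := P ⊓ T) hP inf_le_left ha
      (fun t ht => ⟨autFun_mem a ht.1, StronglyClosed.map_mem hT ham ht.1 ht.2⟩)
    have hbc : Nat.Coprime (orderOf b) p := Nat.Coprime.coprime_dvd_left hbo hc
    have hbE : b ∈ E.autGroup (P ⊓ T) := hE.2.2 _ inf_le_right (coprime_mem_residual_map hb hbc)
    have hbR : (⟨b, hbE⟩ : E.autGroup (P ⊓ T)) ∈ pResidual p (E.autGroup (P ⊓ T)) := by
      refine Subgroup.subset_closure ?_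
      show Nat.Coprime (orderOf (⟨b, hbE⟩ : E.autGroup (P ⊓ T))) p
      rw [Subgroup.orderOf_mk]
      exact hbc
    have hH : ∀ t (ht : t ∈ P ⊓ T), t⁻¹ * autFun a t ∈ E.hyperfocalSubgroup p := by
      intro t ht
      have := mem_hyperfocal_of (F := E) inf_le_right hbR ⟨t, ht⟩
      rw [← eb ⟨t, ht⟩]
      exact this
    set y : Ω := (x : Ω)⁻¹ * (a x : P) with hy
    have hyT : y ∈ P ⊓ T := by
      refine ⟨P.mul_mem (P.inv_mem x.2) (a x).2, hE.2.1 ?_⟩
      obtain ⟨a', ha', e'⟩ := coprime_mem_residual_map ha hc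
      have := mem_hyperfocal_of hP ha' x
      rw [show ((a' : MulAut P)) = a from e'] at this
      exact this
    have key : ∀ i : ℕ, (x : Ω)⁻¹ * ((a ^ i) x : P) ∈ P ⊓ T ∧
        (y ^ i)⁻¹ * ((x : Ω)⁻¹ * ((a ^ i) x : P)) ∈ E.hyperfocalSubgroup p := by
      intro i
      induction i with
      | zero => simp
      | succ i ih =>
        set w : Ω := (x : Ω)⁻¹ * ((a ^ i) x : P) with hw
        have e1 : (x : Ω)⁻¹ * ((a ^ (i + 1)) x : P) = y * autFun a w := by
          rw [hw, ham.map_mul (P.inv_mem x.2) ((a ^ i) x).2, ham.map_inv x.2, autFun_coe,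
            autFun_coe, pow_succ', MulAut.mul_apply, hy]
          group
        rw [e1]
        refine ⟨Subgroup.mul_mem _ hyT ⟨autFun_mem a ih.1.1,
          StronglyClosed.map_mem hT ham ih.1.1 ih.1.2⟩, ?_⟩
        have e2 : (y ^ (i + 1))⁻¹ * (y * autFun a w) = ((y ^ i)⁻¹ * w) * (w⁻¹ * autFun a w) := by
          rw [pow_succ]
          group
        rw [e2]
        exact Subgroup.mul_mem _ ih.2 (hH w ih.1)
    have h2 := (key (orderOf a)).2
    rw [pow_orderOf_eq_one, MulAut.one_apply, inv_mul_cancel, mul_one] at h2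
    have h3 : y ^ orderOf a ∈ E.hyperfocalSubgroup p := by
      have := Subgroup.inv_mem _ h2
      rwa [inv_inv] at this
    obtain ⟨k, hk⟩ := (hS.to_le (inf_le_left.trans hP)) ⟨y, hyT⟩
    have h4 : y ^ (p ^ k) ∈ E.hyperfocalSubgroup p := by
      have : y ^ (p ^ k) = 1 := congrArg Subtype.val hk
      rw [this]
      exact Subgroup.one_mem _
    exact Cfsg.Agent.Lib.Helper71.mem_of_pow_mem_of_coprime _ y (Nat.Coprime.pow_right k hc) h3 h4
  exact (h1 ⟨α, hα, rfl⟩).2 x

/-! ### Congruence lemmas -/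

theorem ppower_congr {S A B : Subgroup Ω} (h : A = B) [Finite A] {p : ℕ} [Fact p.Prime]
    (hA : IsPGroup p A) {F : FusionSystem S} {X : FusionSystem A} {Y : FusionSystem B}
    (hXs : X.IsSaturated p) (hX : X.HasPPowerIndexIn F p) (hYs : Y.IsSaturated p)
    (hY : Y.HasPPowerIndexIn F p) : ∀ P, X.Hom P = Y.Hom P := by
  subst h
  intro P
  exact Set.Subset.antisymm (pPowerIndex_unique hA hXs hX hY P) (pPowerIndex_unique hA hYs hY hX P)

theorem pprime_congr {A B : Subgroup Ω} (h : A = B) {p : ℕ} {X X' : FusionSystem A}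
    {Y Y' : FusionSystem B} (hXY : ∀ P, X.Hom P = Y.Hom P) (hX' : X.IsPPrimeResidual p X')
    (hY' : Y.IsPPrimeResidual p Y') : ∀ P, X'.Hom P = Y'.Hom P := by
  subst h
  obtain rfl := fs_ext hXY
  intro P
  exact Set.Subset.antisymm (hX'.2.2 Y' hY'.1 hY'.2.1 P) (hY'.2.2 X' hX'.1 hX'.2.1 P)

theorem limit_congr {A B T : Subgroup Ω} (h : A = B) {p : ℕ} {X : FusionSystem A}
    {Y : FusionSystem B} (hXY : ∀ P, X.Hom P = Y.Hom P) {L : FusionSystem T}
    (hL : L.IsResidualLimitOf X p) : L.IsResidualLimitOf Y p := by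
  subst h
  obtain rfl := fs_ext hXY
  exact hL

theorem stable_congr {A B : Subgroup Ω} (h : A = B) {p : ℕ} {X : FusionSystem A}
    {Y : FusionSystem B} (hXY : ∀ P, X.Hom P = Y.Hom P)
    (hY : Y.hyperfocalSubgroup p = B ∧ Y.IsPPrimeResidual p Y) :
    X.hyperfocalSubgroup p = A ∧ X.IsPPrimeResidual p X := by
  subst h
  obtain rfl := fs_ext hXY
  exact hY

/-- A saturated system equals every subsystem of `p`-power index over the whole group. -/
theorem hom_eq_of_pPowerIndex_top {S A : Subgroup Ω} [Finite S] {p : ℕ} [Fact p.Prime]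
    (hS : IsPGroup p S) {F : FusionSystem S} (hF : F.IsSaturated p) (hSA : S ≤ A)
    {X : FusionSystem A} (hX : X.HasPPowerIndexIn F p) : ∀ P, X.Hom P = F.Hom P := by
  intro P
  refine Set.Subset.antisymm (hX.1 P) ?_
  exact isSubsystemOf_of_mor (subsystem_of_residual_le (F := F) hS hF (fun _ _ h => h) hSA
    (fun P hP => hX.2.2 P (hP.trans hSA))) P

theorem limit_of_stable {T S : Subgroup Ω} {E : FusionSystem T} {F : FusionSystem S} {p : ℕ}
    (h : E.IsResidualLimitOf F p) : p.Prime → Finite S → IsPGroup p S → F.IsSaturated p →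
      F.hyperfocalSubgroup p = S → F.IsPPrimeResidual p F → T = S ∧ ∀ P, E.Hom P = F.Hom P := by
  induction h with
  | stable F p h1 h2 => exact fun _ _ _ _ _ _ => ⟨rfl, fun _ => rfl⟩
  | step F p D D' hD hD' hlim ih =>
    intro hp hfin hS hF hhyp hres
    have : Fact p.Prime := ⟨hp⟩
    have hDF : ∀ P, D.Hom P = F.Hom P := hom_eq_of_pPowerIndex_top hS hF hhyp.ge hD.2
    have hD'F : ∀ P, D'.Hom P = F.Hom P := pprime_congr hhyp hDF hD' hres
    have hst := stable_congr hhyp hD'F ⟨hhyp, hres⟩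
    have hle := hyperfocal_le F p
    obtain ⟨h1, h2⟩ := ih hp (finite_of_le hle) (hS.to_le hle) hD'.1 hst.1 hst.2
    exact ⟨h1.trans hhyp, fun P => (h2 P).trans (hD'F P)⟩

theorem limit_unique {T S : Subgroup Ω} {E : FusionSystem T} {F : FusionSystem S} {p : ℕ}
    (h : E.IsResidualLimitOf F p) : p.Prime → Finite S → IsPGroup p S → F.IsSaturated p →
      ∀ {T' : Subgroup Ω} (E' : FusionSystem T'), E'.IsResidualLimitOf F p →
        ∀ P, E.Hom P = E'.Hom P := by
  induction h with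
  | stable F p h1 h2 =>
    intro hp hfin hS hF T' E' h'
    exact fun P => ((limit_of_stable h' hp hfin hS hF h1 h2).2 P).symm
  | step F p D D' hD hD' hlim ih =>
    intro hp hfin hS hF T' E' h'
    have : Fact p.Prime := ⟨hp⟩
    have hle := hyperfocal_le F p
    have hfin' : Finite (F.hyperfocalSubgroup p) := finite_of_le hle
    cases h' with
    | stable _ _ h1 h2 =>
      exact (limit_of_stable (IsResidualLimitOf.step F p D D' hD hD' hlim) hp hfin hS hF h1 h2).2
    | step _ _ D₂ D₂' hD₂ hD₂' hlim₂ =>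
      have e1 := ppower_congr rfl (hS.to_le hle) hD₂.1 hD₂.2 hD.1 hD.2
      have e2 := pprime_congr rfl e1 hD₂' hD'
      exact ih hp hfin' (hS.to_le hle) hD'.1 E' (limit_congr rfl e2 hlim₂)

end Cfsg.Agent.Lib.Helper87
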