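import Cfsg.Agent.Lib.Helper87.Craven7
import Cfsg.Agent.Lib.Helper87.ResidualLimit

set_option autoImplicit false

namespace Cfsg.Agent.Lib.Helper87

open Cfsg Cfsg.FusionSystem

variable {Ω : Type*} [Group Ω] {S : Subgroup Ω}

/-- The class of maps generated by the automorphisms of order prime to `p` and the conjugations by
elements of `T`. -/
inductive Gen (F : FusionSystem S) (p : ℕ) (T : Subgroup Ω) : Subgroup Ω → (Ω → Ω) → Prop
  | aut {R : Subgroup Ω} (hR : R ≤ S) (α : MulAut R) (hα : α ∈ F.autGroup R)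
      (hc : Nat.Coprime (orderOf α) p) : Gen F p T R (autFun α)
  | conj {R : Subgroup Ω} (hR : R ≤ S) {t : Ω} (ht : t ∈ T) : Gen F p T R (fun x => t * x * t⁻¹)
  | mono {R P : Subgroup Ω} {f : Ω → Ω} : Gen F p T R f → P ≤ R → Gen F p T P f
  | comp {P Q : Subgroup Ω} {f g : Ω → Ω} : Gen F p T P f → Gen F p T Q g → (∀ x ∈ P, f x ∈ Q) →
      Gen F p T P (g ∘ f)
  | congr {P : Subgroup Ω} {f g : Ω → Ω} : Gen F p T P f → (∀ x ∈ P, f x = g x) → Gen F p T P g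

namespace Gen

variable {F : FusionSystem S} {p : ℕ} {T : Subgroup Ω}

theorem mor (hTS : T ≤ S) {P : Subgroup Ω} {f : Ω → Ω} (h : Gen F p T P f) : Mor F P f := by
  induction h with
  | aut hR α hα hc => exact (mem_autGroup_iff F hR α).1 hα
  | conj hR ht => exact mor_conj F hR (hTS ht)
  | mono _ hPR ih => exact ih.mono hPR
  | comp _ _ hPQ ih1 ih2 => exact ih1.comp ih2 hPQ
  | congr _ e ih => exact ih.congr e

theorem id {P : Subgroup Ω} (hP : P ≤ S) : Gen F p T P id :=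
  (Gen.conj (F := F) (p := p) hP T.one_mem).congr (fun x _ => by simp)

theorem inv (hTS : T ≤ S) {P : Subgroup Ω} {f : Ω → Ω} (h : Gen F p T P f) :
    ∀ Q : Subgroup Ω, (∀ y, y ∈ Q ↔ ∃ x ∈ P, f x = y) → ∃ g, Gen F p T Q g ∧ ∀ x ∈ P, g (f x) = x := by
  induction h with
  | @aut R hR α hα hc =>
    intro Q hQ
    have hQR : Q = R := by
      ext y
      rw [hQ, (iso_autFun ((mem_autGroup_iff F hR α).1 hα)).2 y]
    subst hQR
    exact ⟨autFun α⁻¹, Gen.aut hR α⁻¹ (Subgroup.inv_mem _ hα) (by rwa [orderOf_inv]),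
      fun x hx => autFun_inv_autFun α hx⟩
  | @conj R hR t ht =>
    intro Q hQ
    have hQS : Q ≤ S := by
      intro y hy
      obtain ⟨x, hx, rfl⟩ := (hQ y).1 hy
      exact S.mul_mem (S.mul_mem (hTS ht) (hR hx)) (S.inv_mem (hTS ht))
    exact ⟨_, Gen.conj hQS (T.inv_mem ht), fun x _ => by group⟩
  | @mono R P f h hPR ih =>
    intro Q hQ
    obtain ⟨g, hg, e⟩ := ih (img R f) (h.mor hTS).mem_img
    refine ⟨g, hg.mono ?_, fun x hx => e x (hPR hx)⟩
    intro y hy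
    obtain ⟨x, hx, rfl⟩ := (hQ y).1 hy
    exact ((h.mor hTS).mem_img _).2 ⟨x, hPR hx, rfl⟩
  | @comp P Q₀ f g hf hg hPQ ih1 ih2 =>
    intro Q hQ
    obtain ⟨f', hf', e1⟩ := ih1 (img P f) (hf.mor hTS).mem_img
    obtain ⟨g', hg', e2⟩ := ih2 (img Q₀ g) (hg.mor hTS).mem_img
    have hle : Q ≤ img Q₀ g := by
      intro y hy
      obtain ⟨x, hx, rfl⟩ := (hQ y).1 hy
      exact ((hg.mor hTS).mem_img _).2 ⟨f x, hPQ x hx, rfl⟩
    refine ⟨f' ∘ g', (hg'.mono hle).comp hf' ?_, fun x hx => ?_⟩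
    · intro y hy
      obtain ⟨x, hx, rfl⟩ := (hQ y).1 hy
      show g' (g (f x)) ∈ _
      rw [e2 _ (hPQ x hx)]
      exact ((hf.mor hTS).mem_img _).2 ⟨x, hx, rfl⟩
    · show f' (g' (g (f x))) = x
      rw [e2 _ (hPQ x hx), e1 x hx]
  | @congr P f g h e ih =>
    intro Q hQ
    obtain ⟨g', hg', e'⟩ := ih Q (fun y => by
      rw [hQ]
      constructor
      · rintro ⟨x, hx, rfl⟩
        exact ⟨x, hx, e x hx⟩
      · rintro ⟨x, hx, rfl⟩
        exact ⟨x, hx, (e x hx).symm⟩)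
    exact ⟨g', hg', fun x hx => by rw [← e x hx, e' x hx]⟩

/-- Invariance under simultaneous conjugation by elements of `S`. -/
theorem conjS (hTn : ∀ s ∈ S, ∀ t ∈ T, s * t * s⁻¹ ∈ T) {P : Subgroup Ω} {f : Ω → Ω}
    (h : Gen F p T P f) {s : Ω} (hs : s ∈ S) :
    Gen F p T (cj s P) (fun y => s * f (s⁻¹ * y * s) * s⁻¹) := by
  induction h with
  | @aut R hR α hα hc =>
    have hiso : Iso F R (cj s R) (fun x => s * x * s⁻¹) := ⟨mor_conj F hR hs, fun _ => mem_cj'⟩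
    have h1 := Gen.aut (F := F) (p := p) (T := T) hiso.le' (MulAut.congr hiso.toMulEquiv α)
      (hiso.congr_mem_autGroup hα) (by
        rw [MulEquiv.orderOf_eq]
        exact hc)
    refine h1.congr (fun y hy => ?_)
    obtain ⟨x, hx, rfl⟩ := mem_cj'.1 hy
    rw [autFun_congr hiso α hx]
    have : s⁻¹ * (s * x * s⁻¹) * s = x := by group
    rw [this]
  | @conj R hR t ht =>
    have hle : cj s R ≤ S := cj_le_iff.2 (fun x hx => S.mul_mem (S.mul_mem hs (hR hx)) (S.inv_mem hs))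
    exact (Gen.conj hle (hTn s hs t ht)).congr (fun y _ => by group)
  | mono _ hPR ih => exact ih.mono (cj_mono hPR)
  | @comp P Q f g _ _ hPQ ih1 ih2 =>
    refine (ih1.comp ih2 ?_).congr ?_
    · intro y hy
      obtain ⟨x, hx, rfl⟩ := mem_cj'.1 hy
      have : s⁻¹ * (s * x * s⁻¹) * s = x := by group
      rw [this]
      exact conj_mem_cj (hPQ x hx)
    · intro y _
      show s * g (s⁻¹ * (s * f (s⁻¹ * y * s) * s⁻¹) * s) * s⁻¹ = _
      have : s⁻¹ * (s * f (s⁻¹ * y * s) * s⁻¹) * s = f (s⁻¹ * y * s) := by group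
      rw [this]
      rfl
  | @congr P f g _ e ih =>
    refine ih.congr (fun y hy => ?_)
    rw [e _ (mem_cj.1 hy)]

theorem of_residual (hTS : T ≤ S) {R : Subgroup Ω} (hR : R ≤ S) {κ : MulAut R}
    (hκ : κ ∈ (pResidual p (F.autGroup R)).map (F.autGroup R).subtype) :
    Gen F p T R (autFun κ) := by
  rw [Cfsg.Agent.Lib.Helper2.map_pResidual_subtype] at hκ
  induction hκ using Subgroup.closure_induction with
  | mem x hx => exact Gen.aut hR x hx.1 hx.2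
  | one => exact (Gen.id hR).congr (fun x hx => (autFun_one hx).symm)
  | mul a b _ _ iha ihb =>
    exact (ihb.comp iha (fun x hx => autFun_mem b hx)).congr (fun x hx => (autFun_mul a b hx).symm)
  | inv a _ iha =>
    obtain ⟨g, hg, e⟩ := iha.inv hTS R (iso_autFun (iha.mor hTS)).2
    refine hg.congr (fun x hx => ?_)
    have h1 := e _ (autFun_mem a⁻¹ hx)
    rwa [autFun_autFun_inv a hx] at h1

/-- Maps of the class move elements by elements of `T`. -/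
theorem move (hTn : ∀ s ∈ S, ∀ t ∈ T, s * t * s⁻¹ ∈ T)
    (hT : F.hyperfocalSubgroup p ≤ T) {P : Subgroup Ω} {f : Ω → Ω} (h : Gen F p T P f) :
    ∀ x ∈ P, x⁻¹ * f x ∈ T := by
  induction h with
  | @aut R hR α hα hc =>
    intro x hx
    have h1 : (⟨α, hα⟩ : F.autGroup R) ∈ pResidual p (F.autGroup R) := by
      refine Subgroup.subset_closure ?_
      show Nat.Coprime (orderOf (⟨α, hα⟩ : F.autGroup R)) p
      rw [← Subgroup.orderOf_coe]
      exact hc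
    have h2 := mem_hyperfocal_of hR h1 ⟨x, hx⟩
    rw [autFun_apply α hx]
    exact hT h2
  | @conj R hR t ht =>
    intro x hx
    have h1 := hTn x⁻¹ (S.inv_mem (hR hx)) t ht
    have h2 : x⁻¹ * (t * x * t⁻¹) = x⁻¹ * t * x⁻¹⁻¹ * t⁻¹ := by group
    rw [h2]
    exact T.mul_mem h1 (T.inv_mem ht)
  | mono _ hPR ih => exact fun x hx => ih x (hPR hx)
  | @comp P Q f g _ _ hPQ ih1 ih2 =>
    intro x hx
    have h2 : x⁻¹ * (g ∘ f) x = x⁻¹ * f x * ((f x)⁻¹ * g (f x)) := by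
      show x⁻¹ * g (f x) = _
      group
    rw [h2]
    exact T.mul_mem (ih1 x hx) (ih2 _ (hPQ x hx))
  | @congr P f g _ e ih =>
    intro x hx
    rw [← e x hx]
    exact ih x hx

theorem of_subsystem {S' T' : Subgroup Ω} {E : FusionSystem S'} (hS' : S' ≤ S)
    (hE : E.IsSubsystemOf F) (hT' : T' ≤ T) {P : Subgroup Ω} {f : Ω → Ω} (h : Gen E p T' P f) :
    Gen F p T P f := by
  induction h with
  | aut hR α hα hc => exact Gen.aut (hR.trans hS') α (autGroup_mono hE _ hα) hc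
  | conj hR ht => exact Gen.conj (hR.trans hS') (hT' ht)
  | mono _ hPR ih => exact ih.mono hPR
  | comp _ _ hPQ ih1 ih2 => exact ih1.comp ih2 hPQ
  | congr _ e ih => exact ih.congr e

end Gen

/-- Decomposition of a map as a map of the class followed by a conjugation. -/
def Dec (F : FusionSystem S) (p : ℕ) (T : Subgroup Ω) (P : Subgroup Ω) (f : Ω → Ω) : Prop :=
  ∃ s ∈ S, ∃ f₀, Gen F p T P f₀ ∧ ∀ x ∈ P, f x = s * f₀ x * s⁻¹

namespace Dec

variable {F : FusionSystem S} {p : ℕ} {T : Subgroup Ω}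

theorem of_gen {P : Subgroup Ω} {f : Ω → Ω} (h : Gen F p T P f) : Dec F p T P f :=
  ⟨1, S.one_mem, f, h, fun x _ => by simp⟩

theorem conj {P : Subgroup Ω} (hP : P ≤ S) {s : Ω} (hs : s ∈ S) :
    Dec F p T P (fun x => s * x * s⁻¹) :=
  ⟨s, hs, id, Gen.id hP, fun _ _ => rfl⟩

theorem comp (hTn : ∀ s ∈ S, ∀ t ∈ T, s * t * s⁻¹ ∈ T) {P Q : Subgroup Ω} {f g : Ω → Ω}
    (hf : Dec F p T P f) (hg : Dec F p T Q g) (hPQ : ∀ x ∈ P, f x ∈ Q) : Dec F p T P (g ∘ f) := by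
  obtain ⟨s, hs, f₀, hf₀, e⟩ := hf
  obtain ⟨u, hu, g₀, hg₀, e'⟩ := hg
  have h1 := hg₀.conjS hTn (S.inv_mem hs)
  refine ⟨u * s, S.mul_mem hu hs, _, hf₀.comp h1 ?_, fun x hx => ?_⟩
  · intro x hx
    rw [mem_cj]
    have := hPQ x hx
    rw [e x hx] at this
    simpa using this
  · show g (f x) = u * s * (s⁻¹ * g₀ (s⁻¹⁻¹ * f₀ x * s⁻¹) * s⁻¹⁻¹) * (u * s)⁻¹
    rw [e' _ (hPQ x hx), e x hx, inv_inv]
    group

theorem inv (hTS : T ≤ S) (hTn : ∀ s ∈ S, ∀ t ∈ T, s * t * s⁻¹ ∈ T) {P Q : Subgroup Ω}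
    {f g : Ω → Ω} (hQ : ∀ y, y ∈ Q ↔ ∃ x ∈ P, f x = y) (hgf : ∀ x ∈ P, g (f x) = x)
    (hf : Dec F p T P f) : Dec F p T Q g := by
  obtain ⟨s, hs, f₀, hf₀, e⟩ := hf
  obtain ⟨f₁, hf₁, e₁⟩ := hf₀.inv hTS (cj s⁻¹ Q) (fun y => by
    rw [mem_cj, hQ]
    constructor
    · rintro ⟨x, hx, h⟩
      refine ⟨x, hx, ?_⟩
      rw [e x hx, inv_inv] at h
      have : f₀ x = s⁻¹ * (s * f₀ x * s⁻¹) * s := by group
      rw [this, h]
      group
    · rintro ⟨x, hx, rfl⟩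
      exact ⟨x, hx, by rw [e x hx, inv_inv]⟩)
  have h1 := hf₁.conjS hTn hs
  rw [cj_cj_inv] at h1
  refine ⟨s⁻¹, S.inv_mem hs, _, h1, fun y hy => ?_⟩
  obtain ⟨x, hx, rfl⟩ := (hQ y).1 hy
  rw [hgf x hx, e x hx]
  have : s⁻¹ * (s * f₀ x * s⁻¹) * s = f₀ x := by group
  rw [this, e₁ x hx]
  group

end Dec

/-- Every map of a saturated system is a map of the class followed by a conjugation. -/
theorem dec_of_mor [Finite S] {p : ℕ} [Fact p.Prime] (hS : IsPGroup p S) {F : FusionSystem S}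
    (hF : F.IsSaturated p) {T : Subgroup Ω} (hTS : T ≤ S)
    (hTn : ∀ s ∈ S, ∀ t ∈ T, s * t * s⁻¹ ∈ T) :
    ∀ (P : Subgroup Ω) (f : Ω → Ω), Mor F P f → Dec F p T P f := by
  refine alperin_induction hS hF (Dec F p T) ?_ ?_ ?_ ?_ ?_
  · rintro P f g ⟨s, hs, f₀, hf₀, e⟩ e'
    exact ⟨s, hs, f₀, hf₀, fun x hx => by rw [← e' x hx, e x hx]⟩
  · rintro P R f - ⟨s, hs, f₀, hf₀, e⟩ hRP
    exact ⟨s, hs, f₀, hf₀.mono hRP, fun x hx => e x (hRP hx)⟩
  · intro P Q f g _ _ hf hg hPQ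
    exact hf.comp hTn hg hPQ
  · intro P Q f g hf _ hgf h
    exact h.inv hTS hTn hf.2 hgf
  · intro U hU
    left
    intro α hα
    obtain ⟨w, hw, s, hs, e⟩ := aut_eq_residual_mul_conj (fullyNormalized_fullyAutomized hS hF hU) hα
    have h1 : Dec F p T U (fun x => s * x * s⁻¹) := Dec.conj hU.1 hs.1
    have h2 : Dec F p T U (autFun (w : MulAut U)) :=
      Dec.of_gen (Gen.of_residual hTS hU.1 ⟨w, hw, rfl⟩)
    obtain ⟨s', hs', f₀, hf₀, e'⟩ := h1.comp hTn h2 (fun x hx =>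
      (((mem_normalizerIn_iff S U s).1 hs).2 x).1 hx)
    exact ⟨s', hs', f₀, hf₀, fun x hx => by
      rw [← e' x hx, autFun_apply α hx, e]
      rfl⟩

end Cfsg.Agent.Lib.Helper87
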