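import Cfsg.Agent.Lib.Helper87.PI1
import Cfsg.Agent.Lib.Helper87.HyperfocalGroupB

set_option autoImplicit false

namespace Cfsg.Agent.Lib.Helper87

open Cfsg Cfsg.FusionSystem

variable {Ω : Type*} [Group Ω] {S : Subgroup Ω}

/-- Commutators of `Aut_S(U)` with automorphisms of order prime to `p` are induced by the hyperfocal
subgroup. -/
theorem comm_mem_autH [Finite S] {p : ℕ} [Fact p.Prime] (hS : IsPGroup p S) {F : FusionSystem S}
    (hF : F.IsSaturated p) {U : Subgroup Ω} (hU : F.IsFullyNormalized U)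
    (K : Subgroup (MulAut U)) (hK : K ≤ autInducedBy S U) {β : MulAut U} (hβ : β ∈ F.autGroup U)
    (hc : Nat.Coprime (orderOf β) p) (hn : ∀ t ∈ K, β * t * β⁻¹ ∈ K) {y : MulAut U} (hy : y ∈ K) :
    y⁻¹ * (β * y * β⁻¹) ∈ autInducedBy (F.hyperfocalSubgroup p) U := by
  obtain ⟨f', hf', ef⟩ := extend_of_normalizes (fullyNormalized_receptive hS hF hU) K hβ
    (fun t ht => ⟨hK (hn t ht.2), hn t ht.2⟩)
  set W := U ⊔ NK S U K with hW
  have hUW : U ≤ W := le_sup_left
  have hNW : NK S U K ≤ W := le_sup_right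
  have hWS : W ≤ S := hf'.le
  have : Finite W := finite_of_le hWS
  have hconj : ∀ (δ : Ω → Ω), Mor F W δ → (∀ x ∈ U, δ x = autFun β x) → ∀ n ∈ W,
      ∀ (κ : MulAut U), (∀ x : U, ((κ x : U) : Ω) = n * x * n⁻¹) →
      ∀ x : U, (((β * κ * β⁻¹) x : U) : Ω) = δ n * x * (δ n)⁻¹ := by
    intro δ hδ eδ n hn' κ eκ x
    have h1 : (((β * κ * β⁻¹) x : U) : Ω) = autFun β ((κ (β⁻¹ x) : U) : Ω) := by
      rw [autFun_coe]
      rfl
    rw [h1, ← eδ _ (Subtype.prop _), eκ, hδ.map_conj hn' (hUW (Subtype.prop _)),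
      eδ _ (Subtype.prop _), autFun_coe, MulAut.apply_inv_self]
  have hmap : ∀ x ∈ W, f' x ∈ W := by
    refine hf'.map_sup_mem (fun x hx => ?_) (fun n hn' => ?_)
    · rw [ef x hx]
      exact hUW (autFun_mem β hx)
    · obtain ⟨hnS, κ, hκ, eκ⟩ := hn'
      exact hNW ⟨hf'.mem (hNW ⟨hnS, κ, hκ, eκ⟩), β * κ * β⁻¹, hn κ hκ,
        hconj f' hf' ef n (hNW ⟨hnS, κ, hκ, eκ⟩) κ eκ⟩
  obtain ⟨γ, hγ, eγ⟩ := (hf'.iso_self hmap).exists_aut
  obtain ⟨j, hj, hβj⟩ := exists_pow_coprime hc (orderOf_pos γ)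
  have hagree : ∀ x ∈ U, autFun (γ ^ j) x = autFun β x := by
    intro x hx
    have := autFun_pow_agree hUW (α := β) (β := γ) (fun x hx => by
      rw [autFun_apply γ (hUW hx), eγ, ef x hx]) j x hx
    rw [this, hβj]
  have hγj : γ ^ j ∈ F.autGroup W := Subgroup.pow_mem _ hγ j
  have hδ : Mor F W (autFun (γ ^ j)) := (mem_autGroup_iff F hWS _).1 hγj
  obtain ⟨u, hu, eu⟩ := (mem_autInducedBy_iff S U y).1 (hK hy)
  have huW : u ∈ W := hNW ⟨hu, y, hy, eu⟩
  have hres : (⟨γ ^ j, hγj⟩ : F.autGroup W) ∈ pResidual p (F.autGroup W) := by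
    refine Subgroup.subset_closure ?_
    show Nat.Coprime (orderOf (⟨γ ^ j, hγj⟩ : F.autGroup W)) p
    rw [← Subgroup.orderOf_coe]
    exact hj
  have hh := mem_hyperfocal_of hWS hres ⟨u, huW⟩
  rw [mem_autInducedBy_iff]
  refine ⟨_, hh, fun x => ?_⟩
  have h2 := hconj _ hδ hagree u huW y eu x
  have h3 : ∀ z : U, ((y⁻¹ z : U) : Ω) = u⁻¹ * z * u := by
    intro z
    have := eu (y⁻¹ z)
    rw [MulAut.apply_inv_self] at this
    rw [this]
    group
  rw [MulAut.mul_apply, h3, h2, autFun_apply _ huW]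
  group

/-- `Aut_S(U) ∩ O^p(Aut_F(U))` is induced by the hyperfocal subgroup. -/
theorem residual_conj_mem [Finite S] {p : ℕ} [Fact p.Prime] (hS : IsPGroup p S)
    {F : FusionSystem S} (hF : F.IsSaturated p) {U : Subgroup Ω} (hU : F.IsFullyNormalized U)
    {κ : MulAut U} (hκ : κ ∈ (pResidual p (F.autGroup U)).map (F.autGroup U).subtype)
    (hκS : κ ∈ autInducedBy S U) : κ ∈ autInducedBy (F.hyperfocalSubgroup p) U := by
  have hUfin : Finite U := finite_of_le hU.1
  obtain ⟨R, hR⟩ := (fullyNormalized_fullyAutomized hS hF hU).2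
  obtain ⟨k, hk, rfl⟩ := hκ
  have h1 : k ∈ (R : Subgroup (F.autGroup U)) ⊓ pResidual p (F.autGroup U) := by
    refine ⟨?_, hk⟩
    rw [hR]
    exact Subgroup.mem_subgroupOf.2 hκS
  have h2 := HG.inf_pResidual_le_hyperfocal R h1
  set B : Subgroup (F.autGroup U) :=
    (autInducedBy (F.hyperfocalSubgroup p) U).subgroupOf (F.autGroup U) with hB
  suffices h : (groupFusionSystem (R : Subgroup (F.autGroup U))).hyperfocalSubgroup p ≤ B from
    Subgroup.mem_subgroupOf.1 (h h2)
  refine (Subgroup.closure_le _).2 ?_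
  rintro _ ⟨Y, α, y, hY, hα, rfl⟩
  have key : ∀ y : Y, (y : F.autGroup U)⁻¹ * (((α : MulAut Y) y : Y) : F.autGroup U) ∈ B := by
    induction hα using Subgroup.closure_induction with
    | mem a ha =>
      intro y
      have ha' : Nat.Coprime (orderOf (a : MulAut Y)) p := by
        rw [Subgroup.orderOf_coe]
        exact ha
      obtain ⟨-, -, g, hg⟩ := (mem_autGroup_iff' _ hY (a : MulAut Y)).1 a.2
      obtain ⟨g', hg'c, hg'⟩ := HG.exists_coprime_inducing ha' (g := g) (fun x => hg x)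
      rw [hg' y]
      refine Subgroup.mem_subgroupOf.2 ?_
      have hYS : Y.map (F.autGroup U).subtype ≤ autInducedBy S U := by
        rintro _ ⟨z, hz, rfl⟩
        have := hY hz
        rw [hR] at this
        exact Subgroup.mem_subgroupOf.1 this
      exact comm_mem_autH hS hF hU (Y.map (F.autGroup U).subtype) hYS g'.2
        (by rw [Subgroup.orderOf_coe]; exact hg'c)
        (by
          rintro _ ⟨z, hz, rfl⟩
          refine ⟨g' * z * g'⁻¹, ?_, rfl⟩
          rw [← hg' ⟨z, hz⟩]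
          exact Subtype.prop _) ⟨y, y.2, rfl⟩
    | one =>
      intro y
      simp
    | mul a b _ _ iha ihb =>
      intro y
      have h3 : (y : F.autGroup U)⁻¹ * ((((a * b : (groupFusionSystem
          (R : Subgroup (F.autGroup U))).autGroup Y) : MulAut Y) y : Y) : F.autGroup U) =
          ((y : F.autGroup U)⁻¹ * (((b : MulAut Y) y : Y) : F.autGroup U)) *
          ((((b : MulAut Y) y : Y) : F.autGroup U)⁻¹ *
            (((a : MulAut Y) ((b : MulAut Y) y) : Y) : F.autGroup U)) := by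
        rw [mul_assoc, mul_inv_cancel_left]
        rfl
      rw [h3]
      exact B.mul_mem (ihb y) (iha _)
    | inv a _ iha =>
      intro y
      have h3 := iha ((a : MulAut Y)⁻¹ y)
      rw [MulAut.apply_inv_self] at h3
      have h4 := B.inv_mem h3
      rw [mul_inv_rev, inv_inv] at h4
      exact h4
  exact key y

end Cfsg.Agent.Lib.Helper87
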