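import Cfsg.Agent.Lib.Helper87.PI2

set_option autoImplicit false

namespace Cfsg.Agent.Lib.Helper87

open Cfsg Cfsg.FusionSystem

variable {Ω : Type*} [Group Ω] {S : Subgroup Ω}

/-- `O^p(Aut_F(P))` as a subgroup of `Aut(P)`. -/
def ResA (F : FusionSystem S) (p : ℕ) (P : Subgroup Ω) : Subgroup (MulAut P) :=
  (pResidual p (F.autGroup P)).map (F.autGroup P).subtype

/-- Admissible maps: an element of `O^p(Aut_F(P))` followed by conjugation by an element of `T`. -/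
def Adm (F : FusionSystem S) (p : ℕ) (T P : Subgroup Ω) (f : Ω → Ω) : Prop :=
  ∃ κ ∈ ResA F p P, ∃ t ∈ T, ∀ x ∈ P, f x = t * autFun κ x * t⁻¹

namespace Adm

variable {F : FusionSystem S} {p : ℕ} {T : Subgroup Ω}

theorem congr {P : Subgroup Ω} {f g : Ω → Ω} (h : Adm F p T P f) (e : ∀ x ∈ P, f x = g x) :
    Adm F p T P g := by
  obtain ⟨κ, hκ, t, ht, e'⟩ := h
  exact ⟨κ, hκ, t, ht, fun x hx => by rw [← e x hx, e' x hx]⟩

theorem of_res {P : Subgroup Ω} {κ : MulAut P} (hκ : κ ∈ ResA F p P) : Adm F p T P (autFun κ) :=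
  ⟨κ, hκ, 1, T.one_mem, fun x _ => by simp⟩

theorem conj {P : Subgroup Ω} {t : Ω} (ht : t ∈ T) : Adm F p T P (fun x => t * x * t⁻¹) :=
  ⟨1, Subgroup.one_mem _, t, ht, fun x hx => by rw [autFun_one hx]⟩

theorem conj_left {P : Subgroup Ω} {f : Ω → Ω} (h : Adm F p T P f) {t : Ω} (ht : t ∈ T) :
    Adm F p T P (fun x => t * f x * t⁻¹) := by
  obtain ⟨κ, hκ, t', ht', e⟩ := h
  exact ⟨κ, hκ, t * t', T.mul_mem ht ht', fun x hx => by
    show t * f x * t⁻¹ = _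
    rw [e x hx]
    group⟩

theorem comp (hTS : T ≤ S) {P₁ P₂ : Subgroup Ω} {f g : Ω → Ω} (hP₁ : P₁ ≤ S)
    (h1 : Adm F p T P₁ f) (hP₂ : ∀ y, y ∈ P₂ ↔ ∃ x ∈ P₁, f x = y) (h2 : Adm F p T P₂ g) :
    Adm F p T P₁ (g ∘ f) := by
  obtain ⟨κ, hκ, t, ht, e⟩ := h1
  obtain ⟨κ', hκ', t', ht', e'⟩ := h2
  have hP₂S : P₂ ≤ S := by
    intro y hy
    obtain ⟨x, hx, rfl⟩ := (hP₂ y).1 hy
    rw [e x hx]
    exact S.mul_mem (S.mul_mem (hTS ht) (hP₁ (autFun_mem κ hx))) (S.inv_mem (hTS ht))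
  have hiso : Iso F P₂ P₁ (fun z => t⁻¹ * z * t⁻¹⁻¹) := by
    refine ⟨mor_conj F hP₂S (S.inv_mem (hTS ht)), fun y => ⟨fun hy => ?_, ?_⟩⟩
    · refine ⟨f (autFun κ⁻¹ y), (hP₂ _).2 ⟨_, autFun_mem κ⁻¹ hy, rfl⟩, ?_⟩
      rw [e _ (autFun_mem κ⁻¹ hy), autFun_autFun_inv κ hy]
      group
    · rintro ⟨z, hz, rfl⟩
      obtain ⟨x, hx, rfl⟩ := (hP₂ z).1 hz
      rw [e x hx]
      have : t⁻¹ * (t * autFun κ x * t⁻¹) * t⁻¹⁻¹ = autFun κ x := by group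
      show t⁻¹ * (t * autFun κ x * t⁻¹) * t⁻¹⁻¹ ∈ P₁
      rw [this]
      exact autFun_mem κ hx
  refine ⟨MulAut.congr hiso.toMulEquiv κ' * κ, Subgroup.mul_mem _ (hiso.congr_mem_residual hκ') hκ,
    t' * t, T.mul_mem ht' ht, fun x hx => ?_⟩
  have hz : f x ∈ P₂ := (hP₂ _).2 ⟨x, hx, rfl⟩
  have h3 := autFun_congr hiso κ' hz
  have h4 : t⁻¹ * f x * t⁻¹⁻¹ = autFun κ x := by
    rw [e x hx]
    group
  rw [h4] at h3
  show g (f x) = _
  rw [e' _ hz, autFun_mul _ _ hx, h3]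
  group

theorem of_subsystem {S' T' : Subgroup Ω} {E : FusionSystem S'} (hE : E.IsSubsystemOf F)
    (hT' : T' ≤ T) {P : Subgroup Ω} {f : Ω → Ω} (h : Adm E p T' P f) : Adm F p T P f := by
  obtain ⟨κ, hκ, t, ht, e⟩ := h
  exact ⟨κ, residual_map_mono p (autGroup_mono hE P) hκ, t, hT' ht, e⟩

end Adm

/-- Maps of the class on overgroups of a subgroup `P₁` preserved by all maps restrict to admissible
maps of `P₁`. -/
theorem adm_of_gen [Finite S] {F : FusionSystem S} {p : ℕ} {T : Subgroup Ω} (hTS : T ≤ S)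
    {P₁ : Subgroup Ω} (hP₁ : P₁ ≤ S)
    (hWC : ∀ (R : Subgroup Ω) (f : Ω → Ω), Mor F R f → P₁ ≤ R → ∀ x ∈ P₁, f x ∈ P₁)
    {R : Subgroup Ω} {f : Ω → Ω} (h : Gen F p T R f) : P₁ ≤ R → Adm F p T P₁ f := by
  have : Finite P₁ := finite_of_le hP₁
  induction h with
  | @aut R hR α hα hc =>
    intro hle
    obtain ⟨b, hb, eb, hord⟩ := restrict_aut hR hle hα
      (hWC R _ ((mem_autGroup_iff F hR α).1 hα) hle)
    exact (Adm.of_res (coprime_mem_residual_map hb (Nat.Coprime.coprime_dvd_left hord hc))).congr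
      (fun x hx => by rw [autFun_apply b hx, eb])
  | conj hR ht => exact fun _ => Adm.conj ht
  | mono _ hPR ih => exact fun hle => ih (hle.trans hPR)
  | @comp P Q f g hf hg hPQ ih1 ih2 =>
    intro hle
    have hiso : Iso F P₁ P₁ f := ((hf.mor hTS).mono hle).iso_self (hWC P f (hf.mor hTS) hle)
    refine (ih1 hle).comp hTS hP₁ hiso.2 (ih2 ?_)
    intro y hy
    obtain ⟨x, hx, rfl⟩ := hiso.surj hy
    exact hPQ x (hle hx)
  | congr _ e ih => exact fun hle => (ih hle).congr (fun x hx => e x (hle hx))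

/-- If conjugation by `s` is admissible on a fully normalized subgroup whose centralizer lies in `T`,
then `s ∈ T`. -/
theorem mem_of_adm_conj [Finite S] {p : ℕ} [Fact p.Prime] (hS : IsPGroup p S) {F : FusionSystem S}
    (hF : F.IsSaturated p) {T : Subgroup Ω} (hTS : T ≤ S) (hT : F.hyperfocalSubgroup p ≤ T)
    {P₁ : Subgroup Ω} (hfn : F.IsFullyNormalized P₁) (hC : centralizerIn S P₁ ≤ T) {s : Ω}
    (hs : s ∈ S) (h : Adm F p T P₁ (fun x => s * x * s⁻¹)) : s ∈ T := by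
  obtain ⟨κ, hκ, t, ht, e⟩ := h
  have h1 : κ ∈ autInducedBy S P₁ := by
    rw [mem_autInducedBy_iff]
    refine ⟨t⁻¹ * s, S.mul_mem (S.inv_mem (hTS ht)) hs, fun x => ?_⟩
    have := e x x.2
    rw [autFun_coe] at this
    have h2 : ((κ x : P₁) : Ω) = t⁻¹ * (t * ((κ x : P₁) : Ω) * t⁻¹) * t := by group
    rw [h2, ← this]
    group
  obtain ⟨h, hh, eh⟩ := (mem_autInducedBy_iff _ P₁ κ).1 (residual_conj_mem hS hF hfn hκ h1)
  have hc : h⁻¹ * t⁻¹ * s ∈ centralizerIn S P₁ := by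
    rw [mem_centralizerIn_iff]
    refine ⟨S.mul_mem (S.mul_mem (S.inv_mem (hTS (hT hh))) (S.inv_mem (hTS ht))) hs, fun x hx => ?_⟩
    have h2 := e x hx
    rw [autFun_apply κ hx, eh] at h2
    have h3 : s * x = t * (h * x * h⁻¹) * t⁻¹ * s := by
      rw [← h2]
      group
    calc x * (h⁻¹ * t⁻¹ * s) = h⁻¹ * t⁻¹ * (t * (h * x * h⁻¹) * t⁻¹ * s) := by group
      _ = h⁻¹ * t⁻¹ * s * x := by rw [← h3]; group
  have h5 : s = t * h * (h⁻¹ * t⁻¹ * s) := by group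
  rw [h5]
  exact T.mul_mem (T.mul_mem ht (hT hh)) (hC hc)

end Cfsg.Agent.Lib.Helper87
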