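import Cfsg.Agent.Lib.Helper87.PI3
import Cfsg.Agent.S5096

set_option autoImplicit false

namespace Cfsg.Agent.Lib.Helper87

open Cfsg Cfsg.FusionSystem

variable {Ω : Type*} [Group Ω] {S : Subgroup Ω}

/-- The standing hypotheses. -/
structure PID (F : FusionSystem S) (p : ℕ) (T : Subgroup Ω) : Prop where
  pS : IsPGroup p S
  sat : F.IsSaturated p
  le : T ≤ S
  nor : ∀ s ∈ S, ∀ t ∈ T, s * t * s⁻¹ ∈ T
  hyp : F.hyperfocalSubgroup p ≤ T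

/-- Some conjugate of `P` has centralizer not contained in `T`. -/
def Split (F : FusionSystem S) (T P : Subgroup Ω) : Prop :=
  ∃ P', F.IsConj P P' ∧ ¬ centralizerIn S P' ≤ T

theorem cj_normalizerIn {s : Ω} (hs : s ∈ S) (P : Subgroup Ω) :
    cj s (normalizerIn S P) = normalizerIn S (cj s P) := by
  show cj s (S ⊓ Subgroup.normalizer (P : Set Ω)) = S ⊓ Subgroup.normalizer ((cj s P : Subgroup Ω) : Set Ω)
  rw [cj_inf, cj_eq_self_of_mem hs, cj_normalizer]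

theorem iso_cj (F : FusionSystem S) {P : Subgroup Ω} (hP : P ≤ S) {s : Ω} (hs : s ∈ S) :
    Iso F P (cj s P) (fun x => s * x * s⁻¹) := ⟨mor_conj F hP hs, fun _ => mem_cj'⟩

theorem fullyNormalized_cj {F : FusionSystem S} {P : Subgroup Ω} (h : F.IsFullyNormalized P) {s : Ω}
    (hs : s ∈ S) : F.IsFullyNormalized (cj s P) := by
  refine ⟨(iso_cj F h.1 hs).le', fun Q hQ => ?_⟩
  rw [← cj_normalizerIn hs, card_cj]
  exact h.2 Q (isConj_trans (iso_cj F h.1 hs).isConj hQ)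

variable {F : FusionSystem S} {p : ℕ} {T : Subgroup Ω}

/-- Maps of the class between standard objects defined on a strictly larger subgroup of the normalizer are
admissible. -/
theorem adm_std [Finite S] [Fact p.Prime] (h : PID F p T) {P Pst : Subgroup Ω}
    (hconj : F.IsConj P Pst) (hfn : F.IsFullyNormalized Pst)
    (IH : ∀ X : Subgroup Ω, X ≤ S → Nat.card P < Nat.card X → (∃ P' ≤ X, F.IsConj P P') →
      ∀ s ∈ S, Gen F p T X (fun x => s * x * s⁻¹) → s ∈ T)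
    {a b : Ω} (ha : a ∈ S) (hb : b ∈ S) {X₁ : Subgroup Ω} (hPX : cj a Pst ≤ X₁)
    (hlt : Nat.card P < Nat.card X₁) (hXN : X₁ ≤ normalizerIn S (cj a Pst)) {μ : Ω → Ω}
    (hμ : Gen F p T X₁ μ) (himg : ∀ y, y ∈ cj b Pst ↔ ∃ x ∈ cj a Pst, μ x = y) :
    Adm F p T (cj a Pst) μ := by
  set P₁ := cj a Pst with hP₁
  have hfn₁ : F.IsFullyNormalized P₁ := fullyNormalized_cj hfn ha
  have hcP₁ : F.IsConj P P₁ := isConj_trans hconj (iso_cj F hfn.1 ha).isConj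
  set x := b * a⁻¹ with hx
  have hxS : x ∈ S := S.mul_mem hb (S.inv_mem ha)
  have hcjx : cj b Pst = cj x P₁ := by
    rw [hP₁, ← cj_mul, hx, inv_mul_cancel_right]
  obtain ⟨𝒩, h𝒩⟩ := Cfsg.Agent.S5096.result F P₁ hfn₁.1
  have hNS : normalizerIn S P₁ ≤ S := normalizerIn_le S P₁
  have : Finite (normalizerIn S P₁) := finite_of_le hNS
  have h𝒩sat := normalizerSystem_saturated h.pS h.sat hfn₁ h𝒩
  have h𝒩F : 𝒩.IsSubsystemOf F := by
    intro R φ hφ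
    rw [h𝒩 R] at hφ
    exact hφ.1
  have hμF := hμ.mor h.le
  have hX₁S : X₁ ≤ S := hμF.le
  have hν : Mor F X₁ (fun y => x⁻¹ * μ y * x⁻¹⁻¹) :=
    hμF.comp (mor_conj F le_rfl (S.inv_mem hxS)) (fun y hy => hμF.mem hy)
  have hνimg : ∀ y, y ∈ P₁ ↔ ∃ z ∈ P₁, x⁻¹ * μ z * x⁻¹⁻¹ = y := by
    intro y
    constructor
    · intro hy
      have h1 : x * y * x⁻¹ ∈ cj b Pst := by
        rw [hcjx]
        exact conj_mem_cj hy
      obtain ⟨z, hz, e⟩ := (himg _).1 h1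
      exact ⟨z, hz, by rw [e]; group⟩
    · rintro ⟨z, hz, rfl⟩
      have h1 : μ z ∈ cj x P₁ := by
        rw [← hcjx]
        exact (himg _).2 ⟨z, hz, rfl⟩
      have h2 := mem_cj.1 h1
      rwa [inv_inv]
  have hν𝒩 : Mor 𝒩 X₁ (fun y => x⁻¹ * μ y * x⁻¹⁻¹) := by
    rw [mor_normalizerSystem_iff h𝒩]
    refine ⟨hXN, fun y hy => hν.map_mem_normalizerIn hPX (hXN.trans inf_le_right) hνimg hy,
      _, ?_, fun _ _ => rfl, hνimg⟩
    rw [sup_eq_left.2 hPX]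
    exact hν
  have hT'le : T ⊓ normalizerIn S P₁ ≤ normalizerIn S P₁ := inf_le_right
  have hT'n : ∀ s ∈ normalizerIn S P₁, ∀ t ∈ T ⊓ normalizerIn S P₁,
      s * t * s⁻¹ ∈ T ⊓ normalizerIn S P₁ := fun s hs t ht =>
    ⟨h.nor s (hNS hs) t ht.1, Subgroup.mul_mem _ (Subgroup.mul_mem _ hs ht.2) (Subgroup.inv_mem _ hs)⟩
  obtain ⟨n, hn, μ₀, hμ₀, e⟩ := dec_of_mor (h.pS.to_le hNS) h𝒩sat hT'le hT'n X₁ _ hν𝒩
  have hWC : ∀ (R : Subgroup Ω) (f : Ω → Ω), Mor 𝒩 R f → P₁ ≤ R → ∀ z ∈ P₁, f z ∈ P₁ := by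
    intro R f hf hle z hz
    obtain ⟨-, -, f', -, e1, e2⟩ := (mor_normalizerSystem_iff h𝒩 R f).1 hf
    rw [← e1 z (hle hz)]
    exact (e2 _).2 ⟨z, hz, rfl⟩
  have hadm : Adm F p T P₁ μ₀ :=
    (adm_of_gen hT'le (le_normalizerIn hfn₁.1) hWC hμ₀ hPX).of_subsystem h𝒩F inf_le_left
  have hμ₀𝒩 := hμ₀.mor hT'le
  have hμ₀F : Gen F p T X₁ μ₀ := hμ₀.of_subsystem hNS h𝒩F inf_le_left
  have hμ₀m := hμ₀F.mor h.le
  obtain ⟨μ₁, hμ₁, e₁⟩ := hμ₀F.inv h.le (img X₁ μ₀) hμ₀m.mem_img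
  have hxn : x * n ∈ S := S.mul_mem hxS (hNS hn)
  have hgen : Gen F p T (img X₁ μ₀) (fun z => x * n * z * (x * n)⁻¹) := by
    refine (hμ₁.comp hμ ?_).congr ?_
    · intro z hz
      obtain ⟨y, hy, rfl⟩ := (hμ₀m.mem_img z).1 hz
      rw [e₁ y hy]
      exact hy
    · intro z hz
      obtain ⟨y, hy, rfl⟩ := (hμ₀m.mem_img z).1 hz
      show μ (μ₁ (μ₀ y)) = _
      rw [e₁ y hy]
      have : x⁻¹ * μ y * x⁻¹⁻¹ = n * μ₀ y * n⁻¹ := e y hy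
      have h2 : μ y = x * (x⁻¹ * μ y * x⁻¹⁻¹) * x⁻¹ := by group
      rw [h2, this]
      group
  have : Finite P₁ := finite_of_le hfn₁.1
  have hiso₀ : Iso 𝒩 P₁ P₁ μ₀ := (hμ₀𝒩.mono hPX).iso_self (hWC X₁ μ₀ hμ₀𝒩 hPX)
  have hxnT : x * n ∈ T := by
    refine IH (img X₁ μ₀) hμ₀m.img_le ?_ ⟨P₁, ?_, hcP₁⟩ _ hxn hgen
    · rw [← hμ₀m.iso_img.card_eq]
      exact hlt
    · intro y hy
      obtain ⟨z, hz, rfl⟩ := hiso₀.surj hy
      exact (hμ₀m.mem_img _).2 ⟨z, hPX hz, rfl⟩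
  refine (hadm.conj_left hxnT).congr (fun y hy => ?_)
  have : x⁻¹ * μ y * x⁻¹⁻¹ = n * μ₀ y * n⁻¹ := e y (hPX hy)
  have h2 : μ y = x * (x⁻¹ * μ y * x⁻¹⁻¹) * x⁻¹ := by group
  rw [h2, this]
  group

/-- Half of a chart: a map of the class from `N_S(P')` carrying `P'` onto a standard object. -/
structure HChart (F : FusionSystem S) (p : ℕ) (T Pst P' : Subgroup Ω) (ρ : Ω → Ω) (a : Ω) : Prop where
  a_mem : a ∈ S
  gen : Gen F p T (normalizerIn S P') ρ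
  img : ∀ y, y ∈ cj a Pst ↔ ∃ x ∈ P', ρ x = y

/-- A chart: a half chart together with an inverse map. -/
structure Chart (F : FusionSystem S) (p : ℕ) (T Pst P' : Subgroup Ω) (ρ σ : Ω → Ω) (a : Ω) : Prop
    extends HChart F p T Pst P' ρ a where
  gen' : Gen F p T (Helper87.img (normalizerIn S P') ρ) σ
  inv : ∀ x ∈ normalizerIn S P', σ (ρ x) = x

theorem exists_chart [Finite S] [Fact p.Prime] (h : PID F p T) {Pst P' : Subgroup Ω}
    (hfn : F.IsFullyNormalized Pst) (hc : F.IsConj P' Pst) : ∃ ρ σ a, Chart F p T Pst P' ρ σ a := by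
  obtain ⟨f, hf, himg, -⟩ := exists_mor_normalizer_of_fullyNormalized h.pS h.sat hfn hc
  obtain ⟨u, hu, ρ, hρ, e⟩ := dec_of_mor h.pS h.sat h.le h.nor _ f hf
  obtain ⟨σ, hσ, e'⟩ := hρ.inv h.le _ (hρ.mor h.le).mem_img
  have hP' : P' ≤ normalizerIn S P' := le_normalizerIn (isConj_le hc)
  refine ⟨ρ, σ, u⁻¹, ⟨S.inv_mem hu, hρ, fun y => ?_⟩, hσ, e'⟩
  rw [mem_cj, himg, inv_inv]
  constructor
  · rintro ⟨x, hx, hxy⟩
    refine ⟨x, hx, ?_⟩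
    rw [e x (hP' hx)] at hxy
    have : ρ x = u⁻¹ * (u * ρ x * u⁻¹) * u := by group
    rw [this, hxy]
    group
  · rintro ⟨x, hx, rfl⟩
    exact ⟨x, hx, e x (hP' hx)⟩

namespace Chart

variable {Pst P' : Subgroup Ω} {ρ σ : Ω → Ω} {a : Ω}

theorem sigma (c : Chart F p T Pst P' ρ σ a) (hP' : P' ≤ S) {z : Ω} (hz : z ∈ cj a Pst) :
    σ z ∈ P' ∧ ρ (σ z) = z := by
  obtain ⟨x, hx, rfl⟩ := (c.img z).1 hz
  rw [c.inv x (le_normalizerIn hP' hx)]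
  exact ⟨hx, rfl⟩

theorem img_comp (c : Chart F p T Pst P' ρ σ a) (hP' : P' ≤ S) {P'' : Subgroup Ω} {f ρ' : Ω → Ω}
    {b : Ω} (c' : HChart F p T Pst P'' ρ' b) (hP'' : ∀ y, y ∈ P'' ↔ ∃ x ∈ P', f x = y) :
    ∀ y, y ∈ cj b Pst ↔ ∃ z ∈ cj a Pst, (ρ' ∘ f ∘ σ) z = y := by
  intro y
  rw [c'.img]
  constructor
  · rintro ⟨w, hw, rfl⟩
    obtain ⟨v, hv, rfl⟩ := (hP'' w).1 hw
    refine ⟨ρ v, (c.img _).2 ⟨v, hv, rfl⟩, ?_⟩
    show ρ' (f (σ (ρ v))) = _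
    rw [c.inv v (le_normalizerIn hP' hv)]
  · rintro ⟨z, hz, rfl⟩
    exact ⟨f (σ z), (hP'' _).2 ⟨_, (c.sigma hP' hz).1, rfl⟩, rfl⟩

end Chart

/-- Maps of the class defined on a strictly larger subgroup of the normalizer are admissible when read in
charts. -/
theorem adm_chart [Finite S] [Fact p.Prime] (h : PID F p T) {P Pst : Subgroup Ω}
    (hconj : F.IsConj P Pst) (hfn : F.IsFullyNormalized Pst)
    (IH : ∀ X : Subgroup Ω, X ≤ S → Nat.card P < Nat.card X → (∃ P' ≤ X, F.IsConj P P') →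
      ∀ s ∈ S, Gen F p T X (fun x => s * x * s⁻¹) → s ∈ T)
    {P' P'' X : Subgroup Ω} (hP'X : P' ≤ X) (hXN : X ≤ normalizerIn S P')
    (hlt : Nat.card P < Nat.card X) {μ : Ω → Ω} (hμ : Gen F p T X μ)
    (hP'' : ∀ y, y ∈ P'' ↔ ∃ x ∈ P', μ x = y) {ρ σ ρ' : Ω → Ω} {a b : Ω}
    (c : Chart F p T Pst P' ρ σ a) (c' : HChart F p T Pst P'' ρ' b) :
    Adm F p T (cj a Pst) (ρ' ∘ μ ∘ σ) := by
  have hXS : X ≤ S := hXN.trans (normalizerIn_le S P')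
  have hP'S : P' ≤ S := hP'X.trans hXS
  have hρm := c.gen.mor h.le
  have hρX := hρm.mono hXN
  have hμm := hμ.mor h.le
  refine adm_std h hconj hfn IH c.a_mem c'.a_mem (X₁ := img X ρ) ?_ ?_ ?_ ?_
    (c.img_comp hP'S c' hP'')
  · intro y hy
    obtain ⟨x, hx, rfl⟩ := (c.img y).1 hy
    exact (hρX.mem_img _).2 ⟨x, hP'X hx, rfl⟩
  · rw [← hρX.iso_img.card_eq]
    exact hlt
  · intro z hz
    obtain ⟨n, hn, rfl⟩ := (hρX.mem_img z).1 hz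
    exact hρm.map_mem_normalizerIn (le_normalizerIn hP'S) inf_le_right c.img (hXN hn)
  · have hle : img X ρ ≤ img (normalizerIn S P') ρ := by
      intro z hz
      obtain ⟨n, hn, rfl⟩ := (hρX.mem_img z).1 hz
      exact (hρm.mem_img _).2 ⟨n, hXN hn, rfl⟩
    have h1 : ∀ z ∈ img X ρ, σ z ∈ X := by
      intro z hz
      obtain ⟨n, hn, rfl⟩ := (hρX.mem_img z).1 hz
      rw [c.inv n (hXN hn)]
      exact hn
    refine ((c.gen'.mono hle).comp hμ h1).comp c'.gen (fun z hz => ?_)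
    exact hμm.map_mem_normalizerIn hP'X (hXN.trans inf_le_right) hP'' (h1 z hz)

end Cfsg.Agent.Lib.Helper87
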