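import Cfsg.Agent.Lib.Helper87.PI4

set_option autoImplicit false

namespace Cfsg.Agent.Lib.Helper87

open Cfsg Cfsg.FusionSystem

variable {Ω : Type*} [Group Ω] {S : Subgroup Ω} {F : FusionSystem S} {p : ℕ} {T : Subgroup Ω}

theorem card_lt_normalizerIn [Finite S] [Fact p.Prime] (hS : IsPGroup p S) {P' R : Subgroup Ω}
    (hR : R ≤ S) (hle : P' ≤ R) (hne : P' ≠ R) : Nat.card P' < Nat.card (normalizerIn R P') := by
  obtain ⟨g, hg, hgP⟩ := exists_mem_normalizerIn_not_mem hS hR (lt_of_le_of_ne hle hne)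
  refine card_lt_of_le_ne ((normalizerIn_le R P').trans hR) (le_normalizerIn hle) ?_
  intro h
  rw [← h] at hg
  exact hgP hg

/-- All maps of the class are admissible when read in charts. -/
theorem adm_of_gen_chart [Finite S] [Fact p.Prime] (h : PID F p T) {P Pst : Subgroup Ω}
    (hconj : F.IsConj P Pst) (hfn : F.IsFullyNormalized Pst) (hPS : Nat.card P < Nat.card S)
    (IH : ∀ X : Subgroup Ω, X ≤ S → Nat.card P < Nat.card X → (∃ P' ≤ X, F.IsConj P P') →
      ∀ s ∈ S, Gen F p T X (fun x => s * x * s⁻¹) → s ∈ T)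
    {R : Subgroup Ω} {f : Ω → Ω} (hf : Gen F p T R f) :
    ∀ P' : Subgroup Ω, P' ≤ R → F.IsConj P P' → ∀ P'' : Subgroup Ω,
      (∀ y, y ∈ P'' ↔ ∃ x ∈ P', f x = y) → ∀ (ρ σ : Ω → Ω) (a : Ω), Chart F p T Pst P' ρ σ a →
      ∀ (ρ' : Ω → Ω) (b : Ω), HChart F p T Pst P'' ρ' b → Adm F p T (cj a Pst) (ρ' ∘ f ∘ σ) := by
  have hbig : ∀ P' : Subgroup Ω, F.IsConj P P' → Nat.card P < Nat.card (normalizerIn S P') := by
    intro P' hP'
    have h1 : P' ≠ S := by
      intro h1
      rw [isConj_card hP', h1] at hPS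
      exact lt_irrefl _ hPS
    have := card_lt_normalizerIn h.pS le_rfl (isConj_le' hP') h1
    rwa [← isConj_card hP'] at this
  induction hf with
  | @aut R hR α hα hc =>
    intro P' hP'R hP' P'' hP'' ρ σ a c ρ' b c'
    have hP'S : P' ≤ S := hP'R.trans hR
    by_cases hne : P' = R
    · subst hne
      have hP''eq : P'' = P' := by
        ext y
        rw [hP'', (iso_autFun ((mem_autGroup_iff F hR α).1 hα)).2 y]
      subst hP''eq
      have hρ : Iso F P'' (cj a Pst) ρ := ⟨(c.gen.mor h.le).mono (le_normalizerIn hP'S), c.img⟩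
      have hκ : MulAut.congr hρ.toMulEquiv α ∈ ResA F p (cj a Pst) :=
        coprime_mem_residual_map (hρ.congr_mem_autGroup hα) (by
          rw [MulEquiv.orderOf_eq]
          exact hc)
      have h1 : Adm F p T (cj a Pst) (ρ ∘ autFun α ∘ σ) := by
        refine (Adm.of_res hκ).congr (fun z hz => ?_)
        obtain ⟨h2, h3⟩ := c.sigma hP'S hz
        have := autFun_congr hρ α h2
        rw [h3] at this
        exact this
      have h2 : Adm F p T (cj a Pst) (ρ' ∘ id ∘ σ) :=
        adm_chart h hconj hfn IH (le_normalizerIn hP'S) le_rfl (hbig _ hP')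
          (Gen.id (normalizerIn_le S P'')) (fun y => ⟨fun hy => ⟨y, hy, rfl⟩, by
            rintro ⟨x, hx, rfl⟩
            exact hx⟩) c c'
      have h3 := c.img_comp hP'S c.toHChart hP''
      refine (h1.comp h.le hρ.le' h3 h2).congr (fun z hz => ?_)
      show ρ' (σ (ρ (autFun α (σ z)))) = ρ' (autFun α (σ z))
      rw [c.inv _ (le_normalizerIn hP'S (autFun_mem α (c.sigma hP'S hz).1))]
    · have hlt := card_lt_normalizerIn h.pS hR hP'R hne
      rw [← isConj_card hP'] at hlt
      exact adm_chart h hconj hfn IH (X := normalizerIn R P') (le_normalizerIn hP'R)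
        (fun x hx => ⟨hR hx.1, hx.2⟩) hlt ((Gen.aut hR α hα hc).mono (normalizerIn_le R P')) hP'' c c'
  | @conj R hR t ht =>
    intro P' hP'R hP' P'' hP'' ρ σ a c ρ' b c'
    exact adm_chart h hconj hfn IH (le_normalizerIn (hP'R.trans hR)) le_rfl (hbig _ hP')
      (Gen.conj (normalizerIn_le S P') ht) hP'' c c'
  | mono _ hPR ih =>
    intro P' hP'R
    exact ih P' (hP'R.trans hPR)
  | @comp P₀ Q f g hf hg hPQ ih1 ih2 =>
    intro P' hP'R hP' P'' hP'' ρ σ a c ρ' b c'
    have hfm := (hf.mor h.le).mono hP'R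
    have hP'S : P' ≤ S := hfm.le
    have hPm : F.IsConj P (img P' f) := isConj_trans hP' hfm.iso_img.isConj
    obtain ⟨ρm, σm, cm, hcm⟩ := exists_chart h hfn (isConj_trans (isConj_symm hPm) hconj)
    have hmQ : img P' f ≤ Q := by
      intro y hy
      obtain ⟨x, hx, rfl⟩ := (hfm.mem_img y).1 hy
      exact hPQ x (hP'R hx)
    have h1 := ih1 P' hP'R hP' (img P' f) hfm.mem_img ρ σ a c ρm cm hcm.toHChart
    have h2 := ih2 (img P' f) hmQ hPm P'' (fun y => by
      rw [hP'']
      constructor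
      · rintro ⟨x, hx, rfl⟩
        exact ⟨f x, (hfm.mem_img _).2 ⟨x, hx, rfl⟩, rfl⟩
      · rintro ⟨w, hw, rfl⟩
        obtain ⟨x, hx, rfl⟩ := (hfm.mem_img w).1 hw
        exact ⟨x, hx, rfl⟩) ρm σm cm hcm ρ' b c'
    have hP₁S : cj a Pst ≤ S := (iso_cj F hfn.1 c.a_mem).le'
    refine (h1.comp h.le hP₁S (c.img_comp hP'S hcm.toHChart hfm.mem_img) h2).congr (fun z hz => ?_)
    show ρ' (g (σm (ρm (f (σ z))))) = ρ' (g (f (σ z)))
    rw [hcm.inv _ (le_normalizerIn hfm.img_le ((hfm.mem_img _).2 ⟨_, (c.sigma hP'S hz).1, rfl⟩))]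
  | @congr P₀ f g hf e ih =>
    intro P' hP'R hP' P'' hP'' ρ σ a c ρ' b c'
    have hP'S : P' ≤ S := isConj_le' hP'
    refine (ih P' hP'R hP' P'' (fun y => by
      rw [hP'']
      constructor
      · rintro ⟨x, hx, rfl⟩
        exact ⟨x, hx, e x (hP'R hx)⟩
      · rintro ⟨x, hx, rfl⟩
        exact ⟨x, hx, (e x (hP'R hx)).symm⟩) ρ σ a c ρ' b c').congr (fun z hz => ?_)
    show ρ' (f (σ z)) = ρ' (g (σ z))
    rw [e _ (hP'R (c.sigma hP'S hz).1)]

/-- The main claim: a conjugation by an element of `S` which belongs to the class is a conjugation by an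
element of `T`, unless some conjugate of the source has centralizer outside `T`. -/
theorem gen_conj_mem [Finite S] [Fact p.Prime] (h : PID F p T) :
    ∀ (n : ℕ) (P : Subgroup Ω), P ≤ S → Nat.card S - Nat.card P = n → ∀ s ∈ S,
      Gen F p T P (fun x => s * x * s⁻¹) → s ∈ T ∨ Split F T P := by
  intro n
  induction n using Nat.strong_induction_on with
  | _ n ih =>
  intro P hP hn s hs hgen
  by_cases hsplit : Split F T P
  · exact Or.inr hsplit
  left
  have hcent : ∀ P', F.IsConj P P' → centralizerIn S P' ≤ T := by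
    intro P' hP'
    by_contra hcon
    exact hsplit ⟨P', hP', hcon⟩
  have IH : ∀ X : Subgroup Ω, X ≤ S → Nat.card P < Nat.card X → (∃ P' ≤ X, F.IsConj P P') →
      ∀ s ∈ S, Gen F p T X (fun x => s * x * s⁻¹) → s ∈ T := by
    rintro X hX hlt ⟨P', hP'X, hP'⟩ s hs hg
    have hle : Nat.card X ≤ Nat.card S := Subgroup.card_le_of_le hX
    rcases ih (Nat.card S - Nat.card X) (by omega) X hX rfl s hs hg with h1 | ⟨X', hX', hcon⟩
    · exact h1
    · exfalso
      apply hcon
      obtain ⟨f, hf⟩ := (isConj_iff F X X').1 hX'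
      have hfm := hf.mor.mono hP'X
      refine le_trans ?_ (hcent (img P' f) (isConj_trans hP' hfm.iso_img.isConj))
      intro c hc
      rw [mem_centralizerIn_iff] at hc ⊢
      refine ⟨hc.1, fun y hy => hc.2 y ?_⟩
      obtain ⟨x, hx, rfl⟩ := (hfm.mem_img y).1 hy
      exact hf.map_mem (hP'X hx)
  by_cases hPS : P = S
  · subst hPS
    have hadm := adm_of_gen h.le (P₁ := P) le_rfl (fun R f hf hle x hx => hf.mem (hle hx)) hgen le_rfl
    exact mem_of_adm_conj h.pS h.sat h.le h.hyp (fullyNormalized_top F)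
      (hcent P (isConj_refl F le_rfl)) hs hadm
  · have hlt : Nat.card P < Nat.card S := card_lt_of_le_ne le_rfl hP hPS
    obtain ⟨Pst, hconj, hfn⟩ := exists_fullyNormalized_conj F hP
    obtain ⟨ρ, σ, a, c⟩ := exists_chart h hfn hconj
    have c' : HChart F p T Pst (cj s P) (fun y => s * ρ (s⁻¹ * y * s) * s⁻¹) (s * a) := by
      refine ⟨S.mul_mem hs c.a_mem, ?_, fun y => ?_⟩
      · have := c.gen.conjS h.nor hs
        rwa [cj_normalizerIn hs] at this
      · rw [cj_mul, mem_cj']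
        constructor
        · rintro ⟨w, hw, rfl⟩
          obtain ⟨v, hv, rfl⟩ := (c.img w).1 hw
          refine ⟨s * v * s⁻¹, conj_mem_cj hv, ?_⟩
          have : s⁻¹ * (s * v * s⁻¹) * s = v := by group
          rw [this]
        · rintro ⟨x, hx, rfl⟩
          exact ⟨_, (c.img _).2 ⟨_, mem_cj.1 hx, rfl⟩, rfl⟩
    have hadm := adm_of_gen_chart h hconj hfn hlt IH hgen P le_rfl (isConj_refl F hP) (cj s P)
      (fun _ => mem_cj') ρ σ a c _ _ c'
    have hadm' : Adm F p T (cj a Pst) (fun x => s * x * s⁻¹) := by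
      refine hadm.congr (fun z hz => ?_)
      show s * ρ (s⁻¹ * (s * σ z * s⁻¹) * s) * s⁻¹ = _
      have : s⁻¹ * (s * σ z * s⁻¹) * s = σ z := by group
      rw [this, (c.sigma hP hz).2]
    exact mem_of_adm_conj h.pS h.sat h.le h.hyp (fullyNormalized_cj hfn c.a_mem)
      (hcent _ (isConj_trans hconj (iso_cj F hfn.1 c.a_mem).isConj)) hs hadm'

end Cfsg.Agent.Lib.Helper87
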