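import Cfsg.Agent.Lib.Helper87.PI5

set_option autoImplicit false

namespace Cfsg.Agent.Lib.Helper87

open Cfsg Cfsg.FusionSystem

variable {Ω : Type*} [Group Ω] {S : Subgroup Ω} {F : FusionSystem S} {p : ℕ} {T : Subgroup Ω}

/-- The standing hypotheses together with the index `p` condition. -/
structure PID1 (F : FusionSystem S) (p : ℕ) (T : Subgroup Ω) : Prop extends PID F p T where
  idx : ∀ c ∈ S, c ∉ T → ∀ s ∈ S, ∃ i : ℕ, c ^ i * s ∈ T

/-- The subsystem over `T` given by the class. -/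
def piSystem (h : PID F p T) : FusionSystem T :=
  mkSystem T (fun P f => P ≤ T ∧ Gen F p T P f)
    (fun hf e => ⟨hf.1, hf.2.congr e⟩)
    (fun hf => hf.1)
    (fun {P f} hf x hx => by
      have h1 := hf.2.move h.nor h.hyp x hx
      have h2 : f x = x * (x⁻¹ * f x) := by group
      rw [h2]
      exact T.mul_mem (hf.1 hx) h1)
    (fun hf _ hx _ hy hxy => (hf.2.mor h.le).inj hx hy hxy)
    (fun hP hg => ⟨hP, Gen.conj (hP.trans h.le) hg⟩)
    (fun hf hg hPQ => ⟨hf.1, hf.2.comp hg.2 hPQ⟩)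
    (by
      intro P Q f hf _ hQ
      obtain ⟨g, hg, e⟩ := hf.2.inv h.le Q hQ
      refine ⟨g, ⟨?_, hg⟩, e⟩
      intro y hy
      obtain ⟨x, hx, rfl⟩ := (hQ y).1 hy
      have h1 := hf.2.move h.nor h.hyp x hx
      have h2 : f x = x * (x⁻¹ * f x) := by group
      rw [h2]
      exact T.mul_mem (hf.1 hx) h1)

theorem mor_piSystem_iff (h : PID F p T) (P : Subgroup Ω) (f : Ω → Ω) :
    Mor (piSystem h) P f ↔ P ≤ T ∧ Gen F p T P f :=
  mor_mkSystem_iff T _ _ _ _ _ _ _ _ (fun hf _ hx _ hy => (hf.2.mor h.le).map_mul hx hy) P f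

theorem piSystem_sub (h : PID F p T) : (piSystem h).IsSubsystemOf F :=
  isSubsystemOf_of_mor (fun P f hf => ((mor_piSystem_iff h P f).1 hf).2.mor h.le)

theorem piSystem_index (h : PID F p T) : (piSystem h).HasPPowerIndexIn F p := by
  refine ⟨piSystem_sub h, h.hyp, fun P hP κ hκ => ?_⟩
  rw [mem_autGroup_iff _ hP, mor_piSystem_iff]
  exact ⟨hP, Gen.of_residual h.le (hP.trans h.le) hκ⟩

theorem PID.sc [Finite S] [Fact p.Prime] (h : PID F p T) : F.StronglyClosed T :=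
  stronglyClosed_of_hyperfocal_le h.pS h.sat h.le h.nor h.hyp

/-- Correcting an element by a centralizing element. -/
theorem adjust [Finite S] [Fact p.Prime] (h : PID1 F p T) {Q R : Subgroup Ω}
    (hQr : F.IsReceptive Q) (hRQ : F.IsConj R Q) {s : Ω} (hs : s ∈ S)
    (hg : Gen F p T R (fun x => s * x * s⁻¹)) : ∃ c ∈ centralizerIn S Q, c * s ∈ T := by
  rcases gen_conj_mem h.toPID _ R (isConj_le hRQ) rfl s hs hg with h1 | ⟨R', hR', hcon⟩
  · exact ⟨1, Subgroup.one_mem _, by rwa [one_mul]⟩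
  · obtain ⟨c', hc', hc'T⟩ := SetLike.not_le_iff_exists.1 hcon
    obtain ⟨f, hf⟩ := (isConj_iff F R' Q).1 (isConj_trans (isConj_symm hR') hRQ)
    obtain ⟨f', hf', -, hcent⟩ := receptive_extend_centralizer hQr hf
    have hc'm : c' ∈ R' ⊔ centralizerIn S R' := (le_sup_right : _ ≤ R' ⊔ centralizerIn S R') hc'
    have h1 : f' c' ∉ T := fun hcon' => hc'T ((StronglyClosed.mem_iff h.toPID.sc hf' hc'm).2 hcon')
    obtain ⟨i, hi⟩ := h.idx _ (hf'.mem hc'm) h1 s hs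
    exact ⟨_, Subgroup.pow_mem _ (hcent c' hc') i, hi⟩

theorem autE_normal [Finite S] [Fact p.Prime] (h : PID F p T) {Q : Subgroup Ω} (hQ : Q ≤ T)
    {g x : MulAut Q} (hg : g ∈ F.autGroup Q) (hx : x ∈ (piSystem h).autGroup Q) :
    g * x * g⁻¹ ∈ (piSystem h).autGroup Q := by
  have hQS := hQ.trans h.le
  rw [mem_autGroup_iff _ hQ, mor_piSystem_iff] at hx ⊢
  refine ⟨hQ, ?_⟩
  obtain ⟨s, hs, f₀, hf₀, e⟩ := dec_of_mor h.pS h.sat h.le h.nor Q _ ((mem_autGroup_iff F hQS g).1 hg)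
  have hf₀m := hf₀.mor h.le
  obtain ⟨f₁, hf₁, e₁⟩ := hf₀.inv h.le _ hf₀m.mem_img
  have hθ : Gen F p T (img Q f₀) (f₀ ∘ autFun x ∘ f₁) := by
    refine (hf₁.comp hx.2 ?_).comp hf₀ ?_
    · intro y hy
      obtain ⟨w, hw, rfl⟩ := (hf₀m.mem_img y).1 hy
      rw [e₁ w hw]
      exact hw
    · intro y hy
      obtain ⟨w, hw, rfl⟩ := (hf₀m.mem_img y).1 hy
      show autFun x (f₁ (f₀ w)) ∈ Q
      rw [e₁ w hw]
      exact autFun_mem x hw
  have key : ∀ y ∈ Q, ∃ w ∈ Q, y = s * f₀ w * s⁻¹ ∧ autFun g⁻¹ y = w := by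
    intro y hy
    refine ⟨autFun g⁻¹ y, autFun_mem g⁻¹ hy, ?_, rfl⟩
    rw [← e _ (autFun_mem g⁻¹ hy), autFun_autFun_inv g hy]
  refine ((hθ.conjS h.nor hs).mono ?_).congr ?_
  · intro y hy
    obtain ⟨w, hw, rfl, -⟩ := key y hy
    exact conj_mem_cj ((hf₀m.mem_img _).2 ⟨w, hw, rfl⟩)
  · intro y hy
    obtain ⟨w, hw, hyw, hgw⟩ := key y hy
    rw [autFun_mul _ _ hy, autFun_mul _ _ (autFun_mem g⁻¹ hy), hgw, e _ (autFun_mem x hw)]
    show s * f₀ (autFun x (f₁ (s⁻¹ * y * s))) * s⁻¹ = _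
    have : s⁻¹ * y * s = f₀ w := by
      rw [hyw]
      group
    rw [this, e₁ w hw]

theorem fullyAutomized_pi [Finite S] [Fact p.Prime] (h : PID1 F p T) {Q : Subgroup Ω} (hQ : Q ≤ T)
    (hfn : F.IsFullyNormalized Q) : (piSystem h.toPID).IsFullyAutomized p Q := by
  have hQS := hQ.trans h.le
  have : Finite Q := finite_of_le hQS
  rw [fullyAutomized_iff _ p hQ]
  have hsyl := (fullyAutomized_iff F p hQS).1 (fullyNormalized_fullyAutomized h.pS h.sat hfn)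
  have h1 := hsyl.inf_normal (autGroup_mono (piSystem_sub h.toPID) Q)
    (fun g hg x hx => autE_normal h.toPID hQ hg hx)
  have h2 : autInducedBy S Q ⊓ (piSystem h.toPID).autGroup Q = autInducedBy T Q := by
    apply le_antisymm
    · rintro α ⟨hαS, hαE⟩
      obtain ⟨s, hs, e⟩ := (mem_autInducedBy_iff S Q α).1 hαS
      replace hαE : α ∈ (piSystem h.toPID).autGroup Q := hαE
      rw [mem_autGroup_iff _ hQ, mor_piSystem_iff] at hαE
      have hg : Gen F p T Q (fun x => s * x * s⁻¹) :=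
        hαE.2.congr (fun x hx => by rw [autFun_apply α hx, e])
      obtain ⟨c, hc, hcs⟩ := adjust h (fullyNormalized_receptive h.pS h.sat hfn)
        (isConj_refl F hQS) hs hg
      rw [mem_autInducedBy_iff]
      refine ⟨c * s, hcs, fun x => ?_⟩
      have h3 := ((mem_centralizerIn_iff S Q c).1 hc).2 _ (α x).2
      rw [e x] at h3 ⊢
      calc s * x * s⁻¹ = s * x * s⁻¹ * c * c⁻¹ := by group
        _ = c * (s * x * s⁻¹) * c⁻¹ := by rw [h3]
        _ = c * s * x * (c * s)⁻¹ := by group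
    · intro α hα
      obtain ⟨t, ht, e⟩ := (mem_autInducedBy_iff T Q α).1 hα
      refine ⟨(mem_autInducedBy_iff S Q α).2 ⟨t, h.le ht, e⟩, ?_⟩
      show α ∈ (piSystem h.toPID).autGroup Q
      rw [mem_autGroup_iff _ hQ, mor_piSystem_iff]
      exact ⟨hQ, (Gen.conj hQS ht).congr (fun x hx => by rw [autFun_apply α hx, e])⟩
  rwa [h2] at h1

theorem receptive_pi [Finite S] [Fact p.Prime] (h : PID1 F p T) {Q : Subgroup Ω} (hQ : Q ≤ T)
    (hfn : F.IsFullyNormalized Q) : (piSystem h.toPID).IsReceptive Q := by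
  have hQr := fullyNormalized_receptive h.pS h.sat hfn
  refine receptive_of hQ (fun P f hf N hN => ?_)
  have hfG := (mor_piSystem_iff h.toPID P f).1 hf.mor
  have hfF : Iso F P Q f := ⟨hfG.2.mor h.le, hf.2⟩
  have hNT : N ≤ T := fun g hg => ((hN g).1 hg).1
  obtain ⟨f', hf', ef⟩ := receptive_extend hQr hfF N (hNT.trans h.le)
    (fun g hg => ((hN g).1 hg).2.1) (fun g hg => by
      obtain ⟨-, -, k, hk, e⟩ := (hN g).1 hg
      exact ⟨k, h.le hk, e⟩)
  obtain ⟨s, hs, ψ, hψ, e⟩ := dec_of_mor h.pS h.sat h.le h.nor _ f' hf'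
  have hPW : P ≤ P ⊔ N := le_sup_left
  have hψP := hψ.mono hPW
  have hψPm := hψP.mor h.le
  obtain ⟨ψ', hψ', e'⟩ := hψP.inv h.le _ hψPm.mem_img
  have hg : Gen F p T (img P ψ) (fun x => s * x * s⁻¹) := by
    refine (hψ'.comp hfG.2 ?_).congr ?_
    · intro y hy
      obtain ⟨x, hx, rfl⟩ := (hψPm.mem_img y).1 hy
      rw [e' x hx]
      exact hx
    · intro y hy
      obtain ⟨x, hx, rfl⟩ := (hψPm.mem_img y).1 hy
      show f (ψ' (ψ x)) = _
      rw [e' x hx, ← ef x hx, e x (hPW hx)]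
  have hconj : F.IsConj (img P ψ) Q :=
    isConj_trans (isConj_symm hψPm.iso_img.isConj) hfF.isConj
  obtain ⟨c, hc, hcs⟩ := adjust h hQr hconj hs hg
  refine ⟨fun x => c * s * ψ x * (c * s)⁻¹, (mor_piSystem_iff h.toPID N _).2 ⟨hNT, ?_⟩, fun x hx => ?_⟩
  · exact ((hψ.comp (Gen.conj (hψ.mor h.le).img_le hcs)
      (fun x hx => ((hψ.mor h.le).mem_img _).2 ⟨x, hx, rfl⟩)).mono le_sup_right)
  · have h3 := ((mem_centralizerIn_iff S Q c).1 hc).2 _ (hf.map_mem hx)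
    have h4 : f x = s * ψ x * s⁻¹ := by rw [← ef x hx, e x (hPW hx)]
    calc c * s * ψ x * (c * s)⁻¹ = c * (s * ψ x * s⁻¹) * c⁻¹ := by group
      _ = c * f x * c⁻¹ := by rw [h4]
      _ = f x * c * c⁻¹ := by rw [h3]
      _ = f x := by group

theorem piSystem_saturated [Finite S] [Fact p.Prime] (h : PID1 F p T) :
    (piSystem h.toPID).IsSaturated p := by
  intro P hP
  obtain ⟨Pst, hconj, hfn⟩ := exists_fullyNormalized_conj F (hP.trans h.le)
  obtain ⟨φ, hφ⟩ := (isConj_iff F P Pst).1 hconj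
  obtain ⟨s, hs, f₀, hf₀, e⟩ := dec_of_mor h.pS h.sat h.le h.nor P φ hφ.mor
  have hm : Mor (piSystem h.toPID) P f₀ := (mor_piSystem_iff h.toPID P f₀).2 ⟨hP, hf₀⟩
  have hQ : img P f₀ = cj s⁻¹ Pst := by
    ext y
    rw [hm.mem_img, mem_cj, hφ.2, inv_inv]
    constructor
    · rintro ⟨x, hx, rfl⟩
      exact ⟨x, hx, e x hx⟩
    · rintro ⟨x, hx, hxy⟩
      refine ⟨x, hx, ?_⟩
      rw [e x hx] at hxy
      have : f₀ x = s⁻¹ * (s * f₀ x * s⁻¹) * s := by group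
      rw [this, hxy]
      group
  have hfn' : F.IsFullyNormalized (img P f₀) := by
    rw [hQ]
    exact fullyNormalized_cj hfn (S.inv_mem hs)
  exact ⟨img P f₀, hm.iso_img.isConj, fullyAutomized_pi h hm.img_le hfn', receptive_pi h hm.img_le hfn'⟩

end Cfsg.Agent.Lib.Helper87
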