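import Cfsg.Agent.Lib.Helper87.PI6
import Mathlib.GroupTheory.IndexNormal

set_option autoImplicit false

namespace Cfsg.Agent.Lib.Helper87

open Cfsg Cfsg.FusionSystem

variable {Ω : Type*} [Group Ω]

/-- A proper subgroup of a finite `p`-group lies in a normal subgroup of index `p`. -/
theorem exists_normal_index_p {G : Type*} [Group G] [Finite G] {p : ℕ} [hp : Fact p.Prime]
    (hG : IsPGroup p G) (H : Subgroup G) (hH : H ≠ ⊤) :
    ∃ K : Subgroup G, H ≤ K ∧ K.Normal ∧ K.index = p := by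
  obtain ⟨k, hk⟩ := hG.exists_card_eq
  obtain ⟨n, hn⟩ := (hG.to_subgroup H).exists_card_eq
  have hlt : n < k := by
    have h1 : Nat.card H < Nat.card G := by
      by_contra hcon
      exact hH (Subgroup.eq_top_of_card_eq H (le_antisymm (Subgroup.card_le_card_group H) (not_lt.1 hcon)))
    rw [hk, hn] at h1
    exact (Nat.pow_lt_pow_iff_right hp.out.one_lt).1 h1
  obtain ⟨K, hK, hHK⟩ := Sylow.exists_subgroup_card_pow_prime_le p (n := n) (m := k - 1)
    (by rw [hk]; exact pow_dvd_pow p (Nat.sub_le k 1)) H hn (by omega)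
  have hidx : K.index = p := by
    have h1 := K.card_mul_index
    rw [hK, hk] at h1
    have h2 : p ^ k = p ^ (k - 1) * p := by
      rw [← pow_succ]
      congr 1
      omega
    rw [h2] at h1
    exact Nat.eq_of_mul_eq_mul_left (pow_pos hp.out.pos _) h1
  refine ⟨K, hHK, Subgroup.normal_of_index_eq_minFac_card ?_, hidx⟩
  rw [hidx, hk, Nat.pow_minFac (by omega), hp.out.minFac_eq]

theorem exists_index_p_data {S : Subgroup Ω} [Finite S] {p : ℕ} [hp : Fact p.Prime]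
    (hS : IsPGroup p S) {T : Subgroup Ω} (hTS : T ≤ S) (hne : T ≠ S) :
    ∃ M : Subgroup Ω, T ≤ M ∧ M ≤ S ∧ M ≠ S ∧ (∀ s ∈ S, ∀ t ∈ M, s * t * s⁻¹ ∈ M) ∧
      ∀ c ∈ S, c ∉ M → ∀ s ∈ S, ∃ i : ℕ, c ^ i * s ∈ M := by
  have h1 : T.subgroupOf S ≠ ⊤ := by
    intro h
    exact hne (le_antisymm hTS (Subgroup.subgroupOf_eq_top.1 h))
  obtain ⟨K, hTK, hKn, hidx⟩ := exists_normal_index_p hS (T.subgroupOf S) h1
  have hmem : ∀ {x : Ω} (hx : x ∈ S), x ∈ K.map S.subtype ↔ (⟨x, hx⟩ : S) ∈ K := by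
    intro x hx
    constructor
    · rintro ⟨y, hy, rfl⟩
      exact hy
    · intro h
      exact ⟨_, h, rfl⟩
  refine ⟨K.map S.subtype, ?_, ?_, ?_, ?_, ?_⟩
  · intro t ht
    exact (hmem (hTS ht)).2 (hTK (Subgroup.mem_subgroupOf.2 ht))
  · rintro _ ⟨y, -, rfl⟩
    exact y.2
  · intro h
    have h2 : K = ⊤ := by
      rw [eq_top_iff]
      intro x _
      have : (x : Ω) ∈ K.map S.subtype := by
        rw [h]
        exact x.2
      exact (hmem x.2).1 this
    rw [h2, Subgroup.index_top] at hidx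
    exact hp.out.one_lt.ne hidx
  · rintro s hs _ ⟨t, ht, rfl⟩
    exact ⟨⟨s, hs⟩ * t * ⟨s, hs⟩⁻¹, hKn.conj_mem t ht ⟨s, hs⟩, rfl⟩
  · intro c hc hcM s hs
    have hcard : Nat.card (S ⧸ K) = p := hidx
    have hc1 : (QuotientGroup.mk ⟨c, hc⟩ : S ⧸ K) ≠ 1 := by
      intro h
      exact hcM ((hmem hc).2 ((QuotientGroup.eq_one_iff _).1 h))
    obtain ⟨i, hi⟩ := mem_powers_of_prime_card hcard hc1
      (g' := (QuotientGroup.mk ⟨s, hs⟩ : S ⧸ K)⁻¹)
    refine ⟨i, (hmem (S.mul_mem (S.pow_mem hc i) hs)).2 ?_⟩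
    have h3 : (QuotientGroup.mk (⟨c, hc⟩ ^ i * ⟨s, hs⟩ : S) : S ⧸ K) = 1 := by
      rw [QuotientGroup.mk_mul, QuotientGroup.mk_pow]
      have : (QuotientGroup.mk ⟨c, hc⟩ : S ⧸ K) ^ i = (QuotientGroup.mk ⟨s, hs⟩ : S ⧸ K)⁻¹ := hi
      rw [this, inv_mul_cancel]
    exact (QuotientGroup.eq_one_iff _).1 h3

theorem pPowerIndex_refl {S : Subgroup Ω} (F : FusionSystem S) (p : ℕ) : F.HasPPowerIndexIn F p := by
  refine ⟨fun _ _ h => h, hyperfocal_le F p, fun P _ => ?_⟩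
  rintro _ ⟨k, -, rfl⟩
  exact k.2

theorem pPowerIndex_trans {S M T : Subgroup Ω} {p : ℕ} {F : FusionSystem S} {E₁ : FusionSystem M}
    {E : FusionSystem T} (hTM : T ≤ M) (h1 : E₁.HasPPowerIndexIn F p) (h2 : E.HasPPowerIndexIn E₁ p)
    (hT : F.hyperfocalSubgroup p ≤ T) : E.HasPPowerIndexIn F p := by
  refine ⟨fun P φ hφ => h1.1 P (h2.1 P hφ), hT, fun P hP => ?_⟩
  rw [Cfsg.Agent.Lib.Helper2.map_pResidual_subtype]
  refine (Subgroup.closure_le _).2 ?_
  rintro α ⟨hα, hc⟩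
  have h3 : α ∈ E₁.autGroup P := h1.2.2 P (hP.trans hTM) (coprime_mem_residual_map hα hc)
  exact h2.2.2 P hP (coprime_mem_residual_map h3 hc)

/-- Existence of saturated subsystems of `p`-power index. -/
theorem exists_pPowerIndex {p : ℕ} [Fact p.Prime] :
    ∀ (n : ℕ) (S : Subgroup Ω), Finite S → Nat.card S = n → IsPGroup p S → ∀ F : FusionSystem S,
      F.IsSaturated p → ∀ T : Subgroup Ω, T ≤ S → F.hyperfocalSubgroup p ≤ T →
      ∃ E : FusionSystem T, E.IsSaturated p ∧ E.HasPPowerIndexIn F p := by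
  intro n
  induction n using Nat.strong_induction_on with
  | _ n ih =>
  intro S hfin hn hS F hF T hTS hT
  by_cases hne : T = S
  · subst hne
    exact ⟨F, hF, pPowerIndex_refl F p⟩
  · obtain ⟨M, hTM, hMS, hMne, hMn, hidx⟩ := exists_index_p_data hS hTS hne
    have h : PID1 F p M := ⟨⟨hS, hF, hMS, hMn, hT.trans hTM⟩, hidx⟩
    have hsat := piSystem_saturated h
    have hind := piSystem_index h.toPID
    have hhyp := hyperfocal_eq_of_pPowerIndex hS h.toPID.sc hind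
    have hlt : Nat.card M < n := hn ▸ card_lt_of_le_ne le_rfl hMS hMne
    obtain ⟨E, hEs, hEi⟩ := ih _ hlt M (finite_of_le hMS) rfl (hS.to_le hMS) _ hsat T hTM
      (by rw [hhyp]; exact hT)
    exact ⟨E, hEs, pPowerIndex_trans hTM hind hEi hT⟩

end Cfsg.Agent.Lib.Helper87
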