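import Cfsg.Agent.Lib.Helper87.Alperin
import Cfsg.Agent.Lib.Helper87.Hyperfocal
import Cfsg.Agent.Lib.Helper87.Invariant
import Cfsg.Agent.Lib.Helper2.PResidual

set_option autoImplicit false

namespace Cfsg.Agent.Lib.Helper87

open Cfsg Cfsg.FusionSystem

variable {Ω : Type*} [Group Ω]

theorem autGroup_mono {S T : Subgroup Ω} {E : FusionSystem T} {F : FusionSystem S}
    (hEF : E.IsSubsystemOf F) (P : Subgroup Ω) : E.autGroup P ≤ F.autGroup P :=
  Subgroup.closure_mono (fun _ hα => hEF P hα)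

theorem residual_map_mono {A : Type*} [Group A] (p : ℕ) {H K : Subgroup A} (h : H ≤ K) :
    (pResidual p H).map H.subtype ≤ (pResidual p K).map K.subtype := by
  rw [Cfsg.Agent.Lib.Helper2.map_pResidual_subtype, Cfsg.Agent.Lib.Helper2.map_pResidual_subtype]
  refine Subgroup.closure_mono ?_
  rintro x ⟨hx1, hx2⟩
  exact ⟨h hx1, hx2⟩

/-- A saturated subsystem `E ⊆ F` over `T` is contained in every fusion system `E₀` over `U ≥ T` whose automorphism
groups contain `O^p(Aut_F(P))` for all `P ≤ T`. -/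
theorem subsystem_of_residual_le {S T U : Subgroup Ω} [Finite T] {p : ℕ} [Fact p.Prime]
    (hT : IsPGroup p T) {F : FusionSystem S} {E : FusionSystem T} {E₀ : FusionSystem U}
    (hEs : E.IsSaturated p) (hEF : E.IsSubsystemOf F) (hTU : T ≤ U)
    (hres : ∀ P : Subgroup Ω, P ≤ T →
      (pResidual p (F.autGroup P)).map (F.autGroup P).subtype ≤ E₀.autGroup P) :
    ∀ (P : Subgroup Ω) (f : Ω → Ω), Mor E P f → Mor E₀ P f := by
  refine alperin_induction hT hEs (fun P f => Mor E₀ P f) (fun h e => h.congr e)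
    (fun _ h hR => h.mono hR) (fun _ _ h h' hPQ => h.comp h' hPQ) ?_ ?_
  · intro P Q f g hf hg e h
    have hiso : Iso E₀ P Q f := ⟨h, hf.2⟩
    obtain ⟨g', hg', e', -⟩ := hiso.symm
    refine hg'.mor.congr (fun y hy => ?_)
    obtain ⟨x, hx, rfl⟩ := hf.surj hy
    rw [e' x hx, e x hx]
  · intro V hV
    left
    intro α hα
    have hVa := fullyNormalized_fullyAutomized hT hEs hV
    obtain ⟨w, hw, s, hs, e⟩ := aut_eq_residual_mul_conj hVa hα
    have hw' : (w : MulAut V) ∈ E₀.autGroup V :=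
      hres V hV.1 (residual_map_mono p (autGroup_mono hEF V) ⟨w, hw, rfl⟩)
    have hVU : V ≤ U := hV.1.trans hTU
    have h1 := (mem_autGroup_iff E₀ hVU _).1 hw'
    have hsn := (mem_normalizerIn_iff T V s).1 hs
    have h2 : Mor E₀ V (fun x => s * x * s⁻¹) := mor_conj E₀ hVU (hTU hsn.1)
    refine (h2.comp h1 (fun x hx => ?_)).congr (fun x hx => ?_)
    · exact (Subgroup.mem_normalizer_iff.1 ((Subgroup.mem_inf.1 hs).2) x).1 hx
    · rw [autFun_apply α hx, e ⟨x, hx⟩]
      rfl

theorem isSubsystemOf_of_mor {T U : Subgroup Ω} {E : FusionSystem T} {E₀ : FusionSystem U}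
    (h : ∀ (P : Subgroup Ω) (f : Ω → Ω), Mor E P f → Mor E₀ P f) : E.IsSubsystemOf E₀ :=
  fun P φ hφ => (h P _ (Mor.of_hom hφ)).mem_hom (fun x => (ext_coe φ x).symm)

/-- Uniqueness of saturated subsystems of `p`-power index over a given `T`. -/
theorem pPowerIndex_unique {S T : Subgroup Ω} [Finite T] {p : ℕ} [Fact p.Prime]
    (hT : IsPGroup p T) {F : FusionSystem S} {E E' : FusionSystem T}
    (hEs : E.IsSaturated p) (hE : E.HasPPowerIndexIn F p) (hE' : E'.HasPPowerIndexIn F p) :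
    E.IsSubsystemOf E' :=
  isSubsystemOf_of_mor (subsystem_of_residual_le hT hEs hE.1 le_rfl hE'.2.2)

end Cfsg.Agent.Lib.Helper87
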