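import Cfsg.Agent.Lib.Helper87.HypAct

set_option autoImplicit false

namespace Cfsg.Agent.Lib.Helper87

open Cfsg Cfsg.FusionSystem

variable {Ω : Type*} [Group Ω] {S : Subgroup Ω}

/-- A subgroup `T` normal in `S` containing the hyperfocal subgroup is strongly closed. -/
theorem stronglyClosed_of_hyperfocal_le [Finite S] {p : ℕ} [Fact p.Prime] (hS : IsPGroup p S)
    {F : FusionSystem S} (hF : F.IsSaturated p) {T : Subgroup Ω} (hTS : T ≤ S)
    (hTn : ∀ s ∈ S, ∀ t ∈ T, s * t * s⁻¹ ∈ T) (hT : F.hyperfocalSubgroup p ≤ T) :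
    F.StronglyClosed T := by
  have key : ∀ (P : Subgroup Ω) (f : Ω → Ω), Mor F P f → ∀ x ∈ P, (x ∈ T ↔ f x ∈ T) := by
    refine alperin_induction hS hF (fun P f => ∀ x ∈ P, (x ∈ T ↔ f x ∈ T)) ?_ ?_ ?_ ?_ ?_
    · intro P f g h e x hx
      rw [← e x hx]
      exact h x hx
    · intro P R f _ h hR x hx
      exact h x (hR hx)
    · intro P Q f g _ _ h h' hPQ x hx
      exact (h x hx).trans (h' _ (hPQ x hx))
    · intro P Q f g hf _ e h y hy
      obtain ⟨x, hx, rfl⟩ := hf.surj hy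
      rw [e x hx]
      exact (h x hx).symm
    · intro U hU
      left
      intro α hα x hx
      obtain ⟨w, hw, s, hs, e⟩ := aut_eq_residual_mul_conj
        (fullyNormalized_fullyAutomized hS hF hU) hα
      have hsS : s ∈ S := (normalizerIn_le S U) hs
      have hxs : s * x * s⁻¹ ∈ U := (Subgroup.mem_normalizer_iff.1 (Subgroup.mem_inf.1 hs).2 x).1 hx
      rw [autFun_apply α hx, e ⟨x, hx⟩, autFun_apply _ hxs]
      have h1 := hT (mem_hyperfocal_of hU.1 hw ⟨_, hxs⟩)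
      have h2 : x ∈ T ↔ s * x * s⁻¹ ∈ T := by
        constructor
        · exact hTn s hsS x
        · intro h
          have := hTn s⁻¹ (S.inv_mem hsS) _ h
          have h3 : s⁻¹ * (s * x * s⁻¹) * s⁻¹⁻¹ = x := by group
          rwa [h3] at this
      rw [h2]
      constructor
      · intro h
        have := T.mul_mem h h1
        rwa [mul_inv_cancel_left] at this
      · intro h
        have := T.mul_mem h (T.inv_mem h1)
        simpa using this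
  rw [stronglyClosed_iff]
  exact ⟨hTS, fun R f hf x hx hxT => (key R f hf x hx).1 hxT⟩

/-- Transport of `O^p(Aut_F(P))` along an isomorphism of the system. -/
theorem Iso.congr_mem_residual {F : FusionSystem S} {p : ℕ} {P Q : Subgroup Ω} {f : Ω → Ω}
    (h : Iso F P Q f) {β : MulAut P}
    (hβ : β ∈ (pResidual p (F.autGroup P)).map (F.autGroup P).subtype) :
    MulAut.congr h.toMulEquiv β ∈ (pResidual p (F.autGroup Q)).map (F.autGroup Q).subtype := by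
  rw [Cfsg.Agent.Lib.Helper2.map_pResidual_subtype] at hβ ⊢
  induction hβ using Subgroup.closure_induction with
  | mem x hx =>
    refine Subgroup.subset_closure ⟨h.congr_mem_autGroup hx.1, ?_⟩
    have : orderOf (MulAut.congr h.toMulEquiv x) = orderOf x :=
      orderOf_injective (MulAut.congr h.toMulEquiv).toMonoidHom
        (MulAut.congr h.toMulEquiv).injective x
    rw [this]
    exact hx.2
  | one => rw [map_one]; exact Subgroup.one_mem _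
  | mul a b _ _ iha ihb => rw [map_mul]; exact Subgroup.mul_mem _ iha ihb
  | inv a _ iha => rw [map_inv]; exact Subgroup.inv_mem _ iha

theorem Iso.congr_apply {F : FusionSystem S} {P Q : Subgroup Ω} {f : Ω → Ω}
    (h : Iso F P Q f) (β : MulAut P) {x : Ω} (hx : x ∈ P) :
    autFun (MulAut.congr h.toMulEquiv β) (f x) = f (autFun β x) := by
  rw [autFun_apply _ (h.map_mem hx), autFun_apply β hx]
  show f ((β (h.toMulEquiv.symm ⟨f x, h.map_mem hx⟩) : P) : Ω) = _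
  have h3 : h.toMulEquiv.symm ⟨f x, h.map_mem hx⟩ = ⟨x, hx⟩ := by
    rw [MulEquiv.symm_apply_eq]
    rfl
  rw [h3]

/-- A saturated subsystem of `p`-power index is invariant under `Aut_F(T)`. -/
theorem invF_of_pPowerIndex {T : Subgroup Ω} [Finite T] {p : ℕ} [Fact p.Prime]
    (hT : IsPGroup p T) {F : FusionSystem S} {E : FusionSystem T} (hEs : E.IsSaturated p)
    (hEi : E.HasPPowerIndexIn F p) : InvF E F := by
  refine alperin_induction hT hEs (fun P f => ∀ a : Ω → Ω, Iso F T T a → ∀ X : Subgroup Ω,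
    (∀ y, y ∈ X ↔ ∃ x ∈ P, a x = y) → ∃ χ, Mor E X χ ∧ ∀ x ∈ P, χ (a x) = a (f x)) ?_ ?_ ?_ ?_ ?_
  · intro P f g h e a ha X hX
    obtain ⟨χ, hχ, e'⟩ := h a ha X hX
    exact ⟨χ, hχ, fun x hx => by rw [e' x hx, e x hx]⟩
  · intro P R f hf h hR a ha X hX
    obtain ⟨χ, hχ, e'⟩ := h a ha (img P a) ((ha.mor.mono hf.le).mem_img)
    refine ⟨χ, hχ.mono (fun y hy => ?_), fun x hx => e' x (hR hx)⟩
    obtain ⟨x, hx, rfl⟩ := (hX y).1 hy
    exact ((ha.mor.mono hf.le).mem_img _).2 ⟨x, hR hx, rfl⟩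
  · intro P Q f g hf hg h h' hPQ a ha X hX
    obtain ⟨χ, hχ, e⟩ := h a ha X hX
    obtain ⟨χ', hχ', e'⟩ := h' a ha (img Q a) ((ha.mor.mono hg.le).mem_img)
    refine ⟨χ' ∘ χ, hχ.comp hχ' (fun y hy => ?_), fun x hx => ?_⟩
    · obtain ⟨x, hx, rfl⟩ := (hX y).1 hy
      rw [e x hx]
      exact ((ha.mor.mono hg.le).mem_img _).2 ⟨f x, hPQ x hx, rfl⟩
    · show χ' (χ (a x)) = a (g (f x))
      rw [e x hx, e' _ (hPQ x hx)]
  · intro P Q f g hf hg hgf h a ha X hX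
    obtain ⟨χ, hχ, e⟩ := h a ha (img P a) ((ha.mor.mono hf.le).mem_img)
    have hiso : Iso E (img P a) X χ := by
      refine ⟨hχ, fun y => ?_⟩
      rw [hX y]
      constructor
      · rintro ⟨q, hq, rfl⟩
        obtain ⟨x, hx, rfl⟩ := hf.surj hq
        exact ⟨a x, ((ha.mor.mono hf.le).mem_img _).2 ⟨x, hx, rfl⟩, e x hx⟩
      · rintro ⟨z, hz, rfl⟩
        obtain ⟨x, hx, rfl⟩ := ((ha.mor.mono hf.le).mem_img _).1 hz
        exact ⟨f x, hf.map_mem hx, (e x hx).symm⟩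
    obtain ⟨χ', hχ', hχχ, -⟩ := hiso.symm
    refine ⟨χ', hχ'.mor, fun q hq => ?_⟩
    obtain ⟨x, hx, rfl⟩ := hf.surj hq
    rw [← e x hx, hχχ _ (((ha.mor.mono hf.le).mem_img _).2 ⟨x, hx, rfl⟩), hgf x hx]
  · intro U hU
    left
    intro α hα a ha X hX
    obtain ⟨w, hw, t, ht, e⟩ := aut_eq_residual_mul_conj
      (fullyNormalized_fullyAutomized hT hEs hU) hα
    have htT : t ∈ T := (normalizerIn_le T U) ht
    have htU : ∀ x ∈ U, t * x * t⁻¹ ∈ U := fun x hx =>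
      (Subgroup.mem_normalizer_iff.1 (Subgroup.mem_inf.1 ht).2 x).1 hx
    have hiso : Iso F U X a := ⟨ha.mor.mono hU.1, hX⟩
    have hXT : X ≤ T := by
      intro y hy
      obtain ⟨x, hx, rfl⟩ := (hX y).1 hy
      exact ha.map_mem (hU.1 hx)
    have h1 : MulAut.congr hiso.toMulEquiv (w : MulAut U) ∈ E.autGroup X :=
      hEi.2.2 X hXT (hiso.congr_mem_residual
        (residual_map_mono p (autGroup_mono hEi.1 U) ⟨w, hw, rfl⟩))
    have h2 := (mem_autGroup_iff E hXT _).1 h1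
    have h3 : Mor E X (fun y => a t * y * (a t)⁻¹) := mor_conj E hXT (ha.map_mem htT)
    have h4 : ∀ x ∈ U, a t * a x * (a t)⁻¹ = a (t * x * t⁻¹) := fun x hx =>
      (ha.mor.map_conj htT (hU.1 hx)).symm
    refine ⟨_, h3.comp h2 (fun y hy => ?_), fun x hx => ?_⟩
    · obtain ⟨x, hx, rfl⟩ := (hX y).1 hy
      rw [h4 x hx]
      exact hiso.map_mem (htU x hx)
    · show autFun _ (a t * a x * (a t)⁻¹) = _
      rw [h4 x hx, hiso.congr_apply _ (htU x hx), autFun_apply α hx, e ⟨x, hx⟩]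

theorem iso_conj_T (F : FusionSystem S) {T : Subgroup Ω} (hTS : T ≤ S)
    (hTn : ∀ s ∈ S, ∀ t ∈ T, s * t * s⁻¹ ∈ T) {s : Ω} (hs : s ∈ S) :
    Iso F T T (fun x => s * x * s⁻¹) := by
  refine ⟨mor_conj F hTS hs, fun y => ⟨fun hy => ⟨s⁻¹ * y * s⁻¹⁻¹, hTn _ (S.inv_mem hs) y hy, by group⟩,
    ?_⟩⟩
  rintro ⟨x, hx, rfl⟩
  exact hTn s hs x hx

theorem InvF.conjS {T : Subgroup Ω} {F : FusionSystem S} {E : FusionSystem T} (hinv : InvF E F)
    (hTS : T ≤ S) (hTn : ∀ s ∈ S, ∀ t ∈ T, s * t * s⁻¹ ∈ T) {R : Subgroup Ω} {g₀ : Ω → Ω}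
    (hg : Mor E R g₀) {s : Ω} (hs : s ∈ S) :
    ∃ χ, Mor E (cj s R) χ ∧ ∀ x ∈ R, χ (s * x * s⁻¹) = s * g₀ x * s⁻¹ :=
  hinv R g₀ hg _ (iso_conj_T F hTS hTn hs) (cj s R) (fun _ => mem_cj')

/-- Elements of `O^p(Aut_F(U))` restrict to maps of `E` on `U ∩ T`. -/
theorem residual_le_autResE [Finite S] {T : Subgroup Ω} {p : ℕ} [Fact p.Prime]
    {F : FusionSystem S} {E : FusionSystem T} (hEi : E.HasPPowerIndexIn F p)
    (hTsc : F.StronglyClosed T) {U : Subgroup Ω} (hU : U ≤ S) :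
    (pResidual p (F.autGroup U)).map (F.autGroup U).subtype ≤ autResE E F hTsc U hU := by
  rw [Cfsg.Agent.Lib.Helper2.map_pResidual_subtype]
  refine (Subgroup.closure_le _).2 ?_
  rintro v ⟨hv, hc⟩
  refine ⟨hv, ?_⟩
  have hfin : Finite (U ⊓ T : Subgroup Ω) := finite_of_le (inf_le_left.trans hU)
  have hvm := (mem_autGroup_iff F hU v).1 hv
  obtain ⟨b, hb, eb, hbo⟩ := restrict_aut hU (inf_le_left : U ⊓ T ≤ U) hv
    (fun t ht => ⟨autFun_mem v ht.1, StronglyClosed.map_mem hTsc hvm ht.1 ht.2⟩)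
  have hbE : b ∈ E.autGroup (U ⊓ T) := by
    refine hEi.2.2 _ inf_le_right ?_
    rw [Cfsg.Agent.Lib.Helper2.map_pResidual_subtype]
    exact Subgroup.subset_closure ⟨hb, Nat.Coprime.coprime_dvd_left hbo hc⟩
  exact ((mem_autGroup_iff E inf_le_right b).1 hbE).congr (fun x hx => by
    rw [autFun_apply b hx, eb])

/-- Every map of `F` is, on the intersection with `T`, a map of `E` followed by conjugation by an element of `S`. -/
theorem decomp_pPowerIndex [Finite S] {T : Subgroup Ω} {p : ℕ} [Fact p.Prime] (hS : IsPGroup p S)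
    {F : FusionSystem S} (hF : F.IsSaturated p) {E : FusionSystem T}
    (hEi : E.HasPPowerIndexIn F p) (hTsc : F.StronglyClosed T) (hinv : InvF E F) :
    ∀ (P : Subgroup Ω) (f : Ω → Ω), Mor F P f →
      ∃ s ∈ S, ∃ f₀, Mor E (P ⊓ T) f₀ ∧ ∀ x ∈ P ⊓ T, f x = s * f₀ x * s⁻¹ := by
  have hTS := hTsc.1
  have hTn : ∀ s ∈ S, ∀ t ∈ T, s * t * s⁻¹ ∈ T := fun s hs t ht => StronglyClosed.conj_mem hTsc hs ht
  refine alperin_induction hS hF (fun P f => ∃ s ∈ S, ∃ f₀, Mor E (P ⊓ T) f₀ ∧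
    ∀ x ∈ P ⊓ T, f x = s * f₀ x * s⁻¹) ?_ ?_ ?_ ?_ ?_
  · rintro P f g ⟨s, hs, f₀, hf₀, e⟩ hfg
    exact ⟨s, hs, f₀, hf₀, fun x hx => by rw [← hfg x hx.1, e x hx]⟩
  · rintro P R f - ⟨s, hs, f₀, hf₀, e⟩ hR
    exact ⟨s, hs, f₀, hf₀.mono (inf_le_inf_right T hR), fun x hx => e x ⟨hR hx.1, hx.2⟩⟩
  · rintro P Q f g hf hg ⟨s, hs, f₀, hf₀, e⟩ ⟨r, hr, g₀, hg₀, e'⟩ hPQ
    obtain ⟨χ, hχ, ec⟩ := hinv.conjS hTS hTn hg₀ (S.inv_mem hs)
    have hfx : ∀ x ∈ P ⊓ T, f x ∈ Q ⊓ T := fun x hx =>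
      ⟨hPQ x hx.1, StronglyClosed.map_mem hTsc hf hx.1 hx.2⟩
    have h1 : ∀ x ∈ P ⊓ T, s⁻¹ * f x * s⁻¹⁻¹ = f₀ x := fun x hx => by
      rw [e x hx]
      group
    refine ⟨r * s, S.mul_mem hr hs, χ ∘ f₀, hf₀.comp hχ (fun x hx => ?_), fun x hx => ?_⟩
    · exact mem_cj'.2 ⟨f x, hfx x hx, h1 x hx⟩
    · show g (f x) = r * s * χ (f₀ x) * (r * s)⁻¹
      rw [← h1 x hx, ec _ (hfx x hx), e' _ (hfx x hx)]
      group
  · rintro P Q f g hf hg hgf ⟨s, hs, f₀, hf₀, e⟩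
    obtain ⟨k, hk, hkf, -⟩ := hf₀.iso_img.symm
    obtain ⟨χ, hχ, ec⟩ := hinv.conjS hTS hTn hk.mor hs
    have hsurj : ∀ y ∈ Q ⊓ T, ∃ x ∈ P ⊓ T, f x = y := by
      intro y hy
      obtain ⟨x, hx, rfl⟩ := hf.surj hy.1
      refine ⟨x, ⟨hx, ?_⟩, rfl⟩
      have := StronglyClosed.map_mem hTsc hg.mor hy.1 hy.2
      rwa [hgf x hx] at this
    refine ⟨s⁻¹, S.inv_mem hs, χ, hχ.mono (fun y hy => ?_), fun y hy => ?_⟩
    · obtain ⟨x, hx, rfl⟩ := hsurj y hy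
      exact mem_cj'.2 ⟨f₀ x, hf₀.iso_img.map_mem hx, (e x hx).symm⟩
    · obtain ⟨x, hx, rfl⟩ := hsurj y hy
      rw [hgf x hx.1, e x hx, ec _ (hf₀.iso_img.map_mem hx), hkf x hx]
      group
  · intro U hU
    left
    intro α hα
    obtain ⟨w, hw, s, hs, e⟩ := aut_eq_residual_mul_conj
      (fullyNormalized_fullyAutomized hS hF hU) (Subgroup.inv_mem _ hα)
    have hsS : s ∈ S := (normalizerIn_le S U) hs
    have hw' : ((w⁻¹ : F.autGroup U) : MulAut U) ∈ autResE E F hTsc U hU.1 :=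
      residual_le_autResE hEi hTsc hU.1 ⟨w⁻¹, Subgroup.inv_mem _ hw, rfl⟩
    refine ⟨s⁻¹, S.inv_mem hsS, _, hw'.2, fun y hy => ?_⟩
    rw [autFun_apply α hy.1, autFun_apply _ hy.1]
    set x := α ⟨y, hy.1⟩ with hx
    have h1 := e x
    have h2 : α⁻¹ x = ⟨y, hy.1⟩ := by rw [hx, MulAut.inv_apply_self]
    rw [h2] at h1
    have hxs : s * x * s⁻¹ ∈ U := (Subgroup.mem_normalizer_iff.1 (Subgroup.mem_inf.1 hs).2 x).1 x.2
    rw [autFun_apply _ hxs] at h1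
    have h3 : (⟨y, hy.1⟩ : U) = (w : MulAut U) ⟨s * x * s⁻¹, hxs⟩ := Subtype.ext h1
    rw [h3]
    show (x : Ω) = s⁻¹ * (((w : MulAut U)⁻¹ ((w : MulAut U) ⟨s * x * s⁻¹, hxs⟩) : U) : Ω) * s⁻¹⁻¹
    rw [MulAut.inv_apply_self]
    group

theorem fratF_of_pPowerIndex [Finite S] {T : Subgroup Ω} {p : ℕ} [Fact p.Prime] (hS : IsPGroup p S)
    {F : FusionSystem S} (hF : F.IsSaturated p) {E : FusionSystem T}
    (hEi : E.HasPPowerIndexIn F p) (hTsc : F.StronglyClosed T) (hinv : InvF E F) : FratF E F := by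
  intro P f hP hf
  obtain ⟨s, hs, f₀, hf₀, e⟩ := decomp_pPowerIndex hS hF hEi hTsc hinv P f hf
  rw [inf_eq_left.2 hP] at hf₀ e
  exact ⟨_, f₀, iso_conj_T F hTsc.1 (fun s hs t ht => StronglyClosed.conj_mem hTsc hs ht) hs, hf₀, e⟩

end Cfsg.Agent.Lib.Helper87
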