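import Cfsg.Agent.Lib.Helper87.Centric
import Cfsg.Agent.Lib.Helper87.Invariant
import Cfsg.Agent.S5104

set_option autoImplicit false

namespace Cfsg.Agent.Lib.Helper87

open Cfsg Cfsg.FusionSystem

variable {Ω : Type*} [Group Ω] {S : Subgroup Ω}

/-- `O^{p'}(Aut_F(P))` as a subgroup of `Aut(P)`. -/
def OpP (F : FusionSystem S) (p : ℕ) (P : Subgroup Ω) : Subgroup (MulAut P) :=
  Subgroup.closure {α : MulAut P | α ∈ F.autGroup P ∧ ∃ k : ℕ, orderOf α = p ^ k}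

theorem OpP_eq (F : FusionSystem S) (p : ℕ) (P : Subgroup Ω) :
    (Subgroup.closure {α : ↥(F.autGroup P) | ∃ k : ℕ, orderOf α = p ^ k}).map
      (F.autGroup P).subtype = OpP F p P := by
  rw [MonoidHom.map_closure]
  congr 1
  ext α
  constructor
  · rintro ⟨β, ⟨k, hk⟩, rfl⟩
    exact ⟨β.2, k, by rw [← hk]; exact Subgroup.orderOf_coe β⟩
  · rintro ⟨hα, k, hk⟩
    exact ⟨⟨α, hα⟩, ⟨k, by rw [← hk]; exact (Subgroup.orderOf_coe (⟨α, hα⟩ : F.autGroup P)).symm⟩, rfl⟩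

theorem OpP_le (F : FusionSystem S) (p : ℕ) (P : Subgroup Ω) : OpP F p P ≤ F.autGroup P :=
  (Subgroup.closure_le _).2 (fun _ h => h.1)

theorem OpP_normal (F : FusionSystem S) (p : ℕ) (P : Subgroup Ω) :
    ∀ α ∈ F.autGroup P, ∀ κ ∈ OpP F p P, α * κ * α⁻¹ ∈ OpP F p P := by
  intro α hα κ hκ
  induction hκ using Subgroup.closure_induction with
  | mem x hx =>
    refine Subgroup.subset_closure ⟨Subgroup.mul_mem _ (Subgroup.mul_mem _ hα hx.1)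
      (Subgroup.inv_mem _ hα), ?_⟩
    obtain ⟨k, hk⟩ := hx.2
    refine ⟨k, ?_⟩
    rw [← hk]
    exact orderOf_injective (MulAut.conj α).toMonoidHom (MulAut.conj α).injective x
  | one => simp
  | mul a b _ _ iha ihb =>
    have : α * (a * b) * α⁻¹ = (α * a * α⁻¹) * (α * b * α⁻¹) := by group
    rw [this]
    exact Subgroup.mul_mem _ iha ihb
  | inv a _ iha =>
    have : α * a⁻¹ * α⁻¹ = (α * a * α⁻¹)⁻¹ := by group
    rw [this]
    exact Subgroup.inv_mem _ iha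

theorem autInducedBy_le_OpP [Finite S] {p : ℕ} [Fact p.Prime] (hS : IsPGroup p S)
    (F : FusionSystem S) {P : Subgroup Ω} (hP : P ≤ S) : autInducedBy S P ≤ OpP F p P := by
  intro c hc
  refine Subgroup.subset_closure ⟨autInducedBy_le_autGroup F hP hc, ?_⟩
  obtain ⟨k, hk⟩ := (IsPGroup.iff_orderOf.1 (isPGroup_autInducedBy hS P)) ⟨c, hc⟩
  exact ⟨k, by rw [← hk]; exact Subgroup.orderOf_coe (⟨c, hc⟩ : autInducedBy S P)⟩

theorem Iso.congr_mem_OpP {F : FusionSystem S} {p : ℕ} {P Q : Subgroup Ω} {f : Ω → Ω}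
    (h : Iso F P Q f) {β : MulAut P} (hβ : β ∈ OpP F p P) :
    MulAut.congr h.toMulEquiv β ∈ OpP F p Q := by
  induction hβ using Subgroup.closure_induction with
  | mem x hx =>
    refine Subgroup.subset_closure ⟨h.congr_mem_autGroup hx.1, ?_⟩
    obtain ⟨k, hk⟩ := hx.2
    refine ⟨k, ?_⟩
    rw [← hk]
    exact orderOf_injective (MulAut.congr h.toMulEquiv).toMonoidHom
      (MulAut.congr h.toMulEquiv).injective x
  | one => rw [map_one]; exact Subgroup.one_mem _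
  | mul a b _ _ iha ihb => rw [map_mul]; exact Subgroup.mul_mem _ iha ihb
  | inv a _ iha => rw [map_inv]; exact Subgroup.inv_mem _ iha

/-- The maps of `F` all of whose `Aut_F(S)`-conjugates lie in `E`. -/
def InvE (E F : FusionSystem S) (P : Subgroup Ω) (f : Ω → Ω) : Prop :=
  Mor F P f ∧ ∀ a, Iso F S S a → ∀ X : Subgroup Ω, (∀ y, y ∈ X ↔ ∃ x ∈ P, a x = y) →
    ∃ χ, Mor E X χ ∧ ∀ x ∈ P, χ (a x) = a (f x)

namespace InvE

variable {E F : FusionSystem S} {P Q : Subgroup Ω} {f g : Ω → Ω}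

theorem mor (h : InvE E F P f) : Mor E P f := by
  obtain ⟨χ, hχ, e⟩ := h.2 id (Iso.refl F le_rfl) P
    (fun y => ⟨fun hy => ⟨y, hy, rfl⟩, by rintro ⟨x, hx, rfl⟩; exact hx⟩)
  exact hχ.congr e

theorem congr (h : InvE E F P f) (e : ∀ x ∈ P, f x = g x) : InvE E F P g := by
  refine ⟨h.1.congr e, fun a ha X hX => ?_⟩
  obtain ⟨χ, hχ, e'⟩ := h.2 a ha X hX
  exact ⟨χ, hχ, fun x hx => by rw [e' x hx, e x hx]⟩

theorem mono (h : InvE E F P f) (hQ : Q ≤ P) : InvE E F Q f := by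
  refine ⟨h.1.mono hQ, fun a ha X hX => ?_⟩
  obtain ⟨χ, hχ, e'⟩ := h.2 a ha (img P a) ((ha.mor.mono h.1.le).mem_img)
  refine ⟨χ, hχ.mono (fun y hy => ?_), fun x hx => e' x (hQ hx)⟩
  obtain ⟨x, hx, rfl⟩ := (hX y).1 hy
  exact ((ha.mor.mono h.1.le).mem_img _).2 ⟨x, hQ hx, rfl⟩

theorem comp (h : InvE E F P f) (h' : InvE E F Q g) (hPQ : ∀ x ∈ P, f x ∈ Q) :
    InvE E F P (g ∘ f) := by
  refine ⟨h.1.comp h'.1 hPQ, fun a ha X hX => ?_⟩
  obtain ⟨χ, hχ, e⟩ := h.2 a ha X hX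
  obtain ⟨χ', hχ', e'⟩ := h'.2 a ha (img Q a) ((ha.mor.mono h'.1.le).mem_img)
  refine ⟨χ' ∘ χ, hχ.comp hχ' (fun y hy => ?_), fun x hx => ?_⟩
  · obtain ⟨x, hx, rfl⟩ := (hX y).1 hy
    rw [e x hx]
    exact ((ha.mor.mono h'.1.le).mem_img _).2 ⟨f x, hPQ x hx, rfl⟩
  · show χ' (χ (a x)) = a (g (f x))
    rw [e x hx, e' _ (hPQ x hx)]

theorem inv (h : InvE E F P f) (hf : Iso F P Q f) (hg : Iso F Q P g) (hgf : ∀ x ∈ P, g (f x) = x) :
    InvE E F Q g := by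
  refine ⟨hg.mor, fun a ha X hX => ?_⟩
  obtain ⟨χ, hχ, e⟩ := h.2 a ha (img P a) ((ha.mor.mono h.1.le).mem_img)
  have hiso : Iso E (img P a) X χ := by
    refine ⟨hχ, fun y => ?_⟩
    rw [hX y]
    constructor
    · rintro ⟨q, hq, rfl⟩
      obtain ⟨x, hx, rfl⟩ := hf.surj hq
      exact ⟨a x, ((ha.mor.mono h.1.le).mem_img _).2 ⟨x, hx, rfl⟩, e x hx⟩
    · rintro ⟨z, hz, rfl⟩
      obtain ⟨x, hx, rfl⟩ := ((ha.mor.mono h.1.le).mem_img _).1 hz
      exact ⟨f x, hf.map_mem hx, (e x hx).symm⟩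
  obtain ⟨χ', hχ', hχχ, -⟩ := hiso.symm
  refine ⟨χ', hχ'.mor, fun q hq => ?_⟩
  obtain ⟨x, hx, rfl⟩ := hf.surj hq
  rw [← e x hx, hχχ _ (((ha.mor.mono h.1.le).mem_img _).2 ⟨x, hx, rfl⟩), hgf x hx]

/-- Invariance under conjugation with `Aut_F(S)`. -/
theorem conj (h : InvE E F P f) {b b' : Ω → Ω} (hb : Iso F S S b) (hb' : Iso F S S b')
    (hbb : ∀ x ∈ S, b' (b x) = x) {X : Subgroup Ω} (hX : ∀ y, y ∈ X ↔ ∃ x ∈ P, b x = y) :
    InvE E F X (b ∘ f ∘ b') := by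
  have hPS := h.1.le
  have hXS : X ≤ S := by
    intro y hy
    obtain ⟨x, hx, rfl⟩ := (hX y).1 hy
    exact hb.map_mem (hPS hx)
  have hb'X : ∀ y ∈ X, b' y ∈ P := by
    intro y hy
    obtain ⟨x, hx, rfl⟩ := (hX y).1 hy
    rw [hbb x (hPS hx)]
    exact hx
  refine ⟨((hb'.mor.mono hXS).comp h.1 hb'X).comp hb.mor (fun y hy => h.1.mem (hb'X y hy)),
    fun a ha Y hY => ?_⟩
  obtain ⟨χ, hχ, e⟩ := h.2 (a ∘ b) (hb.trans ha) Y (by
    intro y
    rw [hY y]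
    constructor
    · rintro ⟨z, hz, rfl⟩
      obtain ⟨x, hx, rfl⟩ := (hX z).1 hz
      exact ⟨x, hx, rfl⟩
    · rintro ⟨x, hx, rfl⟩
      exact ⟨b x, (hX _).2 ⟨x, hx, rfl⟩, rfl⟩)
  refine ⟨χ, hχ, fun y hy => ?_⟩
  obtain ⟨x, hx, rfl⟩ := (hX y).1 hy
  show χ (a (b x)) = a (b (f (b' (b x))))
  rw [hbb x (hPS hx)]
  exact e x hx

end InvE

section Main

variable {E F : FusionSystem S}

/-- Elements of `O^{p'}(Aut_F(R))`, `R` centric, belong to the invariant part of `E`. -/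
theorem invE_of_OpP {p : ℕ}
    (h : ∀ P : Subgroup Ω, F.IsCentric P → OpP F p P ≤ E.autGroup P) {R : Subgroup Ω}
    (hR : F.IsCentric R) {β : MulAut R} (hβ : β ∈ OpP F p R) : InvE E F R (autFun β) := by
  refine ⟨(mem_autGroup_iff F hR.1 β).1 (OpP_le F p R hβ), fun a ha X hX => ?_⟩
  have hiso : Iso F R X a := ⟨ha.mor.mono hR.1, hX⟩
  have h1 := h X (centric_conj hR hiso.isConj) (hiso.congr_mem_OpP hβ)
  refine ⟨_, (mem_autGroup_iff E hiso.le' _).1 h1, fun x hx => ?_⟩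
  rw [autFun_apply _ (hiso.map_mem hx), autFun_apply β hx]
  show a ((β (hiso.toMulEquiv.symm ⟨a x, hiso.map_mem hx⟩) : R) : Ω) = _
  have h3 : hiso.toMulEquiv.symm ⟨a x, hiso.map_mem hx⟩ = ⟨x, hx⟩ := by
    rw [MulEquiv.symm_apply_eq]
    rfl
  rw [h3]

/-- The Frattini property: every map of `F` is an element of `Aut_F(S)` composed with a map in the invariant part
of `E`. -/
theorem frattini_prime_index [Finite S] {p : ℕ} [Fact p.Prime] (hS : IsPGroup p S)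
    (hF : F.IsSaturated p)
    (h : ∀ P : Subgroup Ω, F.IsCentric P → OpP F p P ≤ E.autGroup P) :
    ∀ (P : Subgroup Ω) (f : Ω → Ω), Mor F P f →
      ∃ a f₀, Iso F S S a ∧ InvE E F P f₀ ∧ ∀ x ∈ P, f x = a (f₀ x) := by
  refine alperin_induction hS hF
    (fun P f => ∃ a f₀, Iso F S S a ∧ InvE E F P f₀ ∧ ∀ x ∈ P, f x = a (f₀ x)) ?_ ?_ ?_ ?_ ?_
  · rintro P f g ⟨a, f₀, ha, hf₀, e⟩ hfg
    exact ⟨a, f₀, ha, hf₀, fun x hx => by rw [← hfg x hx, e x hx]⟩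
  · rintro P R f - ⟨a, f₀, ha, hf₀, e⟩ hR
    exact ⟨a, f₀, ha, hf₀.mono hR, fun x hx => e x (hR hx)⟩
  · rintro P Q f g hf hg ⟨a, f₀, ha, hf₀, e⟩ ⟨b, g₀, hb, hg₀, e'⟩ hPQ
    obtain ⟨a', ha', ha'a, haa'⟩ := ha.symm
    have hQS := hg.le
    have hconj := hg₀.conj ha' ha haa' ((ha'.mor.mono hQS).mem_img)
    have hf₀X : ∀ x ∈ P, f₀ x ∈ img Q a' := by
      intro x hx
      refine ((ha'.mor.mono hQS).mem_img _).2 ⟨f x, hPQ x hx, ?_⟩
      rw [e x hx, ha'a _ (hf₀.1.mem hx)]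
    refine ⟨b ∘ a, _, ha.trans hb, hf₀.comp hconj hf₀X, fun x hx => ?_⟩
    show g (f x) = b (a (a' (g₀ (a (f₀ x)))))
    rw [← e x hx, haa' _ (hg₀.1.mem (hPQ x hx)), e' _ (hPQ x hx)]
  · rintro P Q f g hf hg hgf ⟨a, f₀, ha, hf₀, e⟩
    obtain ⟨a', ha', ha'a, haa'⟩ := ha.symm
    obtain ⟨g₀, hg₀, hg₀f, -⟩ := hf₀.1.iso_img.symm
    have hinv := hf₀.inv hf₀.1.iso_img hg₀ hg₀f
    have hQ : ∀ y, y ∈ Q ↔ ∃ x ∈ img P f₀, a x = y := by
      intro y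
      rw [hf.2 y]
      constructor
      · rintro ⟨x, hx, rfl⟩
        exact ⟨f₀ x, hf₀.1.iso_img.map_mem hx, (e x hx).symm⟩
      · rintro ⟨z, hz, rfl⟩
        obtain ⟨x, hx, rfl⟩ := (hf₀.1.mem_img z).1 hz
        exact ⟨x, hx, e x hx⟩
    refine ⟨a', _, ha', hinv.conj ha ha' ha'a hQ, fun y hy => ?_⟩
    obtain ⟨x, hx, rfl⟩ := hf.surj hy
    show g (f x) = a' (a (g₀ (a' (f x))))
    rw [hgf x hx, e x hx, ha'a _ (hf₀.1.mem hx), hg₀f x hx, ha'a x (hf.le hx)]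
  · intro U hU
    by_cases hUS : U = S
    · left
      subst hUS
      intro α hα
      refine ⟨autFun α, id, iso_autFun ((mem_autGroup_iff F le_rfl α).1 hα), ⟨mor_id F le_rfl,
        fun a ha X hX => ⟨id, mor_id E ?_, fun _ _ => rfl⟩⟩, fun _ _ => rfl⟩
      intro y hy
      obtain ⟨x, hx, rfl⟩ := (hX y).1 hy
      exact ha.map_mem hx
    · right
      by_cases hUc : F.IsCentric U
      · refine ⟨OpP F p U, OpP_le F p U, OpP_normal F p U, fun κ hκ => ⟨id, autFun κ,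
          Iso.refl F le_rfl, invE_of_OpP h hUc hκ, fun _ _ => rfl⟩, ?_⟩
        have hlt : U < S := lt_of_le_of_ne hU.1 hUS
        obtain ⟨g, hg, hgU⟩ := exists_mem_normalizerIn_not_mem hS le_rfl hlt
        exact ⟨g, ⟨hg.1, (conjToAut S U ⟨g, hg.1, hg.2⟩ : autInducedBy S U),
          autInducedBy_le_OpP hS F hU.1 (Subtype.prop _), fun _ => rfl⟩, hgU⟩
      · have hnc : ¬ centralizerIn S U ≤ U := fun hc =>
          hUc (Cfsg.Agent.S5104.result p hS F hF U (fullyNormalized_fullyCentralized hS hF hU) hc)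
        obtain ⟨g, hg, hgU⟩ := SetLike.not_le_iff_exists.1 hnc
        refine ⟨⊥, bot_le, fun α _ κ hκ => ?_, fun κ hκ => ?_, g, ⟨hg.1, 1, Subgroup.one_mem _,
          fun x => ?_⟩, hgU⟩
        · rw [Subgroup.mem_bot] at hκ ⊢
          rw [hκ]
          group
        · rw [Subgroup.mem_bot] at hκ
          subst hκ
          refine ⟨id, id, Iso.refl F le_rfl, ⟨mor_id F hU.1, fun a ha X hX => ⟨id, mor_id E ?_,
            fun _ _ => rfl⟩⟩, fun x hx => ?_⟩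
          · intro y hy
            obtain ⟨x, hx, rfl⟩ := (hX y).1 hy
            exact ha.map_mem (hU.1 hx)
          · rw [autFun_apply _ hx]
            rfl
        · have := ((mem_centralizerIn_iff S U g).1 hg).2 x x.2
          rw [MulAut.one_apply, ← this]
          group

/-- All elements of `p`-power order of `Aut_F(P)` lie in `Aut_E(P)`. -/
theorem OpP_le_of_centric [Finite S] {p : ℕ} [Fact p.Prime] (hS : IsPGroup p S)
    (hF : F.IsSaturated p)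
    (h : ∀ P : Subgroup Ω, F.IsCentric P → OpP F p P ≤ E.autGroup P) {P : Subgroup Ω}
    (hP : P ≤ S) : OpP F p P ≤ E.autGroup P := by
  refine (Subgroup.closure_le _).2 ?_
  rintro β ⟨hβ, k, hk⟩
  obtain ⟨Q, hPQ, hQa, -⟩ := hF P hP
  obtain ⟨f₁, hf₁⟩ := (isConj_iff F P Q).1 hPQ
  have : Finite P := finite_of_le hP
  have hAp : IsPGroup p (Subgroup.zpowers β) := by
    rw [IsPGroup.iff_card]
    exact ⟨k, by rw [Nat.card_zpowers, hk]⟩
  obtain ⟨f, hf, hconj⟩ := exists_iso_conj_into hQa hf₁ (Subgroup.zpowers β)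
    ((Subgroup.zpowers_le).2 hβ) hAp
  obtain ⟨s, hs, es⟩ := hconj β (Subgroup.mem_zpowers β)
  obtain ⟨a, f₀, ha, hf₀, e⟩ := frattini_prime_index hS hF h P f hf.mor
  obtain ⟨a', ha', ha'a, haa'⟩ := ha.symm
  have hf₀E := hf₀.mor
  obtain ⟨g₀, hg₀, hg₀f, -⟩ := hf₀E.iso_img.symm
  -- `f₀ β = c_{a'(s)} f₀`
  have key : ∀ x : P, f₀ (β x : P) = a' s * f₀ x * (a' s)⁻¹ := by
    intro x
    have h1 := es x
    rw [e _ (Subtype.prop _), e x x.2] at h1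
    have h2 := congrArg a' h1
    rw [ha'a _ (hf₀.1.mem (Subtype.prop _)), ha'.mor.map_conj hs (ha.map_mem (hf₀.1.mem x.2)),
      ha'a _ (hf₀.1.mem x.2)] at h2
    exact h2
  show β ∈ E.autGroup P
  rw [mem_autGroup_iff E hP]
  have h1 : Mor E P ((fun y => a' s * y * (a' s)⁻¹) ∘ f₀) :=
    hf₀E.comp (mor_conj E hf₀E.img_le (ha'.map_mem hs)) (fun x hx => hf₀E.iso_img.map_mem hx)
  have h2 : Mor E P (g₀ ∘ ((fun y => a' s * y * (a' s)⁻¹) ∘ f₀)) := by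
    refine h1.comp hg₀.mor (fun x hx => ?_)
    show a' s * f₀ x * (a' s)⁻¹ ∈ _
    rw [← key ⟨x, hx⟩]
    exact hf₀E.iso_img.map_mem (Subtype.prop _)
  refine h2.congr (fun x hx => ?_)
  show g₀ (a' s * f₀ x * (a' s)⁻¹) = _
  rw [← key ⟨x, hx⟩, hg₀f _ (Subtype.prop _), autFun_apply β hx]

theorem centric_iff_of_prime_index [Finite S] {p : ℕ} [Fact p.Prime] (hS : IsPGroup p S)
    (hF : F.IsSaturated p) (hEF : E.IsSubsystemOf F)
    (h : ∀ P : Subgroup Ω, F.IsCentric P → OpP F p P ≤ E.autGroup P) (P : Subgroup Ω) :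
    E.IsCentric P ↔ F.IsCentric P := by
  constructor
  · rintro ⟨hP, hc⟩
    refine ⟨hP, fun Q hQ => ?_⟩
    obtain ⟨f, hf⟩ := (isConj_iff F P Q).1 hQ
    obtain ⟨a, f₀, ha, hf₀, e⟩ := frattini_prime_index hS hF h P f hf.mor
    obtain ⟨a', ha', ha'a, haa'⟩ := ha.symm
    have h1 := hc _ hf₀.mor.iso_img.isConj
    intro c hcc
    obtain ⟨hcS, hcQ⟩ := (mem_centralizerIn_iff S Q c).1 hcc
    have h2 : a' c ∈ centralizerIn S (img P f₀) := by
      refine (mem_centralizerIn_iff S _ _).2 ⟨ha'.map_mem hcS, fun y hy => ?_⟩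
      obtain ⟨x, hx, rfl⟩ := (hf₀.1.mem_img y).1 hy
      have h3 := hcQ (f x) (hf.map_mem hx)
      have h4 := congrArg a' h3
      rw [ha'.mor.map_mul (hf.mor.mem hx) hcS, ha'.mor.map_mul hcS (hf.mor.mem hx), e x hx,
        ha'a _ (hf₀.1.mem hx)] at h4
      exact h4
    obtain ⟨x, hx, e'⟩ := (hf₀.1.mem_img _).1 (h1 h2)
    have h5 : c = f x := by rw [e x hx, e', haa' c hcS]
    rw [h5]
    exact hf.map_mem hx
  · rintro ⟨hP, hc⟩
    refine ⟨hP, fun Q hQ => hc Q ?_⟩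
    obtain ⟨f, hf⟩ := (isConj_iff E P Q).1 hQ
    exact (isConj_iff F P Q).2 ⟨f, hf.mor.of_subsystem hEF, hf.2⟩

end Main

end Cfsg.Agent.Lib.Helper87
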