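import Cfsg.Agent.Lib.Helper87.PrimeIndex
import Cfsg.Agent.Lib.Helper87.BCGLO3
import Cfsg.Agent.Lib.Helper87.NormalCrit
import Cfsg.Agent.Lib.Helper87.PPower

set_option autoImplicit false

namespace Cfsg.Agent.Lib.Helper87

open Cfsg Cfsg.FusionSystem

variable {Ω : Type*} [Group Ω] {S : Subgroup Ω}

/-- The Frattini property of a subsystem over the same group: every map of `F` is an element of `Aut_F(S)`
composed with a map in the invariant part of `E`. -/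
def FratS (E F : FusionSystem S) : Prop :=
  ∀ (P : Subgroup Ω) (f : Ω → Ω), Mor F P f →
    ∃ a f₀, Iso F S S a ∧ InvE E F P f₀ ∧ ∀ x ∈ P, f x = a (f₀ x)

section Main

variable {E F : FusionSystem S}

/-- Elements of `O^{p'}(Aut_F(R))`, `R` centric, belong to the invariant part of `E`. -/
theorem invE_of_OpP_fam {p : ℕ} {ℋ : Set (Subgroup Ω)}
    (hconj : ∀ P ∈ ℋ, ∀ Q, F.IsConj P Q → Q ∈ ℋ) (hle : ∀ P ∈ ℋ, P ≤ S)
    (h : ∀ P ∈ ℋ, OpP F p P ≤ E.autGroup P) {R : Subgroup Ω}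
    (hR : R ∈ ℋ) {β : MulAut R} (hβ : β ∈ OpP F p R) : InvE E F R (autFun β) := by
  refine ⟨(mem_autGroup_iff F (hle R hR) β).1 (OpP_le F p R hβ), fun a ha X hX => ?_⟩
  have hiso : Iso F R X a := ⟨ha.mor.mono (hle R hR), hX⟩
  have h1 := h X (hconj R hR X hiso.isConj) (hiso.congr_mem_OpP hβ)
  refine ⟨_, (mem_autGroup_iff E hiso.le' _).1 h1, fun x hx => ?_⟩
  rw [autFun_apply _ (hiso.map_mem hx), autFun_apply β hx]
  show a ((β (hiso.toMulEquiv.symm ⟨a x, hiso.map_mem hx⟩) : R) : Ω) = _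
  have h3 : hiso.toMulEquiv.symm ⟨a x, hiso.map_mem hx⟩ = ⟨x, hx⟩ := by
    rw [MulEquiv.symm_apply_eq]
    rfl
  rw [h3]

/-- The Frattini property: every map of `F` is an element of `Aut_F(S)` composed with a map in the invariant part
of `E`. -/
theorem frattini_family [Finite S] {p : ℕ} [Fact p.Prime] (hS : IsPGroup p S)
    (hF : F.IsSaturated p) {ℋ : Set (Subgroup Ω)}
    (hconj : ∀ P ∈ ℋ, ∀ Q, F.IsConj P Q → Q ∈ ℋ) (hle : ∀ P ∈ ℋ, P ≤ S)
    (h : ∀ P ∈ ℋ, OpP F p P ≤ E.autGroup P)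
    (hrad : ∀ U, F.IsCentric U → U ∉ ℋ → ¬ (OpAut F p U ≤ Inn U)) : FratS E F := by
  refine alperin_induction hS hF
    (fun P f => ∃ a f₀, Iso F S S a ∧ InvE E F P f₀ ∧ ∀ x ∈ P, f x = a (f₀ x)) ?_ ?_ ?_ ?_ ?_
  · rintro P f g ⟨a, f₀, ha, hf₀, e⟩ hfg
    exact ⟨a, f₀, ha, hf₀, fun x hx => by rw [← hfg x hx, e x hx]⟩
  · rintro P R f - ⟨a, f₀, ha, hf₀, e⟩ hR
    exact ⟨a, f₀, ha, hf₀.mono hR, fun x hx => e x (hR hx)⟩
  · rintro P Q f g hf hg ⟨a, f₀, ha, hf₀, e⟩ ⟨b, g₀, hb, hg₀, e'⟩ hPQ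
    obtain ⟨a', ha', ha'a, haa'⟩ := ha.symm
    have hQS := hg.le
    have hconj := hg₀.conj ha' ha haa' ((ha'.mor.mono hQS).mem_img)
    have hf₀X : ∀ x ∈ P, f₀ x ∈ img Q a' := by
      intro x hx
      refine ((ha'.mor.mono hQS).mem_img _).2 ⟨f x, hPQ x hx, ?_⟩
      rw [e x hx, ha'a _ (hf₀.1.mem hx)]
    refine ⟨b ∘ a, _, ha.trans hb, hf₀.comp hconj hf₀X, fun x hx => ?_⟩
    show g (f x) = b (a (a' (g₀ (a (f₀ x)))))
    rw [← e x hx, haa' _ (hg₀.1.mem (hPQ x hx)), e' _ (hPQ x hx)]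
  · rintro P Q f g hf hg hgf ⟨a, f₀, ha, hf₀, e⟩
    obtain ⟨a', ha', ha'a, haa'⟩ := ha.symm
    obtain ⟨g₀, hg₀, hg₀f, -⟩ := hf₀.1.iso_img.symm
    have hinv := hf₀.inv hf₀.1.iso_img hg₀ hg₀f
    have hQ : ∀ y, y ∈ Q ↔ ∃ x ∈ img P f₀, a x = y := by
      intro y
      rw [hf.2 y]
      constructor
      · rintro ⟨x, hx, rfl⟩
        exact ⟨f₀ x, hf₀.1.iso_img.map_mem hx, (e x hx).symm⟩
      · rintro ⟨z, hz, rfl⟩
        obtain ⟨x, hx, rfl⟩ := (hf₀.1.mem_img z).1 hz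
        exact ⟨x, hx, e x hx⟩
    refine ⟨a', _, ha', hinv.conj ha ha' ha'a hQ, fun y hy => ?_⟩
    obtain ⟨x, hx, rfl⟩ := hf.surj hy
    show g (f x) = a' (a (g₀ (a' (f x))))
    rw [hgf x hx, e x hx, ha'a _ (hf₀.1.mem hx), hg₀f x hx, ha'a x (hf.le hx)]
  · intro U hU
    by_cases hUS : U = S
    · left
      subst hUS
      intro α hα
      refine ⟨autFun α, id, iso_autFun ((mem_autGroup_iff F le_rfl α).1 hα), ⟨mor_id F le_rfl,
        fun a ha X hX => ⟨id, mor_id E ?_, fun _ _ => rfl⟩⟩, fun _ _ => rfl⟩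
      intro y hy
      obtain ⟨x, hx, rfl⟩ := (hX y).1 hy
      exact ha.map_mem hx
    · right
      by_cases hUc : U ∈ ℋ
      · refine ⟨OpP F p U, OpP_le F p U, OpP_normal F p U, fun κ hκ => ⟨id, autFun κ,
          Iso.refl F le_rfl, invE_of_OpP_fam hconj hle h hUc hκ, fun _ _ => rfl⟩, ?_⟩
        have hlt : U < S := lt_of_le_of_ne hU.1 hUS
        obtain ⟨g, hg, hgU⟩ := exists_mem_normalizerIn_not_mem hS le_rfl hlt
        exact ⟨g, ⟨hg.1, (conjToAut S U ⟨g, hg.1, hg.2⟩ : autInducedBy S U),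
          autInducedBy_le_OpP hS F hU.1 (Subtype.prop _), fun _ => rfl⟩, hgU⟩
      · have hOS : OpAut F p U ≤ autInducedBy S U :=
          normal_pSubgroup_le_autS (fullyNormalized_fullyAutomized hS hF hU) (OpAut_le F p U)
            (OpAut_normal F p U) (OpAut_isPGroup F p U)
        refine ⟨OpAut F p U, OpAut_le F p U, OpAut_normal F p U, fun κ hκ => ?_, ?_⟩
        · obtain ⟨s, hs, es⟩ := (mem_autInducedBy_iff S U κ).1 (hOS hκ)
          refine ⟨id, autFun κ, Iso.refl F le_rfl,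
            ⟨(mem_autGroup_iff F hU.1 κ).1 (OpAut_le F p U hκ), fun a ha X hX => ?_⟩,
            fun _ _ => rfl⟩
          have hXS : X ≤ S := by
            intro y hy
            obtain ⟨x, hx, rfl⟩ := (hX y).1 hy
            exact ha.map_mem (hU.1 hx)
          refine ⟨_, mor_conj E hXS (ha.map_mem hs), fun x hx => ?_⟩
          rw [autFun_apply κ hx, es, ha.mor.map_conj hs (hU.1 hx)]
        · by_cases hc : F.IsCentric U
          · obtain ⟨κ, hκ, hκI⟩ := SetLike.not_le_iff_exists.1 (hrad U hc hUc)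
            obtain ⟨s, hs, es⟩ := (mem_autInducedBy_iff S U κ).1 (hOS hκ)
            refine ⟨s, ⟨hs, κ, hκ, es⟩, fun hsU => hκI ?_⟩
            rw [inn_eq_autInducedBy]
            exact (mem_autInducedBy_iff U U κ).2 ⟨s, hsU, es⟩
          · have hnc : ¬ centralizerIn S U ≤ U := fun hcc =>
              hc (Cfsg.Agent.S5104.result p hS F hF U (fullyNormalized_fullyCentralized hS hF hU) hcc)
            obtain ⟨g, hg, hgU⟩ := SetLike.not_le_iff_exists.1 hnc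
            refine ⟨g, ⟨hg.1, 1, Subgroup.one_mem _, fun x => ?_⟩, hgU⟩
            have := ((mem_centralizerIn_iff S U g).1 hg).2 x x.2
            rw [MulAut.one_apply, ← this]
            group

/-- All elements of `p`-power order of `Aut_F(P)` lie in `Aut_E(P)`. -/
theorem OpP_le_of_frat [Finite S] {p : ℕ} [Fact p.Prime]
    (hF : F.IsSaturated p) (hfr : FratS E F) {P : Subgroup Ω}
    (hP : P ≤ S) : OpP F p P ≤ E.autGroup P := by
  refine (Subgroup.closure_le _).2 ?_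
  rintro β ⟨hβ, k, hk⟩
  obtain ⟨Q, hPQ, hQa, -⟩ := hF P hP
  obtain ⟨f₁, hf₁⟩ := (isConj_iff F P Q).1 hPQ
  have : Finite P := finite_of_le hP
  have hAp : IsPGroup p (Subgroup.zpowers β) := by
    rw [IsPGroup.iff_card]
    exact ⟨k, by rw [Nat.card_zpowers, hk]⟩
  obtain ⟨f, hf, hconj⟩ := exists_iso_conj_into hQa hf₁ (Subgroup.zpowers β)
    ((Subgroup.zpowers_le).2 hβ) hAp
  obtain ⟨s, hs, es⟩ := hconj β (Subgroup.mem_zpowers β)
  obtain ⟨a, f₀, ha, hf₀, e⟩ := hfr P f hf.mor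
  obtain ⟨a', ha', ha'a, haa'⟩ := ha.symm
  have hf₀E := hf₀.mor
  obtain ⟨g₀, hg₀, hg₀f, -⟩ := hf₀E.iso_img.symm
  -- `f₀ β = c_{a'(s)} f₀`
  have key : ∀ x : P, f₀ (β x : P) = a' s * f₀ x * (a' s)⁻¹ := by
    intro x
    have h1 := es x
    rw [e _ (Subtype.prop _), e x x.2] at h1
    have h2 := congrArg a' h1
    rw [ha'a _ (hf₀.1.mem (Subtype.prop _)), ha'.mor.map_conj hs (ha.map_mem (hf₀.1.mem x.2)),
      ha'a _ (hf₀.1.mem x.2)] at h2
    exact h2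
  show β ∈ E.autGroup P
  rw [mem_autGroup_iff E hP]
  have h1 : Mor E P ((fun y => a' s * y * (a' s)⁻¹) ∘ f₀) :=
    hf₀E.comp (mor_conj E hf₀E.img_le (ha'.map_mem hs)) (fun x hx => hf₀E.iso_img.map_mem hx)
  have h2 : Mor E P (g₀ ∘ ((fun y => a' s * y * (a' s)⁻¹) ∘ f₀)) := by
    refine h1.comp hg₀.mor (fun x hx => ?_)
    show a' s * f₀ x * (a' s)⁻¹ ∈ _
    rw [← key ⟨x, hx⟩]
    exact hf₀E.iso_img.map_mem (Subtype.prop _)
  refine h2.congr (fun x hx => ?_)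
  show g₀ (a' s * f₀ x * (a' s)⁻¹) = _
  rw [← key ⟨x, hx⟩, hg₀f _ (Subtype.prop _), autFun_apply β hx]

theorem centric_iff_of_frat (hEF : E.IsSubsystemOf F) (hfr : FratS E F) (P : Subgroup Ω) :
    E.IsCentric P ↔ F.IsCentric P := by
  constructor
  · rintro ⟨hP, hc⟩
    refine ⟨hP, fun Q hQ => ?_⟩
    obtain ⟨f, hf⟩ := (isConj_iff F P Q).1 hQ
    obtain ⟨a, f₀, ha, hf₀, e⟩ := hfr P f hf.mor
    obtain ⟨a', ha', ha'a, haa'⟩ := ha.symm
    have h1 := hc _ hf₀.mor.iso_img.isConj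
    intro c hcc
    obtain ⟨hcS, hcQ⟩ := (mem_centralizerIn_iff S Q c).1 hcc
    have h2 : a' c ∈ centralizerIn S (img P f₀) := by
      refine (mem_centralizerIn_iff S _ _).2 ⟨ha'.map_mem hcS, fun y hy => ?_⟩
      obtain ⟨x, hx, rfl⟩ := (hf₀.1.mem_img y).1 hy
      have h3 := hcQ (f x) (hf.map_mem hx)
      have h4 := congrArg a' h3
      rw [ha'.mor.map_mul (hf.mor.mem hx) hcS, ha'.mor.map_mul hcS (hf.mor.mem hx), e x hx,
        ha'a _ (hf₀.1.mem hx)] at h4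
      exact h4
    obtain ⟨x, hx, e'⟩ := (hf₀.1.mem_img _).1 (h1 h2)
    have h5 : c = f x := by rw [e x hx, e', haa' c hcS]
    rw [h5]
    exact hf.map_mem hx
  · rintro ⟨hP, hc⟩
    refine ⟨hP, fun Q hQ => hc Q ?_⟩
    obtain ⟨f, hf⟩ := (isConj_iff E P Q).1 hQ
    exact (isConj_iff F P Q).2 ⟨f, hf.mor.of_subsystem hEF, hf.2⟩

theorem OpAut_le_inn_of_conj {p : ℕ} {P Q : Subgroup Ω} {f : Ω → Ω} (h : Iso F P Q f)
    (hQ : OpAut F p Q ≤ Inn Q) : OpAut F p P ≤ Inn P := by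
  intro β hβ
  have h1 := hQ (h.congr_mem_OpAut hβ)
  rw [inn_eq_autInducedBy] at h1 ⊢
  obtain ⟨q, hq, e⟩ := (mem_autInducedBy_iff Q Q _).1 h1
  obtain ⟨q₀, hq₀, rfl⟩ := h.surj hq
  refine (mem_autInducedBy_iff P P β).2 ⟨q₀, hq₀, fun x => ?_⟩
  have h2 := e (h.toMulEquiv x)
  have h3 : ((MulAut.congr h.toMulEquiv β) (h.toMulEquiv x) : Q) = h.toMulEquiv (β x) := by
    show h.toMulEquiv (β (h.toMulEquiv.symm (h.toMulEquiv x))) = _
    rw [MulEquiv.symm_apply_apply]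
  rw [h3, h.toMulEquiv_apply, h.toMulEquiv_apply, ← h.mor.map_conj hq₀ x.2] at h2
  exact h.mor.inj (Subtype.prop _) (P.mul_mem (P.mul_mem hq₀ x.2) (P.inv_mem hq₀)) h2

/-- Every class of the subsystem contains a subgroup fully normalized in the large system. -/
theorem FratS.exists_fn_conj [Finite S] (hfr : FratS E F) {P : Subgroup Ω} (hP : P ≤ S) :
    ∃ Q, E.IsConj P Q ∧ F.IsFullyNormalized Q := by
  obtain ⟨P', hPP', hfn⟩ := exists_fullyNormalized_conj F hP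
  obtain ⟨f, hf⟩ := (isConj_iff F P P').1 hPP'
  obtain ⟨a, f₀, ha, hf₀, e⟩ := hfr P f hf.mor
  obtain ⟨a', ha', ha'a, haa'⟩ := ha.symm
  have i₀ := hf₀.mor.iso_img
  have i₀F := hf₀.1.iso_img
  refine ⟨img P f₀, i₀.isConj, i₀.le', fun R hR => ?_⟩
  have h1 : F.IsConj P' R := isConj_trans (isConj_symm hPP') (isConj_trans i₀F.isConj hR)
  refine (hfn.2 R h1).trans ?_
  have hQ : ∀ y, y ∈ img P f₀ ↔ ∃ x ∈ P', a' x = y := by
    intro y
    rw [hf₀.1.mem_img]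
    constructor
    · rintro ⟨x, hx, rfl⟩
      exact ⟨f x, hf.map_mem hx, by rw [e x hx, ha'a _ (hf₀.1.mem hx)]⟩
    · rintro ⟨z, hz, rfl⟩
      obtain ⟨x, hx, rfl⟩ := hf.surj hz
      exact ⟨x, hx, by rw [e x hx, ha'a _ (hf₀.1.mem hx)]⟩
  exact (ha'.mor.mono (normalizerIn_le S P')).card_le le_rfl (normalizerIn_le S _) (fun x hx =>
    (ha'.mor.mono (normalizerIn_le S P')).map_mem_normalizerIn (le_normalizerIn hfn.1)
      inf_le_right hQ hx)

theorem fullyAutomized_of_sub [Finite S] {p : ℕ} [Fact p.Prime] (hS : IsPGroup p S)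
    (hF : F.IsSaturated p) (hEF : E.IsSubsystemOf F) {Q : Subgroup Ω}
    (hQ : F.IsFullyNormalized Q) : E.IsFullyAutomized p Q :=
  (fullyAutomized_iff E p hQ.1).2 (((fullyAutomized_iff F p hQ.1).1
    (fullyNormalized_fullyAutomized hS hF hQ)).mono (autInducedBy_le_autGroup E hQ.1)
    (autGroup_mono hEF Q))

/-- Saturation of subsystems of index prime to `p` generated by a family of centric subgroups. -/
theorem saturated_of_family [Finite S] {p : ℕ} [Fact p.Prime] (hS : IsPGroup p S)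
    (hF : F.IsSaturated p) (hEF : E.IsSubsystemOf F) {ℋ : Set (Subgroup Ω)}
    (hconj : ∀ P ∈ ℋ, ∀ Q, F.IsConj P Q → Q ∈ ℋ) (hle : ∀ P ∈ ℋ, P ≤ S) (hfr : FratS E F)
    (hclosed : ∀ a, Iso F S S a → ∀ R ∈ ℋ, Mor E R a → Mor E S a)
    (hgen : ∀ E' : FusionSystem S, (∀ P ∈ ℋ, E.Hom P ⊆ E'.Hom P) → E ≤ E')
    (hrad : ∀ U, F.IsCentric U → U ∉ ℋ → ¬ (OpAut F p U ≤ Inn U)) : E.IsSaturated p := by
  have hconjEF : ∀ {P Q : Subgroup Ω}, E.IsConj P Q → F.IsConj P Q := by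
    intro P Q h
    obtain ⟨f, hf⟩ := (isConj_iff E P Q).1 h
    exact (isConj_iff F P Q).2 ⟨f, hf.mor.of_subsystem hEF, hf.2⟩
  refine saturated_of_gen hS E ℋ (fun P hP Q hQ => hconj P hP Q (hconjEF hQ)) ?_ hgen ?_
  · intro P hP
    obtain ⟨Q, hPQ, hQfn⟩ := hfr.exists_fn_conj (hle P hP)
    have hQH : Q ∈ ℋ := hconj P hP Q (hconjEF hPQ)
    refine ⟨Q, hPQ, fullyAutomized_of_sub hS hF hEF hQfn, ?_⟩
    refine receptive_of hQfn.1 (fun R f hf N hN => ?_)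
    have hfF : Iso F R Q f := ⟨hf.mor.of_subsystem hEF, hf.2⟩
    obtain ⟨f', hf', ef'⟩ := receptive_extend (fullyNormalized_receptive hS hF hQfn) hfF N
      (fun g hg => ((hN g).1 hg).1) (fun g hg => ((hN g).1 hg).2.1)
      (fun g hg => ((hN g).1 hg).2.2)
    obtain ⟨a, ψ, ha, hψ, e⟩ := hfr _ f' hf'
    have hψR : Mor E R ψ := hψ.mor.mono le_sup_left
    obtain ⟨ψ', hψ', hψ'ψ, -⟩ := hψR.iso_img.symm
    have hR'H : img R ψ ∈ ℋ := hconj Q hQH _
      (isConj_trans (isConj_symm hfF.isConj) (hconjEF hψR.iso_img.isConj))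
    have haR' : Mor E (img R ψ) a := by
      refine (hψ'.trans hf).mor.congr (fun y hy => ?_)
      obtain ⟨x, hx, rfl⟩ := hψR.iso_img.surj hy
      show f (ψ' (ψ x)) = a (ψ x)
      rw [hψ'ψ x hx, ← e x (Subgroup.mem_sup_left hx), ef' x hx]
    have haS := hclosed a ha _ hR'H haR'
    refine ⟨a ∘ ψ, (hψ.mor.mono le_sup_right).comp haS (fun x hx =>
      hψ.1.mem (Subgroup.mem_sup_right hx)), fun x hx => ?_⟩
    show a (ψ x) = f x
    rw [← e x (Subgroup.mem_sup_left hx), ef' x hx]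
  · intro P hPc hPH
    have hPcF : F.IsCentric P := (centric_iff_of_frat hEF hfr P).1 hPc
    obtain ⟨Q, hPQ, hQfn⟩ := hfr.exists_fn_conj hPc.1
    obtain ⟨f, hf⟩ := (isConj_iff F P Q).1 (hconjEF hPQ)
    refine ⟨Q, hPQ, fun hcon => hrad P hPcF hPH (OpAut_le_inn_of_conj hf ?_)⟩
    have hOS : OpAut F p Q ≤ autInducedBy S Q :=
      normal_pSubgroup_le_autS (fullyNormalized_fullyAutomized hS hF hQfn) (OpAut_le F p Q)
        (OpAut_normal F p Q) (OpAut_isPGroup F p Q)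
    refine le_trans (le_inf hOS (le_OpAut (hOS.trans (autInducedBy_le_autGroup E hQfn.1))
      (OpAut_isPGroup F p Q) (fun γ hγ ν hν => OpAut_normal F p Q γ (autGroup_mono hEF Q hγ) ν hν)))
      hcon

end Main

end Cfsg.Agent.Lib.Helper87
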