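import Cfsg.Agent.Lib.Helper87.PI7

set_option autoImplicit false

namespace Cfsg.Agent.Lib.Helper87

open Cfsg Cfsg.FusionSystem

variable {Ω : Type*} [Group Ω]

theorem primeIndex_iff {S : Subgroup Ω} (E F : FusionSystem S) (p : ℕ) :
    E.HasPrimeToPIndexIn F p ↔ E.IsSubsystemOf F ∧ ∀ P, P ≤ S → OpP F p P ≤ E.autGroup P := by
  unfold FusionSystem.HasPrimeToPIndexIn
  simp only [OpP_eq]

theorem primeIndex_trans {S : Subgroup Ω} {W X Y : FusionSystem S} {p : ℕ}
    (h1 : W.HasPrimeToPIndexIn X p) (h2 : X.HasPrimeToPIndexIn Y p) : W.HasPrimeToPIndexIn Y p := by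
  rw [primeIndex_iff] at h1 h2 ⊢
  refine ⟨fun P φ hφ => h2.1 P (h1.1 P hφ), fun P hP => (Subgroup.closure_le _).2 ?_⟩
  rintro α ⟨hα, hk⟩
  exact h1.2 P hP (Subgroup.subset_closure ⟨h2.2 P hP (Subgroup.subset_closure ⟨hα, hk⟩), hk⟩)

/-- The `p'`-residual of `Y` is also the `p'`-residual of any saturated subsystem of index prime to `p`. -/
theorem pprime_of_sub {S : Subgroup Ω} {X Y R : FusionSystem S} {p : ℕ} (hXs : X.IsSaturated p)
    (hX : X.HasPrimeToPIndexIn Y p) (hR : Y.IsPPrimeResidual p R) : X.IsPPrimeResidual p R := by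
  have hRX : R.IsSubsystemOf X := hR.2.2 X hXs hX
  refine ⟨hR.1, (primeIndex_iff R X p).2 ⟨hRX, fun P hP => ?_⟩,
    fun W hWs hW => hR.2.2 W hWs (primeIndex_trans hW hX)⟩
  refine le_trans ((Subgroup.closure_le _).2 ?_) (((primeIndex_iff R Y p).1 hR.2.1).2 P hP)
  rintro α ⟨hα, hk⟩
  exact Subgroup.subset_closure ⟨autGroup_mono hX.1 P hα, hk⟩

theorem step_of_eq {S A U : Subgroup Ω} {F : FusionSystem S} {p : ℕ}
    (hA : F.hyperfocalSubgroup p = A) {D D' : FusionSystem A} (hDs : D.IsSaturated p)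
    (hD : D.HasPPowerIndexIn F p) (hD' : D.IsPPrimeResidual p D') {L : FusionSystem U}
    (hL : L.IsResidualLimitOf D' p) : L.IsResidualLimitOf F p := by
  subst hA
  exact IsResidualLimitOf.step F p D D' ⟨hDs, hD⟩ hD' hL

/-- One step of the residual series does not change the residual limits. -/
theorem limit_step_iff {S A U : Subgroup Ω} [Finite S] {p : ℕ} [hp : Fact p.Prime]
    (hS : IsPGroup p S) {F : FusionSystem S} (hF : F.IsSaturated p)
    (hA : F.hyperfocalSubgroup p = A) {D D' : FusionSystem A} (hDs : D.IsSaturated p)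
    (hD : D.HasPPowerIndexIn F p) (hD' : D.IsPPrimeResidual p D') (L : FusionSystem U) :
    L.IsResidualLimitOf F p ↔ L.IsResidualLimitOf D' p := by
  refine ⟨fun hL => ?_, fun hL => step_of_eq hA hDs hD hD' hL⟩
  have hle := hyperfocal_le F p
  cases hL with
  | stable _ _ h1 h2 =>
    have hAS : A = S := hA.symm.trans h1
    have e1 : ∀ P, D.Hom P = F.Hom P := hom_eq_of_pPowerIndex_top hS hF hAS.ge hD
    have e2 : ∀ P, D'.Hom P = F.Hom P := pprime_congr hAS e1 hD' h2
    exact limit_congr hAS.symm (fun P => (e2 P).symm) (IsResidualLimitOf.stable F p h1 h2)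
  | step _ _ D₂ D₂' hD₂ hD₂' hlim₂ =>
    have : Finite (F.hyperfocalSubgroup p) := finite_of_le hle
    have e1 := ppower_congr hA (hS.to_le hle) hD₂.1 hD₂.2 hDs hD
    have e2 := pprime_congr hA e1 hD₂' hD'
    exact limit_congr hA e2 hlim₂

theorem limit_le {T S : Subgroup Ω} {E : FusionSystem T} {F : FusionSystem S} {p : ℕ}
    (h : E.IsResidualLimitOf F p) : E.IsSubsystemOf F := by
  induction h with
  | stable F p h1 h2 => exact fun _ _ h => h
  | step F p D D' hD hD' hlim ih => exact fun P φ hφ => hD.2.1 P (hD'.2.1.1 P (ih P hφ))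

/-- Passing to a saturated subsystem of `p`-power index over a normal subgroup does not change the residual
limits. -/
theorem limit_ppower_iff {S S₁ U : Subgroup Ω} [Finite S] {p : ℕ} [hp : Fact p.Prime]
    (hS : IsPGroup p S) {F : FusionSystem S} (hF : F.IsSaturated p) (hS₁ : S₁ ≤ S)
    (hn : ∀ s ∈ S, ∀ t ∈ S₁, s * t * s⁻¹ ∈ S₁) {F₁ : FusionSystem S₁} (hs : F₁.IsSaturated p)
    (hi : F₁.HasPPowerIndexIn F p) (L : FusionSystem U) :
    L.IsResidualLimitOf F p ↔ L.IsResidualLimitOf F₁ p := by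
  have hle := hyperfocal_le F p
  have hfinA : Finite (F.hyperfocalSubgroup p) := finite_of_le hle
  have hfin₁ : Finite S₁ := finite_of_le hS₁
  have hAp : IsPGroup p (F.hyperfocalSubgroup p) := hS.to_le hle
  obtain ⟨D, hDs, hD⟩ := exists_pPowerIndex (p := p) _ S inferInstance rfl hS F hF _ hle le_rfl
  have hR := isPPrimeResidual_residualSystem hAp hDs
  have hsc := stronglyClosed_of_hyperfocal_le hS hF hS₁ hn hi.2.1
  have hA₁ := hyperfocal_eq_of_pPowerIndex hS hsc hi
  have hD₁ : D.HasPPowerIndexIn F₁ p := by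
    refine ⟨isSubsystemOf_of_mor (subsystem_of_residual_le hAp hDs hD.1 hi.2.1
      (fun P hP => hi.2.2 P (hP.trans hi.2.1))), hA₁.le, fun P hP => ?_⟩
    exact (residual_map_mono p (autGroup_mono hi.1 P)).trans (hD.2.2 P hP)
  rw [limit_step_iff hS hF rfl hDs hD hR L, limit_step_iff (hS.to_le hS₁) hs hA₁ hDs hD₁ hR L]

end Cfsg.Agent.Lib.Helper87
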