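import Cfsg.Agent.Lib.Helper87.RL1

set_option autoImplicit false

namespace Cfsg.Agent.Lib.Helper87

open Cfsg Cfsg.FusionSystem

variable {Ω : Type*} [Group Ω]

theorem fratS_of_primeIndex {S : Subgroup Ω} [Finite S] {p : ℕ} [Fact p.Prime] (hS : IsPGroup p S)
    {D D' : FusionSystem S} (hD : D.IsSaturated p) (hidx : D'.HasPrimeToPIndexIn D p) :
    FratS D' D :=
  frattini_prime_index hS hD (fun P hP => ((primeIndex_iff D' D p).1 hidx).2 P hP.1)

/-- The subsystems of `p`-power index over `H` of `D` and of a subsystem `D'` of index prime to `p`. -/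
theorem primeIndex_of_pPower {S H : Subgroup Ω} [Finite S] {p : ℕ} [Fact p.Prime]
    (hS : IsPGroup p S) {D D' : FusionSystem S} (hD : D.IsSaturated p) (hD' : D'.IsSaturated p)
    (hidx : D'.HasPrimeToPIndexIn D p) (hHS : H ≤ S) (hHn : ∀ s ∈ S, ∀ t ∈ H, s * t * s⁻¹ ∈ H)
    {O X : FusionSystem H} (hOs : O.IsSaturated p) (hO : O.HasPPowerIndexIn D p)
    (hXs : X.IsSaturated p) (hX : X.HasPPowerIndexIn D' p) : X.HasPrimeToPIndexIn O p := by
  have hfinH : Finite H := finite_of_le hHS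
  have hHp : IsPGroup p H := hS.to_le hHS
  have hsc : D.StronglyClosed H := stronglyClosed_of_hyperfocal_le hS hD hHS hHn hO.2.1
  have hsc' : D'.StronglyClosed H := StronglyClosed.of_le hsc hidx.1
  have hXD : X.IsSubsystemOf D := fun P φ hφ => hidx.1 P (hX.1 P hφ)
  have hXO : X.IsSubsystemOf O :=
    isSubsystemOf_of_mor (subsystem_of_residual_le hHp hXs hXD le_rfl hO.2.2)
  rw [primeIndex_iff]
  refine ⟨hXO, fun P hP => (Subgroup.closure_le _).2 ?_⟩
  rintro β ⟨hβO, k, hk⟩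
  show β ∈ X.autGroup P
  have hPS : P ≤ S := hP.trans hHS
  have hβD : β ∈ D.autGroup P := autGroup_mono hO.1 P hβO
  have hβD' : β ∈ D'.autGroup P :=
    ((primeIndex_iff D' D p).1 hidx).2 P hPS (Subgroup.subset_closure ⟨hβD, k, hk⟩)
  obtain ⟨Q, hPQ, hQfn⟩ := (fratS_of_primeIndex hS hD hidx).exists_fn_conj hPS
  obtain ⟨φ, hφ⟩ := (isConj_iff D' P Q).1 hPQ
  obtain ⟨s, hs, f₀, hf₀, e⟩ := decomp_pPowerIndex hS hD' hX hsc' (invF_of_pPowerIndex hHp hXs hX)
    P φ hφ.mor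
  rw [inf_eq_left.2 hP] at hf₀ e
  have hP₁ : img P f₀ = cj s⁻¹ Q := by
    ext y
    rw [hf₀.mem_img, mem_cj, hφ.2, inv_inv]
    constructor
    · rintro ⟨x, hx, rfl⟩
      exact ⟨x, hx, e x hx⟩
    · rintro ⟨x, hx, hxy⟩
      refine ⟨x, hx, ?_⟩
      rw [e x hx] at hxy
      have : f₀ x = s⁻¹ * (s * f₀ x * s⁻¹) * s := by group
      rw [this, hxy]
      group
  set P₁ := img P f₀ with hP₁def
  have hfn : D.IsFullyNormalized P₁ := by
    rw [hP₁]
    exact fullyNormalized_cj hQfn (S.inv_mem hs)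
  have hP₁H : P₁ ≤ H := hf₀.img_le
  have hfinP₁ : Finite P₁ := finite_of_le hfn.1
  have hiX : Iso X P P₁ f₀ := hf₀.iso_img
  have hiO : Iso O P P₁ f₀ := ⟨hf₀.of_subsystem hXO, hiX.2⟩
  have hiD' : Iso D' P P₁ f₀ := ⟨hf₀.of_subsystem hX.1, hiX.2⟩
  set b₁ := MulAut.congr hiX.toMulEquiv β with hb₁
  have hb₁O : b₁ ∈ O.autGroup P₁ := hiO.congr_mem_autGroup hβO
  have hb₁D' : b₁ ∈ D'.autGroup P₁ := hiD'.congr_mem_autGroup hβD'
  have hb₁p : IsPGroup p (Subgroup.zpowers b₁) := by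
    have hord : orderOf b₁ = p ^ k := by
      rw [hb₁, MulEquiv.orderOf_eq]
      exact hk
    rintro ⟨γ, hγ⟩
    obtain ⟨i, rfl⟩ := Subgroup.mem_zpowers_iff.1 hγ
    refine ⟨k, Subtype.ext ?_⟩
    show (b₁ ^ i) ^ (p ^ k) = 1
    rw [← zpow_natCast, ← zpow_mul, mul_comm, zpow_mul, zpow_natCast, ← hord, pow_orderOf_eq_one,
      one_zpow]
  have hauto := fullyAutomized_of_sub hS hD hidx.1 hfn
  have hsyl := (fullyAutomized_iff D' p hfn.1).1 hauto
  obtain ⟨g, hg, hgc⟩ := hsyl.exists_conj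
    ((Subgroup.zpowers_le).2 hb₁D') hb₁p
  have hgb := hgc b₁ (Subgroup.mem_zpowers b₁)
  obtain ⟨R, hR⟩ := hauto.2
  obtain ⟨w, hw, y, hy, egw⟩ := Cfsg.Agent.Lib.Helper2.exists_mul_of_sylow_pResidual R
    (⟨g, hg⟩⁻¹ : D'.autGroup P₁)
  rw [hR] at hy
  have hyS : (y : MulAut P₁) ∈ autInducedBy S P₁ := Subgroup.mem_subgroupOf.1 hy
  have hwX : (w : MulAut P₁) ∈ X.autGroup P₁ := hX.2.2 P₁ hP₁H ⟨w, hw, rfl⟩
  have eg : g = (y : MulAut P₁)⁻¹ * (w : MulAut P₁)⁻¹ := by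
    have h1 : g⁻¹ = (w : MulAut P₁) * (y : MulAut P₁) := congrArg Subtype.val egw
    rw [← inv_inv g, h1, mul_inv_rev]
  have hb₂S : (w : MulAut P₁)⁻¹ * b₁ * (w : MulAut P₁) ∈ autInducedBy S P₁ := by
    have h2 : (w : MulAut P₁)⁻¹ * b₁ * (w : MulAut P₁) =
        (y : MulAut P₁) * (g * b₁ * g⁻¹) * (y : MulAut P₁)⁻¹ := by
      rw [eg]
      group
    rw [h2]
    exact Subgroup.mul_mem _ (Subgroup.mul_mem _ hyS hgb) (Subgroup.inv_mem _ hyS)
  have hwO : (w : MulAut P₁) ∈ O.autGroup P₁ := autGroup_mono hXO P₁ hwX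
  have hb₂ : (w : MulAut P₁)⁻¹ * b₁ * (w : MulAut P₁) ∈ autInducedBy H P₁ := by
    rw [← autS_inf_autE hS hD hOs hO.1 hsc hP₁H hfn]
    exact ⟨hb₂S, Subgroup.mul_mem _ (Subgroup.mul_mem _ (Subgroup.inv_mem _ hwO) hb₁O) hwO⟩
  have hb₁X : b₁ ∈ X.autGroup P₁ := by
    have h3 : b₁ = (w : MulAut P₁) * ((w : MulAut P₁)⁻¹ * b₁ * (w : MulAut P₁)) *
        (w : MulAut P₁)⁻¹ := by group
    rw [h3]
    exact Subgroup.mul_mem _ (Subgroup.mul_mem _ hwX (autInducedBy_le_autGroup X hP₁H hb₂))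
      (Subgroup.inv_mem _ hwX)
  obtain ⟨g₀, hg₀, hgf, -⟩ := hiX.symm
  rw [mem_autGroup_iff X hP]
  refine ((hf₀.comp ((mem_autGroup_iff X hP₁H b₁).1 hb₁X) (fun x hx => hiX.map_mem hx)).comp hg₀.mor
    (fun x hx => autFun_mem b₁ (hiX.map_mem hx))).congr (fun x hx => ?_)
  show g₀ (autFun b₁ (f₀ x)) = _
  rw [hb₁, autFun_congr hiX β hx, hgf _ (autFun_mem β hx)]

/-- Passing to the `p'`-residual does not change the residual limits. -/
theorem limit_pprime_iff {p : ℕ} [hp : Fact p.Prime] :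
    ∀ (n : ℕ) (S : Subgroup Ω), Finite S → Nat.card S = n → IsPGroup p S →
      ∀ D D' : FusionSystem S, D.IsSaturated p → D.IsPPrimeResidual p D' →
      ∀ {U : Subgroup Ω} (L : FusionSystem U),
        L.IsResidualLimitOf D p ↔ L.IsResidualLimitOf D' p := by
  intro n
  induction n using Nat.strong_induction_on with
  | _ n ih =>
  intro S hfin hn hS D D' hD hD' U L
  have hle := hyperfocal_le D p
  have hfinH : Finite (D.hyperfocalSubgroup p) := finite_of_le hle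
  have hHp : IsPGroup p (D.hyperfocalSubgroup p) := hS.to_le hle
  obtain ⟨O, hOs, hO⟩ := exists_pPowerIndex (p := p) _ S hfin rfl hS D hD _ hle le_rfl
  have hR := isPPrimeResidual_residualSystem hHp hOs
  rw [limit_step_iff hS hD rfl hOs hO hR L]
  by_cases hH : D.hyperfocalSubgroup p = S
  · have e1 : ∀ P, O.Hom P = D.Hom P := hom_eq_of_pPowerIndex_top hS hD hH.ge hO
    have e2 := pprime_congr hH e1 hR hD'
    exact ⟨fun h => limit_congr hH e2 h, fun h => limit_congr hH.symm (fun P => (e2 P).symm) h⟩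
  · have hlt : Nat.card (D.hyperfocalSubgroup p) < n := hn ▸ card_lt_of_le_ne le_rfl hle hH
    have hHn : ∀ s ∈ S, ∀ t ∈ D.hyperfocalSubgroup p, s * t * s⁻¹ ∈ D.hyperfocalSubgroup p :=
      fun s hs t ht => hyperfocal_conj_mem D p hs ht
    obtain ⟨X, hXs, hX⟩ := exists_pPowerIndex (p := p) _ S hfin rfl hS D' hD'.1 _ hle
      (hyperfocal_mono le_rfl hD'.2.1.1 p)
    have hXO := primeIndex_of_pPower hS hD hD'.1 hD'.2.1 hle hHn hOs hO hXs hX
    have hRX := pprime_of_sub hXs hXO hR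
    rw [← ih _ hlt _ hfinH rfl hHp X _ hXs hRX L, limit_ppower_iff hS hD'.1 hle hHn hXs hX L]

/-- Passing to a saturated subsystem of index prime to `p` does not change the residual limits. -/
theorem limit_primeIndex_iff {S U : Subgroup Ω} [Finite S] {p : ℕ} [hp : Fact p.Prime]
    (hS : IsPGroup p S) {F F₁ : FusionSystem S} (hF : F.IsSaturated p) (hs : F₁.IsSaturated p)
    (hi : F₁.HasPrimeToPIndexIn F p) (L : FusionSystem U) :
    L.IsResidualLimitOf F p ↔ L.IsResidualLimitOf F₁ p := by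
  have hR := isPPrimeResidual_residualSystem hS hF
  rw [limit_pprime_iff _ S inferInstance rfl hS F _ hF hR L,
    limit_pprime_iff _ S inferInstance rfl hS F₁ _ hs (pprime_of_sub hs hi hR) L]

end Cfsg.Agent.Lib.Helper87
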