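import Cfsg.Agent.Lib.Helper87.RL2

set_option autoImplicit false

namespace Cfsg.Agent.Lib.Helper87

open Cfsg Cfsg.FusionSystem

variable {Ω : Type*} [Group Ω]

/-- Every map of a saturated system is generated by automorphisms of order prime to `p` and conjugations. -/
theorem gen_of_mor {S : Subgroup Ω} [Finite S] {p : ℕ} [Fact p.Prime] (hS : IsPGroup p S)
    {F : FusionSystem S} (hF : F.IsSaturated p) {P : Subgroup Ω} {f : Ω → Ω} (hf : Mor F P f) :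
    Gen F p S P f := by
  obtain ⟨s, hs, f₀, hf₀, e⟩ := dec_of_mor hS hF le_rfl
    (fun s hs t ht => S.mul_mem (S.mul_mem hs ht) (S.inv_mem hs)) P f hf
  have hm := hf₀.mor le_rfl
  exact (hf₀.comp (Gen.conj hm.img_le hs) (fun x hx => (hm.mem_img _).2 ⟨x, hx, rfl⟩)).congr
    (fun x hx => (e x hx).symm)

/-- Pairs (automorphism of `T`, extension to `T C`) satisfying the extension condition. -/
def ExtPairs (T C : Subgroup Ω) : Subgroup (MulAut T × MulAut ↥(T ⊔ C)) where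
  carrier := {q | (∀ x ∈ T, autFun q.2 x = autFun q.1 x) ∧
    ∀ c ∈ C, c⁻¹ * autFun q.2 c ∈ T ⊓ Subgroup.centralizer (T : Set Ω)}
  mul_mem' := by
    rintro ⟨α₁, β₁⟩ ⟨α₂, β₂⟩ ⟨e₁, c₁⟩ ⟨e₂, c₂⟩
    have hT : T ≤ T ⊔ C := le_sup_left
    have hC : C ≤ T ⊔ C := le_sup_right
    refine ⟨fun x hx => ?_, fun c hc => ?_⟩
    · show autFun (β₁ * β₂) x = autFun (α₁ * α₂) x
      rw [autFun_mul _ _ (hT hx), autFun_mul _ _ hx]
      have h2 : autFun β₂ x = autFun α₂ x := e₂ x hx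
      have h1 : autFun β₁ (autFun α₂ x) = autFun α₁ (autFun α₂ x) := e₁ _ (autFun_mem α₂ hx)
      rw [h2, h1]
    · show c⁻¹ * autFun (β₁ * β₂) c ∈ _
      have hc2 : c⁻¹ * autFun β₂ c ∈ T ⊓ Subgroup.centralizer (T : Set Ω) := c₂ c hc
      have hc1 : c⁻¹ * autFun β₁ c ∈ T ⊓ Subgroup.centralizer (T : Set Ω) := c₁ c hc
      have h1 : autFun β₂ c = c * (c⁻¹ * autFun β₂ c) := by group
      have h3 : autFun β₁ (c⁻¹ * autFun β₂ c) = autFun α₁ (c⁻¹ * autFun β₂ c) := e₁ _ hc2.1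
      rw [autFun_mul _ _ (hC hc), h1, autFun_map_mul β₁ (hC hc) (hT hc2.1), ← mul_assoc, h3]
      exact Subgroup.mul_mem _ hc1 (aut_center_mem α₁ hc2)
  one_mem' := by
    refine ⟨fun x hx => ?_, fun c hc => ?_⟩
    · show autFun (1 : MulAut ↥(T ⊔ C)) x = autFun (1 : MulAut T) x
      rw [autFun_one hx, autFun_one ((le_sup_left : T ≤ T ⊔ C) hx)]
    · show c⁻¹ * autFun (1 : MulAut ↥(T ⊔ C)) c ∈ _
      rw [autFun_one ((le_sup_right : _ ≤ T ⊔ C) hc)]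
      simp
  inv_mem' := by
    rintro ⟨α, β⟩ ⟨e, c'⟩
    have hT : T ≤ T ⊔ C := le_sup_left
    have hC : C ≤ T ⊔ C := le_sup_right
    replace e : ∀ x ∈ T, autFun β x = autFun α x := e
    replace c' : ∀ c ∈ C, c⁻¹ * autFun β c ∈ T ⊓ Subgroup.centralizer (T : Set Ω) := c'
    have e' : ∀ x ∈ T, autFun β⁻¹ x = autFun α⁻¹ x := by
      intro x hx
      have h1 := e _ (autFun_mem α⁻¹ hx)
      rw [autFun_autFun_inv α hx] at h1
      conv_lhs => rw [← h1]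
      rw [autFun_inv_autFun β (hT (autFun_mem α⁻¹ hx))]
    refine ⟨e', fun c hc => ?_⟩
    show c⁻¹ * autFun β⁻¹ c ∈ _
    have h1 : autFun β c = c * (c⁻¹ * autFun β c) := by group
    have h2 := autFun_inv_autFun β (hC hc)
    rw [h1, autFun_map_mul β⁻¹ (hC hc) (hT (c' c hc).1), e' _ (c' c hc).1] at h2
    have h3 : c⁻¹ * autFun β⁻¹ c = (autFun α⁻¹ (c⁻¹ * autFun β c))⁻¹ := by
      rw [eq_inv_iff_mul_eq_one, mul_assoc, h2]
      group
    rw [h3]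
    exact Subgroup.inv_mem _ (aut_center_mem α⁻¹ (c' c hc))

/-- The automorphisms of `T` with a good extension in `B`. -/
def ExtGoodIn (T C : Subgroup Ω) (B : Subgroup (MulAut ↥(T ⊔ C))) : Subgroup (MulAut T) :=
  (ExtPairs T C ⊓ (⊤ : Subgroup (MulAut T)).prod B).map (MonoidHom.fst _ _)

theorem mem_extGoodIn {T C : Subgroup Ω} {B : Subgroup (MulAut ↥(T ⊔ C))} {α : MulAut T} :
    α ∈ ExtGoodIn T C B ↔ ∃ β ∈ B, (α, β) ∈ ExtPairs T C := by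
  constructor
  · rintro ⟨⟨a, β⟩, ⟨h1, h2⟩, rfl⟩
    exact ⟨β, h2.2, h1⟩
  · rintro ⟨β, hβ, h⟩
    exact ⟨(α, β), ⟨h, Subgroup.mem_top _, hβ⟩, rfl⟩

theorem congr_mem_res_of_strong {S T : Subgroup Ω} {F : FusionSystem S} {E : FusionSystem T} {p : ℕ}
    (hst : StrongInvF E F) {R U : Subgroup Ω} {ρ : Ω → Ω} (hρ : Iso F R U ρ) (hR : R ≤ T)
    (hU : U ≤ T) {β : MulAut R} (hβ : β ∈ ResA E p R) :
    MulAut.congr hρ.toMulEquiv β ∈ ResA E p U := by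
  unfold ResA at hβ ⊢
  rw [Cfsg.Agent.Lib.Helper2.map_pResidual_subtype] at hβ ⊢
  induction hβ using Subgroup.closure_induction with
  | mem x hx =>
    refine Subgroup.subset_closure ⟨congr_mem_autGroup_of_strong hst hρ hR hU hx.1, ?_⟩
    rw [MulEquiv.orderOf_eq]
    exact hx.2
  | one => rw [map_one]; exact Subgroup.one_mem _
  | mul a b _ _ iha ihb => rw [map_mul]; exact Subgroup.mul_mem _ iha ihb
  | inv a _ iha => rw [map_inv]; exact Subgroup.inv_mem _ iha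

/-- Invariance of a saturated system under `Aut_F(T)`, checked on `O^p` of the automizers. -/
theorem invF_of_residual {S T : Subgroup Ω} [Finite T] {p : ℕ} [Fact p.Prime]
    (hT : IsPGroup p T) {F : FusionSystem S} {E : FusionSystem T} (hEs : E.IsSaturated p)
    (hres : ∀ (a : Ω → Ω), Iso F T T a → ∀ (U X : Subgroup Ω), U ≤ T → ∀ hiso : Iso F U X a,
      ∀ w ∈ ResA E p U, MulAut.congr hiso.toMulEquiv w ∈ E.autGroup X) : InvF E F := by
  intro P f hf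
  have hg := gen_of_mor hT hEs hf
  clear hf
  induction hg with
  | @aut R hR α hα hc =>
    intro a ha X hX
    have hiso : Iso F R X a := ⟨ha.mor.mono hR, hX⟩
    have hXT : X ≤ T := by
      intro y hy
      obtain ⟨x, hx, rfl⟩ := (hX y).1 hy
      exact ha.map_mem (hR hx)
    have h1 := hres a ha R X hR hiso α (coprime_mem_residual_map hα hc)
    exact ⟨_, (mem_autGroup_iff E hXT _).1 h1, fun x hx => autFun_congr hiso α hx⟩
  | @conj R hR t ht =>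
    intro a ha X hX
    have hXT : X ≤ T := by
      intro y hy
      obtain ⟨x, hx, rfl⟩ := (hX y).1 hy
      exact ha.map_mem (hR hx)
    exact ⟨_, mor_conj E hXT (ha.map_mem ht), fun x hx => (ha.mor.map_conj ht (hR hx)).symm⟩
  | @mono R P f hf hPR ih =>
    intro a ha X hX
    have hRT : R ≤ T := (hf.mor le_rfl).le
    obtain ⟨χ, hχ, e'⟩ := ih a ha (img R a) ((ha.mor.mono hRT).mem_img)
    refine ⟨χ, hχ.mono (fun y hy => ?_), fun x hx => e' x (hPR hx)⟩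
    obtain ⟨x, hx, rfl⟩ := (hX y).1 hy
    exact ((ha.mor.mono hRT).mem_img _).2 ⟨x, hPR hx, rfl⟩
  | @comp P Q f g hf hg hPQ ih1 ih2 =>
    intro a ha X hX
    have hQT : Q ≤ T := (hg.mor le_rfl).le
    obtain ⟨χ, hχ, e⟩ := ih1 a ha X hX
    obtain ⟨χ', hχ', e'⟩ := ih2 a ha (img Q a) ((ha.mor.mono hQT).mem_img)
    refine ⟨χ' ∘ χ, hχ.comp hχ' (fun y hy => ?_), fun x hx => ?_⟩
    · obtain ⟨x, hx, rfl⟩ := (hX y).1 hy
      rw [e x hx]
      exact ((ha.mor.mono hQT).mem_img _).2 ⟨f x, hPQ x hx, rfl⟩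
    · show χ' (χ (a x)) = a (g (f x))
      rw [e x hx, e' _ (hPQ x hx)]
  | @congr P f g hf e ih =>
    intro a ha X hX
    obtain ⟨χ, hχ, e'⟩ := ih a ha X hX
    exact ⟨χ, hχ, fun x hx => by rw [e' x hx, e x hx]⟩

theorem extF_of_centralizer_le {S S₂ : Subgroup Ω} {D : FusionSystem S₂} {F : FusionSystem S}
    (hDF : D.IsSubsystemOf F) (hC : centralizerIn S S₂ ≤ S₂) : ExtF D F := by
  intro a ha
  have haF : Iso F S₂ S₂ a := ⟨ha.mor.of_subsystem hDF, ha.2⟩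
  refine ⟨a, ?_, fun _ _ => rfl, fun c hc => ?_⟩
  · rw [sup_eq_left.2 hC]
    exact haF
  · have h1 := haF.mor.map_mem_centralizerIn le_rfl haF.2 (hC hc) ((mem_centralizerIn_iff S S₂ c).1 hc).2
    exact Subgroup.mul_mem _ (Subgroup.inv_mem _ ⟨hC hc, hc.2⟩) ⟨hC h1, h1.2⟩

theorem fratF_trans {S S₁ S₂ : Subgroup Ω} [Finite S₂] {F : FusionSystem S} {F₁ : FusionSystem S₁}
    {F₂ : FusionSystem S₂} (h₂₁ : S₂ ≤ S₁) (hsub : F₁.IsSubsystemOf F) (h1 : FratF F₁ F)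
    (h2 : FratF F₂ F₁) (hstab : ∀ a, Iso F S₁ S₁ a → ∀ x ∈ S₂, a x ∈ S₂) : FratF F₂ F := by
  intro P f hP hf
  obtain ⟨a, f₁, ha, hf₁, e⟩ := h1 P f (hP.trans h₂₁) hf
  obtain ⟨b, f₂, hb, hf₂, e'⟩ := h2 P f₁ hP hf₁
  have ha₂ : Iso F S₂ S₂ a := (ha.mor.mono h₂₁).iso_self (hstab a ha)
  have hbF : Iso F S₂ S₂ b := ⟨hb.mor.of_subsystem hsub, hb.2⟩
  exact ⟨a ∘ b, f₂, hbF.trans ha₂, hf₂, fun x hx => by rw [e x hx, e' x hx]; rfl⟩

theorem sc_trans {S S₁ S₂ : Subgroup Ω} {F : FusionSystem S} {F₁ : FusionSystem S₁}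
    (hsc₁ : F.StronglyClosed S₁) (h1 : FratF F₁ F) (hsc₂ : F₁.StronglyClosed S₂)
    (hstab : ∀ a, Iso F S₁ S₁ a → ∀ x ∈ S₂, a x ∈ S₂) : F.StronglyClosed S₂ := by
  rw [stronglyClosed_iff]
  refine ⟨hsc₂.1.trans hsc₁.1, fun R f hf x hx hx₂ => ?_⟩
  obtain ⟨a, f₁, ha, hf₁, e⟩ := h1 (R ⊓ S₁) f inf_le_right (hf.mono inf_le_left)
  rw [e x ⟨hx, hsc₂.1 hx₂⟩]
  exact hstab a ha _ (StronglyClosed.map_mem hsc₂ hf₁ ⟨hx, hsc₂.1 hx₂⟩ hx₂)

/-- Transitivity of normality for invariant subsystems containing their centralizer. -/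
theorem normal_trans {S S₁ S₂ : Subgroup Ω} [Finite S] {p : ℕ} {F : FusionSystem S}
    {F₁ : FusionSystem S₁} {F₂ : FusionSystem S₂} (h1 : F₁.IsNormalIn F p)
    (h2 : F₂.IsNormalIn F₁ p) (hstab : ∀ a, Iso F S₁ S₁ a → ∀ x ∈ S₂, a x ∈ S₂)
    (hinv : InvF F₂ F) (hC : centralizerIn S S₂ ≤ S₂) : F₂.IsNormalIn F p := by
  obtain ⟨-, a2, a3, a4, -, a6, -⟩ := (isNormalIn_iff F₁ F p).1 h1
  obtain ⟨b1, -, b3, b4, -, b6, -⟩ := (isNormalIn_iff F₂ F₁ p).1 h2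
  have : Finite S₂ := finite_of_le (b4.1.trans a4.1)
  have hsub : F₂.IsSubsystemOf F := fun P φ hφ => a3 P (b3 P hφ)
  exact (isNormalIn_iff F₂ F p).2 ⟨b1, a2, hsub, sc_trans a4 a6 b4 hstab, hinv,
    fratF_trans b4.1 a3 a6 b6 hstab, extF_of_centralizer_le hsub hC⟩

end Cfsg.Agent.Lib.Helper87
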