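import Cfsg.Agent.Lib.Helper87.RL3

set_option autoImplicit false

namespace Cfsg.Agent.Lib.Helper87

open Cfsg Cfsg.FusionSystem

variable {Ω : Type*} [Group Ω]

theorem NK_mono {S U : Subgroup Ω} {K₁ K₂ : Subgroup (MulAut U)} (h : K₁ ≤ K₂) :
    NK S U K₁ ≤ NK S U K₂ := by
  rintro n ⟨hn, κ, hκ, e⟩
  exact ⟨hn, κ, h hκ, e⟩

theorem NK_stab {S S' T : Subgroup Ω} [Finite T] {F : FusionSystem S} (hscT : F.StronglyClosed T)
    (hTS' : T ≤ S') {K : Subgroup (MulAut T)}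
    (hKn : ∀ α ∈ F.autGroup T, ∀ κ ∈ K, α * κ * α⁻¹ ∈ K) {a : Ω → Ω} (ha : Iso F S' S' a) {x : Ω}
    (hx : x ∈ NK S' T K) : a x ∈ NK S' T K := by
  obtain ⟨hxS', κ, hκ, e⟩ := hx
  have haT : Iso F T T a := (ha.mor.mono hTS').iso_self
    (fun t ht => StronglyClosed.map_mem hscT ha.mor (hTS' ht) ht)
  obtain ⟨α, hα, eα⟩ := haT.exists_aut
  refine ⟨ha.map_mem hxS', α * κ * α⁻¹, hKn α hα κ hκ, fun y => ?_⟩
  have h1 : (((α * κ * α⁻¹) y : T) : Ω) = a ((κ (α⁻¹ y) : T) : Ω) := by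
    rw [← eα]
    rfl
  rw [h1, e, ha.mor.map_conj hxS' (hTS' (Subtype.prop _)), ← eα, MulAut.apply_inv_self]

/-- The automizer of `T` in the subsystem of `p`-power index over `N_S^K(T)`. -/
theorem autGroup_eq_of_NK {S' S₂ T : Subgroup Ω} [Finite S'] {p : ℕ} [Fact p.Prime]
    (hS' : IsPGroup p S') {F' : FusionSystem S'} (hF' : F'.IsSaturated p) (hTS' : T ≤ S')
    (hTn : S' ≤ Subgroup.normalizer (T : Set Ω)) {K : Subgroup (MulAut T)}
    (hK : K ≤ F'.autGroup T) (hres : ResA F' p T ≤ K) (hS₂ : S₂ = NK S' T K) (hTS₂ : T ≤ S₂)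
    {F₂ : FusionSystem S₂} (hF₂ : F₂.IsSaturated p) (hi : F₂.HasPPowerIndexIn F' p) :
    F₂.autGroup T = K := by
  have hS₂S' : S₂ ≤ S' := by
    rw [hS₂]
    exact (NK_le_normalizerIn S' T K).trans (normalizerIn_le S' T)
  have : Finite S₂ := finite_of_le hS₂S'
  apply le_antisymm
  · intro α hα
    obtain ⟨w, hw, s, hs, e⟩ := aut_eq_residual_mul_conj (fullyNormalized_fullyAutomized
      (hS'.to_le hS₂S') hF₂ (fullyNormalized_of_normal F₂ hTS₂ (hS₂S'.trans hTn))) hα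
    have hsS₂ : s ∈ S₂ := normalizerIn_le S₂ T hs
    rw [hS₂] at hsS₂
    obtain ⟨-, κ, hκ, eκ⟩ := hsS₂
    have h1 : α = (w : MulAut T) * κ := by
      ext x
      rw [e x, MulAut.mul_apply, ← autFun_coe, eκ]
    rw [h1]
    exact K.mul_mem (hres (residual_map_mono p (autGroup_mono hi.1 T) ⟨w, hw, rfl⟩)) hκ
  · intro κ hκ
    obtain ⟨w, hw, s, hs, e⟩ := aut_eq_residual_mul_conj (fullyNormalized_fullyAutomized
      hS' hF' (fullyNormalized_of_normal F' hTS' hTn)) (hK hκ)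
    have hwK : (w : MulAut T) ∈ K := hres ⟨w, hw, rfl⟩
    have hw₂ : (w : MulAut T) ∈ F₂.autGroup T := hi.2.2 T hTS₂ ⟨w, hw, rfl⟩
    have hsS₂ : s ∈ S₂ := by
      rw [hS₂]
      refine ⟨normalizerIn_le S' T hs, (w : MulAut T)⁻¹ * κ, K.mul_mem (K.inv_mem hwK) hκ,
        fun x => ?_⟩
      have hsx : s * x * s⁻¹ ∈ T := (((mem_normalizerIn_iff S' T s).1 hs).2 x).1 x.2
      have h2 : κ x = (w : MulAut T) ⟨s * x * s⁻¹, hsx⟩ := by
        apply Subtype.ext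
        rw [e x, autFun_apply _ hsx]
      rw [MulAut.mul_apply, h2, MulAut.inv_apply_self]
    rw [mem_autGroup_iff F₂ hTS₂]
    refine ((mor_conj F₂ hTS₂ hsS₂).comp ((mem_autGroup_iff F₂ hTS₂ _).1 hw₂) (fun x hx =>
      (((mem_normalizerIn_iff S' T s).1 hs).2 x).1 hx)).congr (fun x hx => ?_)
    rw [autFun_apply κ hx, e]
    rfl

/-- The Frattini condition for `E` in a smaller saturated system. -/
theorem fratF_of_smaller {S' S₂ T : Subgroup Ω} [Finite S'] {p : ℕ} [Fact p.Prime]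
    (hS' : IsPGroup p S') {F' : FusionSystem S'} {E : FusionSystem T}
    (hscT : F'.StronglyClosed T) (hinv : InvF E F') (hfrat : FratF E F') (hS₂S' : S₂ ≤ S')
    (hTS₂ : T ≤ S₂) {F₂ : FusionSystem S₂} (hF₂ : F₂.IsSaturated p) (hsub : F₂.IsSubsystemOf F')
    (hcop : ∀ κ ∈ F'.autGroup T, Nat.Coprime (orderOf κ) p → κ ∈ F₂.autGroup T) : FratF E F₂ := by
  have hfin₂ : Finite S₂ := finite_of_le hS₂S'
  have hfinT : Finite T := finite_of_le hscT.1
  have hsc₂ : F₂.StronglyClosed T := ⟨hTS₂, fun R hR φ hφ x => hscT.2 R hR φ (hsub R hφ) x⟩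
  have hinv₂ : InvF E F₂ := fun P f hf a ha X hX =>
    hinv P f hf a ⟨ha.mor.of_subsystem hsub, ha.2⟩ X hX
  have key : ∀ (P : Subgroup Ω) (f : Ω → Ω), Gen F₂ p S₂ P f →
      ∃ a f₀, Iso F₂ T T a ∧ Mor E (P ⊓ T) f₀ ∧ ∀ x ∈ P ⊓ T, f x = a (f₀ x) := by
    intro P f hg
    induction hg with
    | @aut R hR α hα hc =>
      have hαm := (mem_autGroup_iff F₂ hR α).1 hα
      have : Finite (R ⊓ T : Subgroup Ω) := finite_of_le (inf_le_right.trans hscT.1)
      obtain ⟨b, hb, eb, hord⟩ := restrict_aut hR inf_le_left hα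
        (fun t ht => ⟨autFun_mem α ht.1, StronglyClosed.map_mem hsc₂ hαm ht.1 ht.2⟩)
      have hbc : Nat.Coprime (orderOf b) p := Nat.Coprime.coprime_dvd_left hord hc
      have hR₀ : R ⊓ T ≤ S₂ := inf_le_left.trans hR
      have hbm : Mor F' (R ⊓ T) (autFun b) := ((mem_autGroup_iff F₂ hR₀ b).1 hb).of_subsystem hsub
      obtain ⟨a', e₀, ha', he₀, e⟩ := hfrat _ _ inf_le_right hbm
      obtain ⟨κ, hκ, eκ⟩ := ha'.exists_aut
      obtain ⟨j, hj1, hj2⟩ := exists_pow_coprime hbc (orderOf_pos κ)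
      obtain ⟨eⱼ, heⱼ, ee⟩ := pow_decomp hscT.1 hinv hκ he₀ (β := b) (fun x hx => by
        rw [e x hx, autFun_apply κ (he₀.mem hx), eκ]) j
      have hκj := hcop _ (Subgroup.pow_mem _ hκ j) hj1
      refine ⟨_, eⱼ, iso_autFun ((mem_autGroup_iff F₂ hTS₂ _).1 hκj), heⱼ, fun x hx => ?_⟩
      rw [← ee x hx, hj2, autFun_apply b hx, eb]
    | @conj R hR t ht =>
      exact ⟨_, id, iso_conj_T F₂ hTS₂ (fun s hs t ht => StronglyClosed.conj_mem hsc₂ hs ht) ht,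
        mor_id E inf_le_right, fun _ _ => rfl⟩
    | @mono R P f _ hPR ih =>
      obtain ⟨a, f₀, ha, hf₀, e⟩ := ih
      exact ⟨a, f₀, ha, hf₀.mono (inf_le_inf_right T hPR), fun x hx => e x ⟨hPR hx.1, hx.2⟩⟩
    | @comp P Q f g _ _ hPQ ih1 ih2 =>
      obtain ⟨a, f₀, ha, hf₀, e⟩ := ih1
      obtain ⟨b, g₀, hb, hg₀, e'⟩ := ih2
      obtain ⟨a', ha', ha'a, haa'⟩ := ha.symm
      have ha'Q := ha'.mor.mono (inf_le_right : Q ⊓ T ≤ T)
      obtain ⟨χ, hχ, hc⟩ := hinv₂ _ g₀ hg₀ a' ha' (img (Q ⊓ T) a') ha'Q.mem_img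
      have hfx : ∀ x ∈ P ⊓ T, f x ∈ Q ⊓ T := fun x hx =>
        ⟨hPQ x hx.1, by rw [e x hx]; exact ha.map_mem (hf₀.mem hx)⟩
      have h1 : ∀ x ∈ P ⊓ T, a' (f x) = f₀ x := fun x hx => by
        rw [e x hx, ha'a _ (hf₀.mem hx)]
      refine ⟨b ∘ a, χ ∘ f₀, ha.trans hb, hf₀.comp hχ (fun x hx => ?_), fun x hx => ?_⟩
      · rw [← h1 x hx]
        exact (ha'Q.mem_img _).2 ⟨_, hfx x hx, rfl⟩
      · show g (f x) = b (a (χ (f₀ x)))
        rw [← h1 x hx, hc _ (hfx x hx), haa' _ (hg₀.mem (hfx x hx)), e' _ (hfx x hx)]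
    | @congr P f g _ e ih =>
      obtain ⟨a, f₀, ha, hf₀, e'⟩ := ih
      exact ⟨a, f₀, ha, hf₀, fun x hx => by rw [← e x hx.1, e' x hx]⟩
  intro P f hP hf
  have := key P f (gen_of_mor (hS'.to_le hS₂S') hF₂ hf)
  rwa [inf_eq_left.2 hP] at this

/-- The extension condition for `E` in a subsystem of `p`-power index. -/
theorem extF_of_pPower {S' S₂ T : Subgroup Ω} [Finite S'] {p : ℕ} [Fact p.Prime]
    (hS' : IsPGroup p S') {F' : FusionSystem S'} {E : FusionSystem T} (hEs : E.IsSaturated p)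
    (hTS' : T ≤ S') (hext : ExtF E F') (hXS₂ : T ⊔ centralizerIn S' T ≤ S₂) (hS₂S' : S₂ ≤ S')
    {F₂ : FusionSystem S₂} (hi : F₂.HasPPowerIndexIn F' p) : ExtF E F₂ := by
  have hfinT : Finite T := finite_of_le hTS'
  have hTp : IsPGroup p T := hS'.to_le hTS'
  have hXS' : T ⊔ centralizerIn S' T ≤ S' := hXS₂.trans hS₂S'
  have hfinX : Finite (T ⊔ centralizerIn S' T : Subgroup Ω) := finite_of_le hXS'
  have hCeq : centralizerIn S₂ T = centralizerIn S' T := by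
    apply le_antisymm
    · exact fun c hc => ⟨hS₂S' hc.1, hc.2⟩
    · exact fun c hc => ⟨hXS₂ ((le_sup_right : _ ≤ T ⊔ centralizerIn S' T) hc), hc.2⟩
  have hTX : T ≤ T ⊔ centralizerIn S' T := le_sup_left
  have hle : E.autGroup T ≤
      ExtGoodIn T (centralizerIn S' T) (F₂.autGroup (T ⊔ centralizerIn S' T)) := by
    intro α hα
    obtain ⟨w, hw, t, ht, e⟩ := aut_eq_residual_mul_conj
      (fullyNormalized_fullyAutomized hTp hEs (fullyNormalized_top E)) hα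
    have htT : t ∈ T := (normalizerIn_le T T) ht
    have h1 : (w : MulAut T) ∈
        ExtGoodIn T (centralizerIn S' T) (F₂.autGroup (T ⊔ centralizerIn S' T)) := by
      have h2 : (w : MulAut T) ∈ (pResidual p (E.autGroup T)).map (E.autGroup T).subtype :=
        ⟨w, hw, rfl⟩
      rw [Cfsg.Agent.Lib.Helper2.map_pResidual_subtype] at h2
      refine (Subgroup.closure_le _).2 ?_ h2
      rintro a ⟨ha, hc⟩
      obtain ⟨b, hb, e1, e2⟩ := hext _ (iso_autFun ((mem_autGroup_iff E le_rfl a).1 ha))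
      obtain ⟨β, hβ, eβ⟩ := hb.exists_aut
      have hpair : (a, β) ∈ ExtPairs T (centralizerIn S' T) := by
        refine ⟨fun x hx => ?_, fun c hc => ?_⟩
        · show autFun β x = autFun a x
          rw [autFun_apply β (hTX hx), eβ]
          exact e1 x hx
        · show c⁻¹ * autFun β c ∈ _
          rw [autFun_apply β ((le_sup_right : _ ≤ T ⊔ centralizerIn S' T) hc), eβ]
          exact e2 c hc
      obtain ⟨j, hj1, hj2⟩ := exists_pow_coprime hc (orderOf_pos β)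
      have hpj := Subgroup.pow_mem _ hpair j
      rw [Prod.pow_mk, hj2] at hpj
      exact mem_extGoodIn.2 ⟨β ^ j, hi.2.2 _ hXS₂
        (coprime_mem_residual_map (Subgroup.pow_mem _ hβ j) hj1), hpj⟩
    have h3 : α = (w : MulAut T) *
        ((conjToAut T T ⟨t, htT, Subgroup.le_normalizer htT⟩ : autInducedBy T T) : MulAut T) := by
      ext x
      rw [e x, MulAut.mul_apply, ← autFun_coe]
      rfl
    rw [h3]
    refine Subgroup.mul_mem _ h1 (mem_extGoodIn.2 ?_)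
    have htX : t ∈ T ⊔ centralizerIn S' T := hTX htT
    refine ⟨((conjToAut (T ⊔ centralizerIn S' T) (T ⊔ centralizerIn S' T)
      ⟨t, htX, Subgroup.le_normalizer htX⟩ : autInducedBy _ _) : MulAut _), ?_, ?_, ?_⟩
    · refine autInducedBy_le_autGroup F₂ hXS₂ ?_
      rw [mem_autInducedBy_iff]
      exact ⟨t, hXS₂ htX, fun _ => rfl⟩
    · intro x hx
      show autFun _ x = autFun _ x
      rw [autFun_apply _ (hTX hx), autFun_apply _ hx]
      rfl
    · intro c hc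
      show c⁻¹ * autFun _ c ∈ _
      rw [autFun_apply _ ((le_sup_right : _ ≤ T ⊔ centralizerIn S' T) hc)]
      show c⁻¹ * (t * c * t⁻¹) ∈ _
      have := ((mem_centralizerIn_iff S' T c).1 hc).2 t htT
      rw [this]
      simp
  intro a ha
  rw [hCeq]
  obtain ⟨α, hα, eα⟩ := ha.exists_aut
  obtain ⟨β, hβ, h1, h2⟩ := mem_extGoodIn.1 (hle hα)
  refine ⟨autFun β, iso_autFun ((mem_autGroup_iff F₂ hXS₂ β).1 hβ), fun x hx => ?_, h2⟩
  have : autFun β x = autFun α x := h1 x hx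
  rw [this, autFun_apply α hx, eα]

end Cfsg.Agent.Lib.Helper87
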