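import Cfsg.Agent.Lib.Helper87.RL4

set_option autoImplicit false

namespace Cfsg.Agent.Lib.Helper87

open Cfsg Cfsg.FusionSystem

variable {Ω : Type*} [Group Ω]

/-- A stage of the descent from `F` to the subsystem with automizer `Aut_E(T)` on `T`. -/
structure Stage {S T : Subgroup Ω} (E : FusionSystem T) (F : FusionSystem S) (p : ℕ)
    (K : Subgroup (MulAut T)) (S' : Subgroup Ω) (F' : FusionSystem S') : Prop where
  le : T ⊔ centralizerIn S T ≤ S'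
  nF : F'.IsNormalIn F p
  nE : E.IsNormalIn F' p
  aut : F'.autGroup T = K
  lim : ∀ {U : Subgroup Ω} (L : FusionSystem U), L.IsResidualLimitOf F p → L.IsResidualLimitOf F' p

theorem centralizerIn_le_of_le {S S₂ T : Subgroup Ω} (hTS₂ : T ≤ S₂)
    (h : T ⊔ centralizerIn S T ≤ S₂) : centralizerIn S S₂ ≤ S₂ := by
  intro c hc
  refine h ((le_sup_right : _ ≤ T ⊔ centralizerIn S T) ?_)
  rw [mem_centralizerIn_iff] at hc ⊢
  exact ⟨hc.1, fun x hx => hc.2 x (hTS₂ hx)⟩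

/-- The step through a factor which is a `p`-group. -/
theorem Stage.pstep {S T : Subgroup Ω} [Finite S] {p : ℕ} [Fact p.Prime] (hS : IsPGroup p S)
    {E : FusionSystem T} {F : FusionSystem S} (hE : E.IsNormalIn F p)
    {K K' : Subgroup (MulAut T)} {S' : Subgroup Ω} {F' : FusionSystem S'}
    (st : Stage E F p K' S' F') (hA₀ : E.autGroup T ≤ K) (hKK' : K ≤ K')
    (hKn : ∀ α ∈ F.autGroup T, ∀ κ ∈ K, α * κ * α⁻¹ ∈ K)
    (hcop : ∀ x ∈ K', Nat.Coprime (orderOf x) p → x ∈ K) :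
    ∃ (S₂ : Subgroup Ω) (F₂ : FusionSystem S₂), Stage E F p K S₂ F₂ := by
  obtain ⟨a1, a2, a3, a4, a5, a6, a7⟩ := (isNormalIn_iff F' F p).1 st.nF
  obtain ⟨b1, -, b3, b4, b5, b6, b7⟩ := (isNormalIn_iff E F' p).1 st.nE
  obtain ⟨-, -, -, c4, -, -, -⟩ := (isNormalIn_iff E F p).1 hE
  have hS'S : S' ≤ S := a4.1
  have hfin' : Finite S' := finite_of_le hS'S
  have hS' : IsPGroup p S' := hS.to_le hS'S
  have hTS' : T ≤ S' := b4.1
  have hfinT : Finite T := finite_of_le c4.1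
  have hres : ResA F' p T ≤ K := by
    unfold ResA
    rw [Cfsg.Agent.Lib.Helper2.map_pResidual_subtype]
    refine (Subgroup.closure_le _).2 ?_
    rintro x ⟨hx, hc⟩
    exact hcop x (st.aut ▸ hx) hc
  have hinn : Inn T ≤ K := by
    rw [inn_eq_autInducedBy]
    exact (autInducedBy_le_autGroup E le_rfl).trans hA₀
  have hS₂S' : NK S' T K ≤ S' := (NK_le_normalizerIn S' T K).trans (normalizerIn_le S' T)
  have hstab : ∀ a, Iso F S' S' a → ∀ x ∈ NK S' T K, a x ∈ NK S' T K :=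
    fun a ha x hx => NK_stab c4 hTS' hKn ha hx
  have hS₂n : ∀ s ∈ S', ∀ t ∈ NK S' T K, s * t * s⁻¹ ∈ NK S' T K := fun s hs t ht =>
    hstab _ (iso_conj_T F hS'S (fun s hs t ht => StronglyClosed.conj_mem a4 hs ht) (hS'S hs)) t ht
  have hhyp : F'.hyperfocalSubgroup p ≤ NK S' T K :=
    (hyperfocal_le_NK hS' a1 b4).trans (NK_mono (sup_le hres hinn))
  obtain ⟨F₂, hF₂s, hF₂i⟩ := exists_pPowerIndex (p := p) _ S' hfin' rfl hS' F' a1 _ hS₂S' hhyp
  have hn₂ := normal_of_pPowerIndex hS' a1 hS₂S' hS₂n hhyp hF₂s hF₂i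
  have hCle : centralizerIn S T ≤ NK S' T K := by
    intro c hc
    refine ⟨st.le ((le_sup_right : _ ≤ T ⊔ centralizerIn S T) hc), 1, K.one_mem, fun x => ?_⟩
    have := ((mem_centralizerIn_iff S T c).1 hc).2 x x.2
    show (x : Ω) = c * x * c⁻¹
    rw [← this]
    group
  have hTS₂ : T ≤ NK S' T K := le_NK_inn hTS' K hinn
  have hle₂ : T ⊔ centralizerIn S T ≤ NK S' T K := sup_le hTS₂ hCle
  have hX' : T ⊔ centralizerIn S' T ≤ NK S' T K :=
    sup_le hTS₂ (fun c hc => hCle ⟨hS'S hc.1, hc.2⟩)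
  have haut : F₂.autGroup T = K :=
    autGroup_eq_of_NK hS' a1 hTS' (StronglyClosed.le_normalizer b4) (st.aut ▸ hKK') hres rfl hTS₂
      hF₂s hF₂i
  have hTp : IsPGroup p T := hS.to_le c4.1
  have hEF₂ : E.IsSubsystemOf F₂ := isSubsystemOf_of_mor (subsystem_of_residual_le hTp b1 b3 hTS₂
    (fun P hP => hF₂i.2.2 P (hP.trans hTS₂)))
  have hfin₂ : Finite (NK S' T K) := finite_of_le hS₂S'
  refine ⟨NK S' T K, F₂, hle₂, ?_, ?_, haut, fun L hL => ?_⟩
  · refine normal_trans st.nF hn₂ hstab ?_ (centralizerIn_le_of_le hTS₂ hle₂)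
    refine invF_of_residual (hS'.to_le hS₂S') hF₂s (fun a ha U X hU hiso w hw => ?_)
    have hXS₂ : X ≤ NK S' T K := by
      intro y hy
      obtain ⟨x, hx, rfl⟩ := hiso.surj hy
      exact ha.map_mem (hU hx)
    have hw' : w ∈ ResA F' p U := residual_map_mono p (autGroup_mono hF₂i.1 U) hw
    exact hF₂i.2.2 X hXS₂ (congr_mem_res_of_strong (strongInvF_of_invariant a5 a6) hiso
      (hU.trans hS₂S') (hXS₂.trans hS₂S') hw')
  · exact (isNormalIn_iff E F₂ p).2 ⟨b1, hF₂s, hEF₂,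
      ⟨hTS₂, fun R hR φ hφ x => b4.2 R hR φ (hF₂i.1 R hφ) x⟩,
      fun P f hf a ha X hX => b5 P f hf a ⟨ha.mor.of_subsystem hF₂i.1, ha.2⟩ X hX,
      fratF_of_smaller hS' b4 b5 b6 hS₂S' hTS₂ hF₂s hF₂i.1 (fun κ hκ hc => by
        rw [haut]
        exact hcop κ (st.aut ▸ hκ) hc),
      extF_of_pPower hS' b1 hTS' b7 hX' hS₂S' hF₂i⟩
  · exact (limit_ppower_iff hS' a1 hS₂S' hS₂n hF₂s hF₂i L).1 (st.lim L hL)

end Cfsg.Agent.Lib.Helper87
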