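import Cfsg.Agent.Lib.Helper87.RL5

set_option autoImplicit false

namespace Cfsg.Agent.Lib.Helper87

open Cfsg Cfsg.FusionSystem

variable {Ω : Type*} [Group Ω]

theorem kSystem_invF_big {S S' T : Subgroup Ω} {p : ℕ} {E : FusionSystem T} {F' : FusionSystem S'}
    {F : FusionSystem S} {K : Subgroup (MulAut T)} (h : KData E F' p K) (hinv : InvF E F)
    (hKn : ∀ α ∈ F.autGroup T, ∀ κ ∈ K, α * κ * α⁻¹ ∈ K) : InvF h.kSystem F := by
  intro P f hf a ha X hX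
  obtain ⟨κ, hκ, f₀, hf₀, e⟩ := (h.mor_kSystem_iff P f).1 hf
  obtain ⟨α, hα, eα⟩ := ha.exists_aut
  obtain ⟨χ₀, hχ₀, hc⟩ := hinv P f₀ hf₀ a ha X hX
  refine ⟨autFun (α * κ * α⁻¹) ∘ χ₀, (h.mor_kSystem_iff X _).2
    ⟨_, hKn α hα κ hκ, χ₀, hχ₀, fun _ _ => rfl⟩, fun x hx => ?_⟩
  show autFun (α * κ * α⁻¹) (χ₀ (a x)) = a (f x)
  have h1 : f₀ x ∈ T := hf₀.mem hx
  have h2 : a (f₀ x) = autFun α (f₀ x) := by rw [autFun_apply α h1, eα]
  rw [hc x hx, h2, autFun_mul _ _ (autFun_mem α h1), autFun_mul _ _ (autFun_mem α⁻¹ (autFun_mem α h1)),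
    autFun_inv_autFun α h1, e x hx, autFun_apply α (autFun_mem κ h1), eα]

/-- The step through a factor of order prime to `p`. -/
theorem Stage.qstep {S T : Subgroup Ω} [Finite S] {p : ℕ} [Fact p.Prime] (hS : IsPGroup p S)
    {E : FusionSystem T} {F : FusionSystem S} (hE : E.IsNormalIn F p)
    {K K' : Subgroup (MulAut T)} {S' : Subgroup Ω} {F' : FusionSystem S'}
    (st : Stage E F p K' S' F') (hA₀ : E.autGroup T ≤ K) (hKK' : K ≤ K')
    (hKn : ∀ α ∈ F.autGroup T, ∀ κ ∈ K, α * κ * α⁻¹ ∈ K)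
    (hpel : ∀ x ∈ K', ∀ k : ℕ, x ^ (p ^ k) = 1 → x ∈ K) :
    ∃ (S₂ : Subgroup Ω) (F₂ : FusionSystem S₂), Stage E F p K S₂ F₂ := by
  obtain ⟨a1, a2, a3, a4, a5, a6, a7⟩ := (isNormalIn_iff F' F p).1 st.nF
  obtain ⟨b1, -, b3, b4, b5, b6, b7⟩ := (isNormalIn_iff E F' p).1 st.nE
  obtain ⟨-, -, -, c4, c5, -, -⟩ := (isNormalIn_iff E F p).1 hE
  have hS'S : S' ≤ S := a4.1
  have hfin' : Finite S' := finite_of_le hS'S
  have hS' : IsPGroup p S' := hS.to_le hS'S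
  have hTS' : T ≤ S' := b4.1
  have hfinT : Finite T := finite_of_le c4.1
  have hK : KData E F' p K := ⟨b1, a1, b3, b4, b5, b6, st.aut ▸ hKK',
    fun α hα κ hκ => hKn α (autGroup_mono a3 T hα) κ hκ, hA₀,
    fun α hα k hk => hpel α (st.aut ▸ hα) k hk⟩
  have hX : T ⊔ centralizerIn S' T ∈ KData.fam E F' := by
    refine ⟨centric_sup_centralizer b4, ?_⟩
    rw [inf_eq_right.2 le_sup_left]
    exact centric_top E
  have hKle : ∀ κ ∈ K, Mor (hK.sys hS') T (autFun κ) := by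
    intro κ hκ
    obtain ⟨f', hf', e, -⟩ := receptive_extend_centralizer (fullyNormalized_receptive hS' a1
      (fullyNormalized_of_normal F' hTS' (StronglyClosed.le_normalizer b4))) (hK.iso hκ)
    have h1 : Mor (hK.sys hS') (T ⊔ centralizerIn S' T) f' := by
      rw [hK.mor_sys_iff hS' hX, inf_eq_right.2 le_sup_left]
      exact ⟨hf', (hK.mor_of_K hκ).congr (fun x hx => (e x hx).symm)⟩
    exact (h1.mono le_sup_left).congr e
  have haut : (hK.sys hS').autGroup T = K := by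
    apply le_antisymm
    · intro α hα
      have h1 := (hK.mor_sys_big hS' ((mem_autGroup_iff _ hTS' α).1 hα)).2
      rw [inf_idem] at h1
      obtain ⟨κ, hκ, e⟩ := (hK.mor_top_iff _).1 h1
      have : α = κ := by
        ext x
        rw [← autFun_coe, ← autFun_coe]
        exact e x x.2
      rw [this]
      exact hκ
    · intro κ hκ
      exact (mem_autGroup_iff _ hTS' κ).2 (hKle κ hκ)
  have hinvbig : InvF (hK.sys hS') F := by
    have hle : hK.sys hS' ≤ invPart (hK.sys hS') (resSystem F a4) := by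
      refine genPart_gen _ _ _ (fun P hP φ hφ => ?_)
      show InvE (hK.sys hS') (resSystem F a4) P (ext φ)
      have hm : Mor (hK.sys hS') P (ext φ) := Mor.of_hom hφ
      set f := ext φ
      have hm' := (hK.mor_sys_iff hS' hP f).1 hm
      refine ⟨(mor_resSystem_iff F a4 P f).2 ⟨hP.1.1, hm'.1.of_subsystem a3⟩, fun a ha X hXa => ?_⟩
      have haF : Iso F S' S' a := ⟨((mor_resSystem_iff F a4 S' a).1 ha.mor).2, ha.2⟩
      have haT : Iso F T T a := (haF.mor.mono hTS').iso_self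
        (fun t ht => StronglyClosed.map_mem c4 haF.mor (hTS' ht) ht)
      have hiso : Iso F P X a := ⟨haF.mor.mono hP.1.1, hXa⟩
      have hinf := StronglyClosed.iso_inf c4 hiso
      have hXf : X ∈ KData.fam E F' :=
        ⟨centric_img_of_invF a5 hP.1 haF hXa, centric_img_of_invF c5 hP.2 haT hinf.2⟩
      obtain ⟨χ₁, hχ₁, hc₁⟩ := a5 P f hm'.1 a haF X hXa
      obtain ⟨χ₂, hχ₂, hc₂⟩ := kSystem_invF_big hK c5 hKn (P ⊓ T) f hm'.2 a haT (X ⊓ T) hinf.2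
      refine ⟨χ₁, (hK.mor_sys_iff hS' hXf _).2 ⟨hχ₁, hχ₂.congr (fun y hy => ?_)⟩, hc₁⟩
      obtain ⟨x, hx, rfl⟩ := hinf.surj hy
      rw [hc₂ x hx, hc₁ x hx.1]
    intro P f hf a ha X hXa
    obtain ⟨φ, hφ, e⟩ := hf
    have h1 : InvE (hK.sys hS') (resSystem F a4) P (ext φ) := hle P hφ
    obtain ⟨χ, hχ, hc⟩ := h1.2 a ⟨(mor_resSystem_iff F a4 S' a).2 ⟨le_rfl, ha.mor⟩, ha.2⟩ X hXa
    exact ⟨χ, hχ, fun x hx => by rw [hc x hx, ext_apply φ hx, e]⟩
  refine ⟨S', hK.sys hS', st.le, ?_, ?_, haut, fun L hL => ?_⟩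
  · exact normal_trans st.nF (hK.sys_normal hS') (fun a ha x hx => ha.map_mem hx) hinvbig
      (centralizerIn_le_of_le hTS' st.le)
  · refine (isNormalIn_iff E _ p).2 ⟨b1, hK.sys_saturated hS', hK.E_le_sys hS' b7,
      StronglyClosed.of_le b4 (hK.sys_le hS'),
      fun P f hf a ha X hXa => b5 P f hf a ⟨ha.mor.of_subsystem (hK.sys_le hS'), ha.2⟩ X hXa,
      fun P f hP hf => ?_, fun a ha => ?_⟩
    · have h1 := (hK.mor_sys_big hS' hf).2
      rw [inf_eq_left.2 hP] at h1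
      obtain ⟨κ, hκ, f₀, hf₀, e⟩ := (hK.mor_kSystem_iff P f).1 h1
      exact ⟨_, f₀, iso_autFun (hKle κ hκ), hf₀, e⟩
    · obtain ⟨b, hb, e1, e2⟩ := b7 a ha
      refine ⟨b, ⟨?_, hb.2⟩, e1, e2⟩
      rw [hK.mor_sys_iff hS' hX, inf_eq_right.2 le_sup_left]
      exact ⟨hb.mor, (hK.mor_of_E ha.mor).congr (fun x hx => (e1 x hx).symm)⟩
  · exact (limit_primeIndex_iff hS' a1 (hK.sys_saturated hS') (hK.sys_primeIndex hS') L).1
      (st.lim L hL)

end Cfsg.Agent.Lib.Helper87
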