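import Cfsg.Agent.Lib.Helper87.Realized
import Cfsg.Agent.Lib.Helper87.NormRadical
import Cfsg.Agent.Lib.Helper87.SylTools

set_option autoImplicit false

namespace Cfsg.Agent.Lib.Helper87

open Cfsg Cfsg.FusionSystem

variable {Ω : Type*} [Group Ω] {S : Subgroup Ω} {G : Type*} [Group G]

/-- If `F` is realized by `G` on a Sylow subgroup and `H ⊴ G` meets that Sylow subgroup trivially,
then `G/H` realizes `F` on a Sylow subgroup. -/
theorem isRealizedBy_quotient [Finite G] {p : ℕ} [Fact p.Prime] {F : FusionSystem S} {ι : S →* G}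
    (h : F.IsRealizedBy ι) (T : Sylow p G) (hT : (T : Subgroup G) = ι.range) (H : Subgroup G)
    [hH : H.Normal] (hTH : ∀ x ∈ ι.range, x ∈ H → x = 1) :
    F.IsRealizedBy ((QuotientGroup.mk' H).comp ι) ∧
      ∃ T' : Sylow p (G ⧸ H), (T' : Subgroup (G ⧸ H)) = ((QuotientGroup.mk' H).comp ι).range := by
  have hinjT : ∀ a ∈ ι.range, ∀ b ∈ ι.range, QuotientGroup.mk' H a = QuotientGroup.mk' H b →
      a = b := by
    intro a ha b hb e
    have h1 : a⁻¹ * b ∈ H := QuotientGroup.eq.1 e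
    have h2 := hTH _ (ι.range.mul_mem (ι.range.inv_mem ha) hb) h1
    exact (inv_mul_eq_one.1 h2)
  refine ⟨⟨?_, ?_⟩, ?_⟩
  · intro a b e
    exact h.1 (hinjT _ ⟨a, rfl⟩ _ ⟨b, rfl⟩ e)
  · intro P hP φ hφ
    rw [h.2 P hP φ hφ]
    constructor
    · rintro ⟨g, hg⟩
      refine ⟨QuotientGroup.mk' H g, fun x => ?_⟩
      show QuotientGroup.mk' H (ι _) = _
      rw [hg x, map_mul, map_mul, map_inv]
      rfl
    · rintro ⟨gb, hg⟩
      obtain ⟨g, rfl⟩ := QuotientGroup.mk'_surjective H gb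
      let P₁ : Subgroup G := (P.subgroupOf S).map ι
      have hP₁ : P₁ ≤ (T : Subgroup G) := by
        rw [hT]
        rintro _ ⟨x, -, rfl⟩
        exact ⟨x, rfl⟩
      have hA : cj g P₁ ≤ (T : Subgroup G) ⊔ H := by
        rw [cj_le_iff]
        rintro _ ⟨x, hx, rfl⟩
        have e := hg ⟨x, hx⟩
        have h1 : QuotientGroup.mk' H (ι ⟨φ ⟨x, hx⟩, hφ _⟩) = QuotientGroup.mk' H (g * ι x * g⁻¹) := by
          rw [map_mul, map_mul, map_inv]
          exact e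
        have h2 : (ι ⟨φ ⟨x, hx⟩, hφ _⟩)⁻¹ * (g * ι x * g⁻¹) ∈ H := QuotientGroup.eq.1 h1
        have h3 : g * ι x * g⁻¹ =
            ι ⟨φ ⟨x, hx⟩, hφ _⟩ * ((ι ⟨φ ⟨x, hx⟩, hφ _⟩)⁻¹ * (g * ι x * g⁻¹)) := by group
        rw [h3]
        refine Subgroup.mul_mem _ ((le_sup_left : (T : Subgroup G) ≤ _) ?_)
          ((le_sup_right : H ≤ (T : Subgroup G) ⊔ H) h2)
        rw [hT]
        exact ⟨_, rfl⟩
      obtain ⟨κ, hκ, hc⟩ := conj_into_sylow_mod (Sylow_isSylIn T) (le_top : H ≤ ⊤)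
        (fun σ _ κ hκ => hH.conj_mem κ hκ σ) hA (isPGroup_cj (T.isPGroup'.to_le hP₁) g)
      have hκ1 : QuotientGroup.mk' H κ = 1 := (QuotientGroup.eq_one_iff κ).2 hκ
      refine ⟨κ * g, fun x => ?_⟩
      have hx₁ : ι ⟨x, hP x.2⟩ ∈ P₁ := ⟨⟨x, hP x.2⟩, x.2, rfl⟩
      have h1 := hc _ (conj_mem_cj (g := g) hx₁)
      rw [hT] at h1
      have h2 : κ * g * ι ⟨x, hP x.2⟩ * (κ * g)⁻¹ = κ * (g * ι ⟨x, hP x.2⟩ * g⁻¹) * κ⁻¹ := by group
      rw [h2]
      refine hinjT _ ⟨_, rfl⟩ _ h1 ?_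
      have e := hg x
      simp only [map_mul, map_inv, hκ1, one_mul, inv_one, mul_one]
      exact e
  · refine ⟨T.mapSurjective (QuotientGroup.mk'_surjective H), ?_⟩
    rw [MonoidHom.range_comp, ← hT]
    rfl

/-- The conjugation action of a realizing group on a subgroup with normal image. -/
theorem exists_autHom {F : FusionSystem S} {ι : S →* G} (h : F.IsRealizedBy ι) {Q : Subgroup Ω}
    (hQ : Q ≤ S) (hn : ((Q.subgroupOf S).map ι).Normal) :
    ∃ c : G →* F.autGroup Q, Function.Surjective c ∧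
      ∀ (g : G) (x : Q), tf ι (((c g : MulAut Q) x : Q) : Ω) = g * tf ι x * g⁻¹ := by
  let j : Q →* G := ι.comp (Subgroup.inclusion hQ)
  have hj : Function.Injective j := h.1.comp (Subgroup.inclusion_injective hQ)
  have hjr : j.range = (Q.subgroupOf S).map ι := by
    ext y
    constructor
    · rintro ⟨x, rfl⟩
      exact ⟨Subgroup.inclusion hQ x, x.2, rfl⟩
    · rintro ⟨x, hx, rfl⟩
      exact ⟨⟨x, hx⟩, rfl⟩
  have hn' : j.range.Normal := hjr ▸ hn
  let e : Q ≃* j.range := MonoidHom.ofInjective hj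
  let c₀ : G →* MulAut Q := (MulAut.congr e.symm).toMonoidHom.comp (MulAut.conjNormal (H := j.range))
  have hc₀ : ∀ (g : G) (x : Q), tf ι ((c₀ g x : Q) : Ω) = g * tf ι x * g⁻¹ := by
    intro g x
    have h1 : ((e (c₀ g x) : j.range) : G) = g * j x * g⁻¹ := by
      show ((e (e.symm (MulAut.conjNormal g (e.symm.symm x))) : j.range) : G) = _
      rw [MulEquiv.apply_symm_apply]
      rfl
    rw [tf_apply ι (hQ (c₀ g x).2), tf_apply ι (hQ x.2)]
    exact h1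
  have hmem : ∀ g, c₀ g ∈ F.autGroup Q := by
    intro g
    rw [mem_autGroup_iff F hQ, mor_realized_iff h]
    refine ⟨hQ, fun x hx => hQ (autFun_mem _ hx), g, fun x hx => ?_⟩
    rw [autFun_apply _ hx]
    exact hc₀ g ⟨x, hx⟩
  refine ⟨c₀.codRestrict _ hmem, ?_, fun g x => hc₀ g x⟩
  rintro ⟨α, hα⟩
  obtain ⟨-, -, g, hg⟩ := (mor_realized_iff h Q _).1 ((mem_autGroup_iff F hQ α).1 hα)
  refine ⟨g, Subtype.ext ?_⟩
  ext x
  show ((c₀ g x : Q) : Ω) = (α x : Q)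
  apply tf_inj h.1 (hQ (c₀ g x).2) (hQ (α x).2)
  rw [hc₀ g x, ← hg x x.2, autFun_coe]

end Cfsg.Agent.Lib.Helper87
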