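import Cfsg.Agent.Lib.Helper87.SurjSat
import Cfsg.Agent.Lib.Helper87.Invariant
import Cfsg.Agent.Lib.Helper87.SubnormalConstrained
import Cfsg.Agent.Lib.Helper88.NormalCentral

set_option autoImplicit false

namespace Cfsg.Agent.Lib.Helper87

open Cfsg Cfsg.FusionSystem

variable {Ω : Type*} [Group Ω] {S : Subgroup Ω} {Ω₁ : Type*} [Group Ω₁] {S₁ : Subgroup Ω₁}
  {Ω₂ : Type*} [Group Ω₂] {S₂ : Subgroup Ω₂}

namespace SurjMor

variable {F : FusionSystem S} {F₁ : FusionSystem S₁} {F₂ : FusionSystem S₂}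
  {θ₁ : Ω → Ω₁} {θ₂ : Ω₁ → Ω₂}

/-- Composition of surjective morphisms. -/
theorem comp (h₁ : SurjMor F F₁ θ₁) (h₂ : SurjMor F₁ F₂ θ₂) : SurjMor F F₂ (θ₂ ∘ θ₁) where
  map_mul := fun x hx y hy => by
    show θ₂ (θ₁ (x * y)) = _
    rw [h₁.map_mul x hx y hy, h₂.map_mul _ (h₁.mem x hx) _ (h₁.mem y hy)]
    rfl
  mem := fun s hs => h₂.mem _ (h₁.mem s hs)
  surj := fun y hy => by
    obtain ⟨z, hz, rfl⟩ := h₂.surj y hy
    obtain ⟨x, hx, rfl⟩ := h₁.surj z hz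
    exact ⟨x, hx, rfl⟩
  push := by
    intro P f hf P' hP'
    obtain ⟨f₁, hf₁, e₁⟩ := h₁.push P f hf (h₁.image P hf.le) (h₁.mem_image hf.le)
    obtain ⟨f₂, hf₂, e₂⟩ := h₂.push _ f₁ hf₁ P' (fun y => by
      rw [hP']
      constructor
      · rintro ⟨x, hx, rfl⟩
        exact ⟨θ₁ x, (h₁.mem_image hf.le _).2 ⟨x, hx, rfl⟩, rfl⟩
      · rintro ⟨z, hz, rfl⟩
        obtain ⟨x, hx, rfl⟩ := (h₁.mem_image hf.le _).1 hz
        exact ⟨x, hx, rfl⟩)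
    refine ⟨f₂, hf₂, fun x hx => ?_⟩
    show f₂ (θ₂ (θ₁ x)) = θ₂ (θ₁ (f x))
    rw [e₂ _ ((h₁.mem_image hf.le _).2 ⟨x, hx, rfl⟩), e₁ x hx]
  lift := by
    intro P' f' hf' P hP
    obtain ⟨f₁, hf₁, e₁⟩ := h₂.lift P' f' hf' (h₂.preimage P') (h₂.mem_preimage P')
    obtain ⟨f, hf, e⟩ := h₁.lift _ f₁ hf₁ P (fun x => by
      rw [hP, h₂.mem_preimage]
      constructor
      · rintro ⟨hx, hx'⟩
        exact ⟨hx, h₁.mem x hx, hx'⟩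
      · rintro ⟨hx, -, hx'⟩
        exact ⟨hx, hx'⟩)
    refine ⟨f, hf, fun x hx => ?_⟩
    have hx' := (hP x).1 hx
    show f' (θ₂ (θ₁ x)) = θ₂ (θ₁ (f x))
    rw [e₁ _ ((h₂.mem_preimage P' _).2 ⟨h₁.mem x hx'.1, hx'.2⟩), e x hx]

end SurjMor

/-- A surjective morphism factors through another one with smaller kernel. -/
theorem SurjMor.factor {F : FusionSystem S} {F₁ : FusionSystem S₁} {F₂ : FusionSystem S₂}
    {θ₁ : Ω → Ω₁} {θ₂ : Ω → Ω₂} (h₁ : SurjMor F F₁ θ₁) (h₂ : SurjMor F F₂ θ₂)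
    (hker : ∀ x ∈ S, θ₁ x = 1 → θ₂ x = 1) :
    ∃ θ : Ω₁ → Ω₂, SurjMor F₁ F₂ θ ∧ ∀ x ∈ S, θ (θ₁ x) = θ₂ x := by
  classical
  let θ : Ω₁ → Ω₂ := fun y => if hy : y ∈ S₁ then θ₂ (h₁.surj y hy).choose else 1
  have hwd : ∀ x ∈ S, ∀ x' ∈ S, θ₁ x = θ₁ x' → θ₂ x = θ₂ x' := by
    intro x hx x' hx' e
    have h3 : θ₁ (x⁻¹ * x') = 1 := by
      rw [h₁.map_mul _ (S.inv_mem hx) _ hx', h₁.map_inv hx, e, inv_mul_cancel]
    have h4 := hker _ (S.mul_mem (S.inv_mem hx) hx') h3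
    rw [h₂.map_mul _ (S.inv_mem hx) _ hx', h₂.map_inv hx] at h4
    exact (inv_mul_eq_one.1 h4)
  have hθ : ∀ x ∈ S, θ (θ₁ x) = θ₂ x := by
    intro x hx
    have hy := h₁.mem x hx
    show (if hy : θ₁ x ∈ S₁ then θ₂ (h₁.surj _ hy).choose else 1) = θ₂ x
    rw [dif_pos hy]
    exact hwd _ (h₁.surj _ hy).choose_spec.1 x hx (h₁.surj _ hy).choose_spec.2
  refine ⟨θ, ⟨?_, ?_, ?_, ?_, ?_⟩, hθ⟩
  · intro a ha b hb
    obtain ⟨x, hx, rfl⟩ := h₁.surj a ha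
    obtain ⟨y, hy, rfl⟩ := h₁.surj b hb
    rw [← h₁.map_mul x hx y hy, hθ _ (S.mul_mem hx hy), hθ x hx, hθ y hy, h₂.map_mul x hx y hy]
  · intro a ha
    obtain ⟨x, hx, rfl⟩ := h₁.surj a ha
    rw [hθ x hx]
    exact h₂.mem x hx
  · intro y hy
    obtain ⟨x, hx, rfl⟩ := h₂.surj y hy
    exact ⟨θ₁ x, h₁.mem x hx, hθ x hx⟩
  · intro P₁ f₁ hf₁ P₂ hP₂
    obtain ⟨f, hf, e⟩ := h₁.lift P₁ f₁ hf₁ (h₁.preimage P₁) (h₁.mem_preimage P₁)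
    obtain ⟨f₂, hf₂, e₂⟩ := h₂.push _ f hf P₂ (fun y => by
      rw [hP₂]
      constructor
      · rintro ⟨z, hz, rfl⟩
        obtain ⟨x, hx, rfl⟩ := h₁.surj z (hf₁.le hz)
        exact ⟨x, (h₁.mem_preimage P₁ x).2 ⟨hx, hz⟩, (hθ x hx).symm⟩
      · rintro ⟨x, hx, rfl⟩
        have hx' := (h₁.mem_preimage P₁ x).1 hx
        exact ⟨θ₁ x, hx'.2, hθ x hx'.1⟩)
    refine ⟨f₂, hf₂, fun z hz => ?_⟩
    obtain ⟨x, hx, rfl⟩ := h₁.surj z (hf₁.le hz)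
    have hxP : x ∈ h₁.preimage P₁ := (h₁.mem_preimage P₁ x).2 ⟨hx, hz⟩
    rw [hθ x hx, e₂ x hxP, e x hxP, hθ _ (hf.mem hxP)]
  · intro P₂ f₂ hf₂ P₁ hP₁
    obtain ⟨f, hf, e⟩ := h₂.lift P₂ f₂ hf₂ (h₂.preimage P₂) (h₂.mem_preimage P₂)
    obtain ⟨f₁, hf₁, e₁⟩ := h₁.push _ f hf P₁ (fun y => by
      rw [hP₁]
      constructor
      · rintro ⟨hy, hy'⟩
        obtain ⟨x, hx, rfl⟩ := h₁.surj y hy
        rw [hθ x hx] at hy'
        exact ⟨x, (h₂.mem_preimage P₂ x).2 ⟨hx, hy'⟩, rfl⟩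
      · rintro ⟨x, hx, rfl⟩
        have hx' := (h₂.mem_preimage P₂ x).1 hx
        exact ⟨h₁.mem x hx'.1, by rw [hθ x hx'.1]; exact hx'.2⟩)
    refine ⟨f₁, hf₁, fun z hz => ?_⟩
    have hz' := (hP₁ z).1 hz
    obtain ⟨x, hx, rfl⟩ := h₁.surj z hz'.1
    have hxP : x ∈ h₂.preimage P₂ := (h₂.mem_preimage P₂ x).2 ⟨hx, by rw [← hθ x hx]; exact hz'.2⟩
    rw [hθ x hx, e x hxP, e₁ x hxP, hθ _ (hf.mem hxP)]

/-- An automorphism in `Aut_F(T)` is an automorphism of an invariant subsystem over `T`. -/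
theorem surjMor_of_invF {T : Subgroup Ω} {E : FusionSystem T} {F : FusionSystem S}
    (hinv : InvF E F) {a : Ω → Ω} (ha : Iso F T T a) : SurjMor E E a where
  map_mul := fun x hx y hy => ha.1.map_mul hx hy
  mem := fun s hs => ha.map_mem hs
  surj := fun y hy => ha.surj hy
  push := fun P f hf P' hP' => hinv P f hf a ha P' hP'
  lift := by
    intro P' f' hf' P hP
    obtain ⟨b, hb, hba, hab⟩ := ha.symm
    obtain ⟨χ, hχ, hc⟩ := hinv P' f' hf' b hb P (fun y => by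
      rw [hP]
      constructor
      · rintro ⟨hy, hy'⟩
        exact ⟨a y, hy', hba y hy⟩
      · rintro ⟨x, hx, rfl⟩
        exact ⟨hb.map_mem (hf'.le hx), by rw [hab x (hf'.le hx)]; exact hx⟩)
    refine ⟨χ, hχ, fun x hx => ?_⟩
    have hx' := (hP x).1 hx
    have h1 := hc (a x) hx'.2
    rw [hba x hx'.1] at h1
    rw [h1, hab _ (hf'.mem hx'.2)]

theorem SurjMor.image_core_le [Finite S] {F : FusionSystem S} {F₁ : FusionSystem S₁} {θ₁ : Ω → Ω₁}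
    (h : SurjMor F F₁ θ₁) : ∀ x ∈ F.core, θ₁ x ∈ F₁.core := by
  intro x hx
  have hQ := Cfsg.Agent.Lib.Helper88.isNormal_core F
  have hle : h.image F.core hQ.1 ≤ F₁.core := le_sSup (h.isNormal_image hQ)
  exact hle ((h.mem_image hQ.1 _).2 ⟨x, hx, rfl⟩)

/-- A surjective endomorphism of a system over a finite group is injective. -/
theorem SurjMor.inj_of_endo [Finite S] {F F' : FusionSystem S} {θ : Ω → Ω} (h : SurjMor F F' θ) :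
    ∀ x ∈ S, ∀ y ∈ S, θ x = θ y → x = y := by
  let g : S → S := fun x => ⟨θ x, h.mem x x.2⟩
  have hs : Function.Surjective g := by
    rintro ⟨y, hy⟩
    obtain ⟨x, hx, rfl⟩ := h.surj y hy
    exact ⟨⟨x, hx⟩, rfl⟩
  have hi := Finite.injective_iff_surjective.2 hs
  intro x hx y hy e
  exact congrArg Subtype.val (@hi ⟨x, hx⟩ ⟨y, hy⟩ (Subtype.ext e))

end Cfsg.Agent.Lib.Helper87
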